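import Groth.Agent.LHilb.Alg
import Groth.Prelude.Def_ArtFun6
import Mathlib

/-!
# Sections of `X ×_k Spec A` over the preimage of an affine open
-/

set_option autoImplicit false
universe u

open TensorProduct CategoryTheory CategoryTheory.Limits AlgebraicGeometry ArtFun ArtFun.Art

namespace Groth.Agent.LHilb

variable {k : Type u} [Field k] {X : Scheme.{u}} (x : X ⟶ specPt k)

/-- The structure map of the sections of an open. -/
noncomputable def strMap (U : X.Opens) : k →+* Γ(X, U) :=
  ((Scheme.ΓSpecIso (CommRingCat.of k)).inv ≫ x.appLE ⊤ U le_top).hom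

set_option linter.unusedVariables false in
/-- Sections of an open, as a `k`-algebra. -/
def Sec (x : X ⟶ specPt k) (U : X.Opens) : Type u := Γ(X, U)

noncomputable instance (U : X.Opens) : CommRing (Sec x U) := inferInstanceAs (CommRing Γ(X, U))

noncomputable instance (U : X.Opens) : Algebra k (Sec x U) := (strMap x U : k →+* Sec x U).toAlgebra

variable (A : Art k k)

/-- The preimage of an affine open. -/
noncomputable def preU (U : X.affineOpens) : (XA x A).affineOpens :=
  haveI : IsAffineHom (pullback.fst x (specOver A)) := MorphismProperty.pullback_fst (P := @IsAffineHom) _ _ inferInstance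
  ⟨pullback.fst x (specOver A) ⁻¹ᵁ U.1, U.2.preimage _⟩

/-- sections of `Spec A` pulled back. -/
noncomputable def sndMap (V : (XA x A).Opens) : CommRingCat.of A ⟶ Γ(XA x A, V) :=
  (Scheme.ΓSpecIso (CommRingCat.of A)).inv ≫ (XApr x A).appLE ⊤ V le_top

/-- The pullback of sections of `U`. -/
noncomputable def fstMap (U : X.affineOpens) : Sec x U.1 →+* Γ(XA x A, (preU x A U).1) :=
  ((pullback.fst x (specOver A)).appLE U.1 (preU x A U).1 le_rfl).hom

theorem sndMap_algebraMap (U : X.affineOpens) (c : k) :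
    sndMap x A (preU x A U).1 (algebraMap k A c) = fstMap x A U (algebraMap k (Sec x U.1) c) := by
  have h1 : (specOver A).appTop ((Scheme.ΓSpecIso (CommRingCat.of k)).inv c) =
      (Scheme.ΓSpecIso (CommRingCat.of A)).inv (algebraMap k A c) := by
    have h := congr($((Scheme.ΓSpecIso_inv_naturality (CommRingCat.ofHom (Art.ofBase A).toAlgHom.toRingHom))) c)
    exact h.symm
  change (XApr x A).appLE ⊤ (preU x A U).1 le_top ((Scheme.ΓSpecIso (CommRingCat.of A)).inv (algebraMap k A c)) =
    (pullback.fst x (specOver A)).appLE U.1 (preU x A U).1 le_rfl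
      (x.appLE ⊤ U.1 le_top ((Scheme.ΓSpecIso (CommRingCat.of k)).inv c))
  rw [← h1, ← CommRingCat.comp_apply, ← CommRingCat.comp_apply (x.appLE ⊤ U.1 le_top),
    Scheme.Hom.appLE_comp_appLE,
    show (specOver A).appTop = (specOver A).appLE ⊤ ⊤ le_top by simp [Scheme.Hom.appLE],
    Scheme.Hom.appLE_comp_appLE]
  simp only [pullback.condition]

/-- The chart `A ⊗ Γ(X, U) → Γ(X_A, U_A)`. -/
noncomputable def chart (U : X.affineOpens) : A ⊗[k] Sec x U.1 →+* Γ(XA x A, (preU x A U).1) :=
  letI : Algebra k Γ(XA x A, (preU x A U).1) :=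
    ((sndMap x A (preU x A U).1).hom.comp (algebraMap k A)).toAlgebra
  (Algebra.TensorProduct.lift (⟨(sndMap x A (preU x A U).1).hom, fun _ => rfl⟩ : A →ₐ[k] Γ(XA x A, (preU x A U).1))
    (⟨fstMap x A U, fun c => (sndMap_algebraMap x A U c).symm⟩ : Sec x U.1 →ₐ[k] Γ(XA x A, (preU x A U).1))
    (fun _ _ => Commute.all _ _)).toRingHom

@[simp] theorem chart_tmul (U : X.affineOpens) (a : A) (r : Sec x U.1) :
    chart x A U (a ⊗ₜ r) = sndMap x A (preU x A U).1 a * fstMap x A U r := rfl

theorem chart_bijective (U : X.affineOpens) : Function.Bijective (chart x A U) := by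
  have H : IsPullback (pullback.fst x (specOver A)) (XApr x A) x (specOver A) := IsPullback.of_hasPullback _ _
  have hUY : (preU x A U).1 = pullback.fst x (specOver A) ⁻¹ᵁ U.1 ⊓ XApr x A ⁻¹ᵁ ⊤ := by
    simp [preU]
  have h0 := (isIso_pushoutSection_iff H (US := ⊤) (UT := ⊤) (UX := U.1) le_top le_top hUY).1
    (isIso_pushoutSection_of_isAffineOpen H le_top le_top hUY (isAffineOpen_top _) (isAffineOpen_top _) U.2)
  have hpo : IsPushout (CommRingCat.ofHom (algebraMap k A)) (CommRingCat.ofHom (algebraMap k (Sec x U.1)))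
      (sndMap x A (preU x A U).1) (CommRingCat.ofHom (fstMap x A U)) := by
    refine IsPushout.of_iso h0.flip (Scheme.ΓSpecIso (CommRingCat.of k)) (Scheme.ΓSpecIso (CommRingCat.of A))
      (Iso.refl _) (Iso.refl _) ?_ ?_ ?_ ?_
    · rw [show (specOver A).appLE ⊤ ⊤ le_top = (specOver A).appTop by simp [Scheme.Hom.appLE]]
      exact Scheme.ΓSpecIso_naturality (CommRingCat.ofHom (algebraMap k A))
    · change x.appLE ⊤ U.1 le_top ≫ 𝟙 _ =
        (Scheme.ΓSpecIso (CommRingCat.of k)).hom ≫ (Scheme.ΓSpecIso (CommRingCat.of k)).inv ≫ x.appLE ⊤ U.1 le_top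
      simp
    · simp [sndMap]
    · simp [fstMap]
      rfl
  have hte := CommRingCat.isPushout_tensorProduct k A (Sec x U.1)
  have he : CommRingCat.ofHom (chart x A U) = (hte.isoIsPushout _ _ hpo).hom := by
    apply hte.hom_ext
    · rw [IsPushout.inl_isoIsPushout_hom]
      ext a
      simp [chart_tmul]
    · rw [IsPushout.inr_isoIsPushout_hom]
      ext a
      simp [chart_tmul]
  have := ConcreteCategory.bijective_of_isIso (hte.isoIsPushout _ _ hpo).hom
  rw [← he] at this
  exact this

/-- Restriction of sections. -/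
noncomputable def secRes {U U' : X.Opens} (h : U' ≤ U) : Sec x U →ₐ[k] Sec x U' :=
  ⟨(X.presheaf.map (homOfLE h).op).hom, fun c => by
    change ((x.appLE ⊤ U le_top ≫ X.presheaf.map (homOfLE h).op).hom)
      ((Scheme.ΓSpecIso (CommRingCat.of k)).inv c) = x.appLE ⊤ U' le_top ((Scheme.ΓSpecIso (CommRingCat.of k)).inv c)
    rw [Scheme.Hom.appLE_map]⟩

theorem preU_le_XAmap {B : Art k k} (g : A ⟶ B) (U : X.affineOpens) :
    (preU x B U).1 ≤ XAmap x g ⁻¹ᵁ (preU x A U).1 :=
  le_of_eq (by simp [preU, ← Scheme.Hom.comp_preimage])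

theorem chart_XAmap {B : Art k k} (g : A ⟶ B) (U : X.affineOpens) (z : A ⊗[k] Sec x U.1) :
    (XAmap x g).appLE _ _ (preU_le_XAmap x A g U) (chart x A U z) = chart x B U (mapT (Sec x U.1) g z) := by
  induction z using TensorProduct.induction_on with
  | zero => simp
  | tmul a r =>
    rw [chart_tmul, map_mul, mapT_tmul, chart_tmul]
    congr 1
    · change (sndMap x A _ ≫ (XAmap x g).appLE _ _ _) a = (CommRingCat.ofHom g.toAlgHom.toRingHom ≫ sndMap x B _) a
      have hh : sndMap x A (preU x A U).1 ≫ (XAmap x g).appLE _ _ (preU_le_XAmap x A g U) =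
          CommRingCat.ofHom g.toAlgHom.toRingHom ≫ sndMap x B (preU x B U).1 := by
       rw [sndMap, Category.assoc, Scheme.Hom.appLE_comp_appLE, sndMap,
        Scheme.ΓSpecIso_inv_naturality_assoc,
        show (Spec.map (CommRingCat.ofHom g.toAlgHom.toRingHom)).appTop = (specMap g).appLE ⊤ ⊤ le_top by
          simp [Scheme.Hom.appLE]; rfl,
        Scheme.Hom.appLE_comp_appLE]
       simp only [XAmap_snd]
      exact congr($hh a)
    · change ((pullback.fst x (specOver A)).appLE _ _ _ ≫ (XAmap x g).appLE _ _ _) r =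
        (pullback.fst x (specOver B)).appLE _ _ _ r
      rw [Scheme.Hom.appLE_comp_appLE]
      simp only [XAmap_fst]
  | add z w hz hw => simp [hz, hw]

theorem le_XAincl (U : X.affineOpens) : U.1 ≤ XAincl x A ⁻¹ᵁ (preU x A U).1 :=
  le_of_eq (by simp [preU, ← Scheme.Hom.comp_preimage])

theorem chart_XAincl (U : X.affineOpens) (z : A ⊗[k] Sec x U.1) :
    (XAincl x A).appLE _ _ (le_XAincl x A U) (chart x A U z) = resT (Sec x U.1) A z := by
  induction z using TensorProduct.induction_on with
  | zero => simp; rfl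
  | tmul a r =>
    rw [chart_tmul, map_mul, resT_tmul, Algebra.smul_def]
    congr 1
    · change (sndMap x A _ ≫ (XAincl x A).appLE _ _ _) a =
        (CommRingCat.ofHom A.res.toRingHom ≫ (Scheme.ΓSpecIso (CommRingCat.of k)).inv ≫ x.appLE ⊤ U.1 le_top) a
      have hh : sndMap x A (preU x A U).1 ≫ (XAincl x A).appLE _ _ (le_XAincl x A U) =
          CommRingCat.ofHom A.res.toRingHom ≫ (Scheme.ΓSpecIso (CommRingCat.of k)).inv ≫ x.appLE ⊤ U.1 le_top := by
       rw [sndMap, Category.assoc, Scheme.Hom.appLE_comp_appLE, Scheme.ΓSpecIso_inv_naturality_assoc,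
        show (Spec.map (CommRingCat.ofHom A.res.toRingHom)).appTop = (specRes A).appLE ⊤ ⊤ le_top by
          simp [Scheme.Hom.appLE]; rfl,
        Scheme.Hom.appLE_comp_appLE]
       simp only [XAincl_snd]
      exact congr($hh a)
    · change ((pullback.fst x (specOver A)).appLE _ _ _ ≫ (XAincl x A).appLE _ _ _) r = r
      rw [Scheme.Hom.appLE_comp_appLE]
      simp only [XAincl_fst]
      simp [Scheme.Hom.appLE]
      exact congr($(X.presheaf.map_id _) r)
  | add z w hz hw => simp [hz, hw]; rfl

theorem preU_mono {U U' : X.affineOpens} (h : U'.1 ≤ U.1) : (preU x A U').1 ≤ (preU x A U).1 :=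
  Scheme.Hom.preimage_mono _ h

theorem chart_secRes {U U' : X.affineOpens} (h : U'.1 ≤ U.1) (z : A ⊗[k] Sec x U.1) :
    (XA x A).presheaf.map (homOfLE (preU_mono x A h)).op (chart x A U z) =
      chart x A U' (Algebra.TensorProduct.map (AlgHom.id k A) (secRes x h) z) := by
  induction z using TensorProduct.induction_on with
  | zero => simp
  | tmul a r =>
    rw [chart_tmul, map_mul, Algebra.TensorProduct.map_tmul, chart_tmul]
    congr 1
    · change (sndMap x A _ ≫ (XA x A).presheaf.map _) a = sndMap x A _ a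
      rw [sndMap, Category.assoc, Scheme.Hom.appLE_map]
      rfl
    · change ((pullback.fst x (specOver A)).appLE _ _ _ ≫ (XA x A).presheaf.map _) r =
        (X.presheaf.map (homOfLE h).op ≫ (pullback.fst x (specOver A)).appLE _ _ _) r
      rw [Scheme.Hom.appLE_map, Scheme.Hom.map_appLE]
  | add z w hz hw => simp [hz, hw]

/-- `X → X_A` is surjective. -/
theorem surjective_XAincl : Function.Surjective (XAincl x A).base := by
  have hs : Surjective (XAincl x A) := by
    refine MorphismProperty.of_isPullback (P := @Surjective) (isPullback_XAincl x A).flip ?_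
    refine ⟨fun p => ⟨default, ?_⟩⟩
    haveI : Subsingleton (spec A) := by
      refine ⟨fun p q => PrimeSpectrum.ext ?_⟩
      rw [IsLocalRing.eq_maximalIdeal (IsArtinianRing.isMaximal_of_isPrime (R := A.carrier) p.asIdeal),
        IsLocalRing.eq_maximalIdeal (IsArtinianRing.isMaximal_of_isPrime (R := A.carrier) q.asIdeal)]
    exact Subsingleton.elim _ _
  exact hs.1

theorem preimage_fst_XAincl (V : (XA x A).Opens) :
    pullback.fst x (specOver A) ⁻¹ᵁ (XAincl x A ⁻¹ᵁ V) = V := by
  ext p
  obtain ⟨q, rfl⟩ := surjective_XAincl x A p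
  change (XAincl x A).base ((pullback.fst x (specOver A)).base ((XAincl x A).base q)) ∈ V ↔ _
  rw [← Scheme.Hom.comp_apply (XAincl x A) (pullback.fst x (specOver A)), XAincl_fst]
  rfl

/-- Every affine open of `X_A` comes from `X`. -/
theorem exists_preU_eq (V : (XA x A).affineOpens) : ∃ U : X.affineOpens, preU x A U = V := by
  haveI : IsClosedImmersion (XAincl x A) := by
    refine MorphismProperty.of_isPullback (P := @IsClosedImmersion) (isPullback_XAincl x A).flip ?_
    exact IsClosedImmersion.spec_of_surjective _ A.res_surjective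
  exact ⟨⟨XAincl x A ⁻¹ᵁ V.1, V.2.preimage _⟩, Subtype.ext (preimage_fst_XAincl x A V.1)⟩

end Groth.Agent.LHilb
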