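import Groth.Agent.LHilb.OfFam
import Groth.Agent.ArtFib.Basic
import Mathlib

/-!
# The obstruction extension of a good ideal along a small extension
-/

set_option autoImplicit false
universe u

open TensorProduct IsLocalRing CategoryTheory ArtFun

namespace Groth.Agent.LHilb

variable {k : Type u} [Field k] {A B : Art k k}

/-- A surjection with kernel `k t`, `t` killed by the maximal ideal. -/
structure LineExt (p : B ⟶ A) (t : B) : Prop where
  surj : Function.Surjective p
  ker_eq : ∀ b : B, p b = 0 ↔ ∃ c : k, b = c • t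
  kill : ∀ b ∈ maximalIdeal B.carrier, b * t = 0
  ne_zero : t ≠ 0

/-- An element of the kernel of a surjection. -/
structure KerElt (p : B ⟶ A) (t : B) : Prop where
  surj : Function.Surjective p
  map_t : p t = 0

theorem KerElt.res_t {p : B ⟶ A} {t : B} (E : KerElt p t) : B.res t = 0 := by
  rw [← Art.res_app p t, E.map_t, map_zero]

namespace LineExt

variable {p : B ⟶ A} {t : B} (E : LineExt p t)
include E

theorem map_t : p t = 0 := (E.ker_eq t).2 ⟨1, (one_smul k t).symm⟩

theorem kerElt : KerElt p t := ⟨E.surj, E.map_t⟩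

theorem res_t : B.res t = 0 := by rw [← Art.res_app p t, E.map_t, map_zero]

theorem mul_t (b : B) : b * t = B.res b • t := by
  have h : b - algebraMap k B (B.res b) ∈ maximalIdeal B.carrier := by
    rw [Art.mem_maximalIdeal_iff, map_sub, AlgHom.commutes, Algebra.algebraMap_self_apply, sub_self]
  rw [Algebra.smul_def, ← sub_eq_zero, ← sub_mul]
  exact E.kill _ h

variable (R : Type u) [CommRing R] [Algebra k R]

theorem mul_t_tmul (z : B ⊗[k] R) (r : R) : z * (t ⊗ₜ r) = t ⊗ₜ (resT R B z * r) := by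
  induction z using TensorProduct.induction_on with
  | zero => simp
  | tmul b s => rw [Algebra.TensorProduct.tmul_mul_tmul, E.mul_t, resT_tmul, smul_tmul, smul_mul_assoc]
  | add y z hy hz => rw [add_mul, map_add, add_mul, tmul_add, hy, hz]

theorem ker_mapT (z : B ⊗[k] R) (hz : mapT R p z = 0) : ∃ r : R, z = t ⊗ₜ r := by
  have hex : Function.Exact (LinearMap.toSpanSingleton k B t) p.toAlgHom.toLinearMap := fun b => by
    refine (E.ker_eq b).trans ⟨fun ⟨c, hc⟩ => ⟨c, hc.symm⟩, fun ⟨c, hc⟩ => ⟨c, hc.symm⟩⟩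
  have := rTensor_exact (R := k) R hex E.surj
  obtain ⟨w, hw⟩ := (this z).1 hz
  refine ⟨(TensorProduct.lid k R) w, hw.symm.trans ?_⟩
  clear hw
  induction w using TensorProduct.induction_on with
  | zero => simp
  | tmul c r => simp [smul_tmul]
  | add a b ha hb => rw [map_add, map_add, tmul_add, ha, hb]

end LineExt

theorem exists_lineExt (p : B ⟶ A) (hp : Art.IsSmallExt p) : ∃ t : B, LineExt p t := by
  obtain ⟨hs, hne, ⟨t, ht⟩, hm⟩ := hp
  have hkill : ∀ b ∈ maximalIdeal B.carrier, b * t = 0 := fun b hb => by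
    have : b * t ∈ maximalIdeal B.carrier * RingHom.ker p.toAlgHom :=
      Ideal.mul_mem_mul hb (ht ▸ Submodule.mem_span_singleton_self t)
    rwa [hm, Ideal.mem_bot] at this
  refine ⟨t, hs, fun b => ⟨fun hb => ?_, ?_⟩, hkill, fun h0 => hne ?_⟩
  · obtain ⟨a, ha⟩ := Ideal.mem_span_singleton'.1 (ht ▸ (RingHom.mem_ker.2 hb : b ∈ RingHom.ker p.toAlgHom))
    refine ⟨B.res a, ?_⟩
    have h : a - algebraMap k B (B.res a) ∈ maximalIdeal B.carrier := by
      rw [Art.mem_maximalIdeal_iff, map_sub, AlgHom.commutes, Algebra.algebraMap_self_apply, sub_self]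
    rw [← ha, Algebra.smul_def, ← sub_eq_zero, ← sub_mul]
    exact hkill _ h
  · rintro ⟨c, rfl⟩
    change p.toAlgHom (c • t) = 0
    rw [map_smul, RingHom.mem_ker.1 (ht.ge (Submodule.mem_span_singleton_self t)), smul_zero]
  · rw [ht, h0]
    exact Ideal.span_singleton_eq_bot.2 rfl

variable {R : Type u} [CommRing R] [Algebra k R] {J : Ideal R} {I : Ideal (A ⊗[k] R)} {p : B ⟶ A} {t : B}

/-- The preimage of the ideal. -/
noncomputable def obP (p : B ⟶ A) (I : Ideal (A ⊗[k] R)) : Ideal (B ⊗[k] R) := I.comap (mapT R p)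

/-- The relations `m P + t J`. -/
noncomputable def obK (p : B ⟶ A) (t : B) (J : Ideal R) (I : Ideal (A ⊗[k] R)) : Ideal (B ⊗[k] R) :=
  (maximalIdeal B.carrier).map (algebraMap B.carrier (B ⊗[k] R)) * obP p I ⊔
    Ideal.span {(t : B) ⊗ₜ[k] (1 : R)} * J.comap (resT R B)

theorem mem_obK_smul {a : B} (ha : a ∈ maximalIdeal B.carrier) {z : B ⊗[k] R} (hz : z ∈ obP p I) :
    a • z ∈ obK p t J I := by
  refine Submodule.mem_sup_left ?_
  rw [Algebra.smul_def]
  exact Ideal.mul_mem_mul (Ideal.mem_map_of_mem _ ha) hz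

theorem t_tmul_mem_obK (E : KerElt p t) {r : R} (hr : r ∈ J) : (t : B) ⊗ₜ[k] r ∈ obK p t J I := by
  refine Submodule.mem_sup_right ?_
  have h1 : (1 : B) ⊗ₜ[k] r ∈ J.comap (resT R B) := by rwa [Ideal.mem_comap, resT_tmul, map_one, one_smul]
  have := Ideal.mul_mem_mul (Ideal.mem_span_singleton_self ((t : B) ⊗ₜ[k] (1 : R))) h1
  rwa [Algebra.TensorProduct.tmul_mul_tmul, mul_one, one_mul] at this

theorem t_tmul_mem_obP (E : KerElt p t) (r : R) : (t : B) ⊗ₜ[k] r ∈ obP p I := by
  rw [obP, Ideal.mem_comap, mapT_tmul, E.map_t, zero_tmul]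
  exact I.zero_mem

theorem resT_mem_of_mem_obP (h : Good R J A I) {z : B ⊗[k] R} (hz : z ∈ obP p I) : resT R B z ∈ J := by
  rw [← resT_mapT R p]
  exact h.resT_mem hz

theorem obK_le (E : KerElt p t) : obK p t J I ≤ obP p I := by
  refine sup_le Ideal.mul_le_right (Ideal.mul_le_left.trans (Ideal.span_le.2 ?_))
  rintro _ rfl
  exact t_tmul_mem_obP E 1

theorem resT_eq_zero_of_mem_obK (E : KerElt p t) (h : Good R J A I) {z : B ⊗[k] R} (hz : z ∈ obK p t J I) :
    resT R B z = 0 := by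
  rw [← RingHom.mem_ker (f := resT R B)]
  refine SetLike.le_def.1 (sup_le ?_ ?_) hz
  · refine Ideal.mul_le_left.trans (Ideal.map_le_iff_le_comap.2 fun a ha => ?_)
    rw [Ideal.mem_comap, RingHom.mem_ker, Algebra.TensorProduct.algebraMap_apply, Algebra.algebraMap_self_apply,
      resT_tmul, (Art.mem_maximalIdeal_iff B a).1 ha, zero_smul]
  · refine Ideal.mul_le_left.trans (Ideal.span_le.2 ?_)
    rintro _ rfl
    rw [SetLike.mem_coe, RingHom.mem_ker, resT_tmul, E.res_t, zero_smul]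

theorem exists_resT_eq (E : KerElt p t) (h : Good R J A I) {j : R} (hj : j ∈ J) :
    ∃ z ∈ obP p I, resT R B z = j := by
  obtain ⟨w, hw, hwj⟩ := h.exists_mem hj
  obtain ⟨z, rfl⟩ := mapT_surjective R p E.surj w
  exact ⟨z, hw, (resT_mapT R p z).symm.trans hwj⟩

/-- The kernel of `P → J` is `t R + m P`. -/
theorem exists_sub_mem_obK (E : LineExt p t) (h : Good R J A I) {z : B ⊗[k] R} (hz : z ∈ obP p I)
    (h0 : resT R B z = 0) : ∃ r : R, z - (t : B) ⊗ₜ[k] r ∈ obK p t J I := by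
  have hw := sub_one_tmul_mem R A (mapT R p z)
  rw [resT_mapT, h0, tmul_zero, sub_zero] at hw
  choose π hπ using h.exists_repr
  have hdec : ∀ w ∈ maximalIdeal A.carrier • (⊤ : Submodule A (A ⊗[k] R)),
      ∃ (c : _) (y : B ⊗[k] R), y ∈ obK p t J I ∧ w = mapT R p y + cmb R J A c := by
    intro w hw
    refine Submodule.smul_induction_on hw (fun a ha y _ => ?_) ?_
    · obtain ⟨a', rfl⟩ := E.surj a
      obtain ⟨v, hv⟩ := mapT_surjective R p E.surj (y - cmb R J A (π y))
      refine ⟨p a' • π y, a' • v, mem_obK_smul ?_ ?_, ?_⟩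
      · rw [Art.mem_maximalIdeal_iff] at ha ⊢
        rwa [← Art.res_app p a']
      · rw [obP, Ideal.mem_comap, hv]; exact hπ y
      · rw [mapT_smul, hv, map_smul, smul_sub, sub_add_cancel]
    · rintro a b ⟨c, y, hy, rfl⟩ ⟨d, v, hv, rfl⟩
      exact ⟨c + d, y + v, add_mem hy hv, by rw [map_add, map_add]; abel⟩
  obtain ⟨c, y, hy, he⟩ := hdec _ hw
  have hc : cmb R J A c ∈ I := by
    have : mapT R p (z - y) ∈ I := I.sub_mem hz (obK_le E.kerElt hy) |> fun h' => by rwa [map_sub]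
    rwa [map_sub, he, add_sub_cancel_left] at this
  rw [h.eq_zero hc, map_zero, add_zero] at he
  obtain ⟨r, hr⟩ := E.ker_mapT R (z - y) (by rw [map_sub, he, sub_self])
  exact ⟨r, by rwa [← hr, sub_sub_cancel]⟩

/-- `R/J → P/K` is injective. -/
theorem mem_of_t_tmul_mem_obK (E : LineExt p t) (h : Good R J A I) {r : R}
    (hr : (t : B) ⊗ₜ[k] r ∈ obK p t J I) : r ∈ J := by
  choose π hπ using h.exists_repr
  have huniq : ∀ x c, x - cmb R J A c ∈ I → π x = c := fun x c hc => by
    refine sub_eq_zero.1 (h.eq_zero ?_)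
    rw [map_sub, show cmb R J A (π x) - cmb R J A c = (x - cmb R J A c) - (x - cmb R J A (π x)) by abel]
    exact I.sub_mem hc (hπ x)
  obtain ⟨s, hs⟩ : ∃ s : A.carrier →ₗ[k] B.carrier, p.toAlgHom.toLinearMap ∘ₗ s = LinearMap.id :=
    p.toAlgHom.toLinearMap.exists_rightInverse_of_surjective (LinearMap.range_eq_top.2 E.surj)
  have hs' : ∀ a, p (s a) = a := fun a => LinearMap.congr_fun hs a
  let P₀ : R →ₗ[k] (Idx (k := k) R J →₀ B) :=
    { toFun := fun r => (π (1 ⊗ₜ r)).mapRange s (map_zero s)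
      map_add' := fun r r' => by
        rw [huniq (1 ⊗ₜ (r + r')) (π (1 ⊗ₜ r) + π (1 ⊗ₜ r')) (by
          rw [map_add, tmul_add, add_sub_add_comm]; exact add_mem (hπ _) (hπ _))]
        exact Finsupp.mapRange_add (fun a b => map_add s a b) _ _
      map_smul' := fun c r => by
        rw [huniq (1 ⊗ₜ (c • r)) (algebraMap k A c • π (1 ⊗ₜ r)) (by
          rw [map_smul, algebraMap_smul (A := A.carrier), tmul_smul, ← smul_sub]
          exact Submodule.smul_of_tower_mem _ c (hπ _))]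
        refine Finsupp.ext fun i => ?_
        simp [← Algebra.smul_def] }
  let P : B ⊗[k] R →ₗ[B] (Idx (k := k) R J →₀ B) := P₀.liftBaseChange B
  have hP : ∀ (b : B) (r : R), P (b ⊗ₜ r) = b • (π (1 ⊗ₜ r)).mapRange s (map_zero s) := fun b r =>
    P₀.liftBaseChange_tmul ..
  have hpP : ∀ z, (P z).mapRange p (map_zero p.toAlgHom) = π (mapT R p z) := fun z => by
    induction z using TensorProduct.induction_on with
    | zero => rw [map_zero, map_zero, huniq 0 0 (by simp), Finsupp.mapRange_zero]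
    | tmul b r =>
      rw [hP, mapT_tmul, huniq (p b ⊗ₜ r) (p b • π (1 ⊗ₜ r)) (by
        rw [map_smul, show (p b ⊗ₜ[k] r : A ⊗[k] R) = p b • (1 ⊗ₜ r) by rw [smul_tmul', smul_eq_mul, mul_one],
          ← smul_sub]
        exact Submodule.smul_of_tower_mem _ (p b) (hπ _))]
      refine Finsupp.ext fun i => ?_
      simp [hs']
    | add x y hx hy =>
      rw [map_add, map_add, Finsupp.mapRange_add (fun a b => map_add p.toAlgHom a b), hx, hy]
      refine (huniq _ _ ?_).symm
      rw [map_add, add_sub_add_comm]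
      exact add_mem (hπ _) (hπ _)
  have hPP : ∀ z ∈ obP p I, ∀ a ∈ maximalIdeal B.carrier, P (a • z) = 0 := fun z hz a ha => by
    refine Finsupp.ext fun i => ?_
    rw [map_smul, Finsupp.smul_apply, smul_eq_mul, Finsupp.zero_apply]
    have h1 : p (P z i) = 0 := by
      have := DFunLike.congr_fun (hpP z) i
      rw [Finsupp.mapRange_apply, huniq _ 0 (by rwa [map_zero, sub_zero])] at this
      exact this
    obtain ⟨c, hc⟩ := (E.ker_eq _).1 h1
    rw [hc, mul_smul_comm, E.kill a ha, smul_zero]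
  have hPt : ∀ r : R, P ((t : B) ⊗ₜ[k] r) =
      ((bas (k := k) R J).repr (Ideal.Quotient.mk J r)).mapRange (fun c : k => c • t) (zero_smul k t) := fun r => by
    rw [hP]
    refine Finsupp.ext fun i => ?_
    rw [Finsupp.smul_apply, smul_eq_mul, mul_comm, Finsupp.mapRange_apply, Finsupp.mapRange_apply, E.mul_t,
      ← Art.res_app p, hs']
    refine congrArg (· • t) ?_
    have h1 : resT R A ((1 : A) ⊗ₜ[k] r - cmb R J A (π (1 ⊗ₜ r))) ∈ J := h.resT_mem (hπ _)
    rw [← Ideal.Quotient.eq_zero_iff_mem, map_sub, map_sub, mk_resT_cmb, sub_eq_zero, resT_tmul, map_one,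
      one_smul] at h1
    rw [h1, (bas (k := k) R J).repr_linearCombination, Finsupp.mapRange_apply]
  have hK : ∀ z ∈ obK p t J I, P z = 0 := by
    intro z hz
    obtain ⟨z₁, hz₁, z₂, hz₂, rfl⟩ := Submodule.mem_sup.1 hz
    rw [map_add]
    have e₁ : P z₁ = 0 := by
      refine Submodule.mul_induction_on hz₁ (fun a ha y hy => ?_) fun a b ha hb => by rw [map_add, ha, hb, add_zero]
      rw [Ideal.map] at ha
      induction ha using Submodule.span_induction generalizing y with
      | mem w hw =>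
        obtain ⟨b, hb, rfl⟩ := hw
        rw [← Algebra.smul_def]
        exact hPP y hy b hb
      | zero => rw [zero_mul, map_zero]
      | add u v _ _ hu hv => rw [add_mul, map_add, hu y hy, hv y hy, add_zero]
      | smul c v _ hv => rw [smul_eq_mul, mul_comm c v, mul_assoc]; exact hv _ ((obP p I).mul_mem_left c hy)
    have e₂ : P z₂ = 0 := by
      obtain ⟨w, hw, rfl⟩ := Ideal.mem_span_singleton_mul.1 hz₂
      rw [mul_comm, E.mul_t_tmul, mul_one, hPt, show Ideal.Quotient.mk J (resT R B w) = 0 from Ideal.Quotient.eq_zero_iff_mem.2 hw, map_zero,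
        Finsupp.mapRange_zero]
    rw [e₁, e₂, add_zero]
  have := hK _ hr
  rw [hPt] at this
  rw [← Ideal.Quotient.eq_zero_iff_mem]
  refine (bas (k := k) R J).repr.injective ?_
  rw [map_zero]
  refine Finsupp.ext fun i => ?_
  have h1 := DFunLike.congr_fun this i
  rw [Finsupp.mapRange_apply, Finsupp.zero_apply] at h1
  exact (smul_eq_zero.1 h1).resolve_right E.ne_zero

/-- The ideal cut out by a retraction. -/
noncomputable def lftIdeal (ℓ : obP p I →+ R ⧸ J)
    (hℓ : ∀ (w : B ⊗[k] R) (z : obP p I), ℓ (w • z) = Ideal.Quotient.mk J (resT R B w) * ℓ z) : Ideal (B ⊗[k] R) where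
  carrier := {z | ∃ h : z ∈ obP p I, ℓ ⟨z, h⟩ = 0}
  add_mem' := by
    rintro a b ⟨ha, ha'⟩ ⟨hb, hb'⟩
    refine ⟨add_mem ha hb, ?_⟩
    have := map_add ℓ ⟨a, ha⟩ ⟨b, hb⟩
    rwa [ha', hb', add_zero] at this
  zero_mem' := ⟨zero_mem _, map_zero ℓ⟩
  smul_mem' := by
    rintro w z ⟨hz, hz'⟩
    refine ⟨(obP p I).mul_mem_left w hz, ?_⟩
    exact (hℓ w ⟨z, hz⟩).trans (by rw [hz', mul_zero])

theorem good_lftIdeal (E : LineExt p t) (h : Good R J A I) (ℓ : obP p I →+ R ⧸ J)
    (hℓ : ∀ (w : B ⊗[k] R) (z : obP p I), ℓ (w • z) = Ideal.Quotient.mk J (resT R B w) * ℓ z)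
    (ht : ∀ r : R, ℓ ⟨(t : B) ⊗ₜ[k] r, t_tmul_mem_obP E.kerElt r⟩ = Ideal.Quotient.mk J r) :
    Good R J B (lftIdeal ℓ hℓ) ∧ (lftIdeal ℓ hℓ).map (mapT R p) = I := by
  have hadj : ∀ z ∈ obP p I, ∃ r : R, z - (t : B) ⊗ₜ[k] r ∈ lftIdeal ℓ hℓ := fun z hz => by
    obtain ⟨r, hr⟩ := Ideal.Quotient.mk_surjective (ℓ ⟨z, hz⟩)
    refine ⟨r, (obP p I).sub_mem hz (t_tmul_mem_obP E.kerElt r), ?_⟩
    have := map_sub ℓ ⟨z, hz⟩ ⟨(t : B) ⊗ₜ[k] r, t_tmul_mem_obP E.kerElt r⟩
    rwa [ht, hr, sub_self] at this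
  have hmap : (lftIdeal ℓ hℓ).map (mapT R p) = I := by
    refine le_antisymm (Ideal.map_le_iff_le_comap.2 fun z hz => hz.1) fun w hw => ?_
    obtain ⟨z, rfl⟩ := mapT_surjective R p E.surj w
    obtain ⟨r, hr⟩ := hadj z hw
    have := Ideal.mem_map_of_mem (mapT R p) hr
    rwa [map_sub, mapT_tmul, E.map_t, zero_tmul, sub_zero] at this
  have hres : (lftIdeal ℓ hℓ).map (resT R B) = J := by
    refine le_antisymm (Ideal.map_le_iff_le_comap.2 fun z hz => resT_mem_of_mem_obP h hz.1) fun j hj => ?_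
    obtain ⟨z, hz, rfl⟩ := exists_resT_eq E.kerElt h hj
    obtain ⟨r, hr⟩ := hadj z hz
    have := Ideal.mem_map_of_mem (resT R B) hr
    rwa [map_sub, resT_tmul, E.res_t, zero_smul, sub_zero] at this
  refine ⟨good_of_repr (fun x => ?_) (fun c hc => ?_) hres, hmap⟩
  · obtain ⟨c, hc⟩ := h.exists_repr (mapT R p x)
    obtain ⟨c', rfl⟩ := Finsupp.mapRange_surjective p (map_zero p.toAlgHom) E.surj c
    rw [← mapT_cmb, ← map_sub] at hc
    obtain ⟨d, hd⟩ : ∃ d : Idx (k := k) R J →₀ k,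
        Finsupp.linearCombination k (bas (k := k) R J) d = ℓ ⟨_, hc⟩ := ⟨_, (bas (k := k) R J).linearCombination_repr _⟩
    let r : R := d.sum fun i a => a • rep (k := k) R J i
    have hr : Ideal.Quotient.mk J r = ℓ ⟨_, hc⟩ := by
      simp only [← hd, r, Finsupp.linearCombination_apply, Finsupp.sum, map_sum]
      exact Finset.sum_congr rfl fun i _ => (map_smul (Ideal.Quotient.mkₐ k J) _ _).trans (congrArg _ (mk_rep R J i))
    have hcmb : cmb R J B (d.mapRange (fun a : k => a • t) (zero_smul k t)) = (t : B) ⊗ₜ[k] r := by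
      rw [cmb_apply, Finsupp.sum_mapRange_index (fun i => by simp)]
      simp only [r, Finsupp.sum, tmul_sum]
      exact Finset.sum_congr rfl fun i _ => (smul_tmul ..)
    refine ⟨c' + d.mapRange (fun a : k => a • t) (zero_smul k t), ?_⟩
    rw [map_add, hcmb, ← sub_sub]
    refine ⟨(obP p I).sub_mem hc (t_tmul_mem_obP E.kerElt r), ?_⟩
    have := map_sub ℓ ⟨_, hc⟩ ⟨(t : B) ⊗ₜ[k] r, t_tmul_mem_obP E.kerElt r⟩
    rwa [ht, hr, sub_self] at this
  · obtain ⟨hc1, hc2⟩ := hc
    have h1 := hc1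
    rw [obP, Ideal.mem_comap, mapT_cmb] at h1
    have h2 := h.eq_zero h1
    choose d hd using fun i => (E.ker_eq (c i)).1 (DFunLike.congr_fun h2 i)
    let d' : Idx (k := k) R J →₀ k := Finsupp.onFinset c.support d fun i hi => by
      rw [Finsupp.mem_support_iff, hd i]
      exact smul_ne_zero hi E.ne_zero
    have hc' : c = d'.mapRange (fun a : k => a • t) (zero_smul k t) := Finsupp.ext fun i => by simp [d', hd i]
    have hcmb : cmb R J B c = (t : B) ⊗ₜ[k] (d'.sum fun i a => a • rep (k := k) R J i) := by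
      rw [hc', cmb_apply, Finsupp.sum_mapRange_index (fun i => by simp)]
      simp only [Finsupp.sum, tmul_sum]
      exact Finset.sum_congr rfl fun i _ => (smul_tmul ..)
    have h3 : Finsupp.linearCombination k (bas (k := k) R J) d' = 0 := by
      rw [← hc2]
      refine Eq.trans ?_ (congrArg ℓ (Subtype.ext hcmb.symm : (⟨_, t_tmul_mem_obP E.kerElt _⟩ : obP p I) = ⟨_, hc1⟩))
      rw [ht, Finsupp.linearCombination_apply]
      simp only [Finsupp.sum, map_sum]
      exact Finset.sum_congr rfl fun i _ =>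
        ((map_smul (Ideal.Quotient.mkₐ k J) _ _).trans (congrArg _ (mk_rep R J i))).symm
    rw [hc', linearIndependent_iff.1 (bas (k := k) R J).linearIndependent _ h3, Finsupp.mapRange_zero]

end Groth.Agent.LHilb
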