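import Groth.Agent.LHilb.ObsKappa
import Groth.Prelude.Def_ArtFun3
import Groth.Agent.ArtFib.Basic
import Mathlib

/-!
# The obstruction theory of the local Hilbert functor of a local complete intersection
-/

set_option autoImplicit false
set_option backward.isDefEq.respectTransparency false
set_option linter.style.haveILetI false
universe u

open TensorProduct CategoryTheory CategoryTheory.Limits AlgebraicGeometry ArtFun ArtFun.Art IsLocalRing Abelian

namespace Groth.Agent.LHilb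

open Groth.Agent.QC

section Kernel

variable {k : Type u} [Field k]

theorem finite_kerP {B A : Art k k} (p : B ⟶ A) : Module.Finite k ↥(RingHom.ker p.toAlgHom) := by
  haveI := ArtFib.module_finite (Λ := k) B
  exact inferInstanceAs (Module.Finite k ↥((RingHom.ker p.toAlgHom).restrictScalars k))

theorem sum_tmul_coord {V W : Type u} [AddCommGroup V] [Module k V] [AddCommGroup W] [Module k W] {κ : Type*}
    [Fintype κ] (b : Module.Basis κ k W) (z : V ⊗[k] W) :
    z = ∑ l, TensorProduct.rid k V (LinearMap.lTensor V (b.coord l) z) ⊗ₜ b l := by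
  induction z using TensorProduct.induction_on with
  | zero => simp
  | add x y hx hy => simp only [map_add, add_tmul, Finset.sum_add_distrib, ← hx, ← hy]
  | tmul v w =>
    simp only [LinearMap.lTensor_tmul, TensorProduct.rid_tmul, TensorProduct.smul_tmul, ← TensorProduct.tmul_sum]
    exact congrArg (v ⊗ₜ ·) (b.sum_repr w).symm

theorem eq_of_forall_dual {V W : Type u} [AddCommGroup V] [Module k V] [AddCommGroup W] [Module k W]
    [Module.Finite k W] {z z' : V ⊗[k] W} (h : ∀ ℓ : Module.Dual k W,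
      TensorProduct.rid k V (LinearMap.lTensor V ℓ z) = TensorProduct.rid k V (LinearMap.lTensor V ℓ z')) :
    z = z' := by
  rw [sum_tmul_coord (Module.finBasis k W) z, sum_tmul_coord (Module.finBasis k W) z']
  exact Finset.sum_congr rfl fun l _ => by rw [h]

end Kernel

variable {k : Type u} [Field k] {X : Scheme.{u}} (x : X ⟶ specPt k) {I₀ : X.IdealSheafData}
  {A B : Art k k} (z : (localHilb X x I₀).obj A) (p : B ⟶ A) (hp : IsSemismallExt p)

include hp in
theorem kerElt_zero : KerElt p (0 : B) := ⟨hp.1, map_zero p.toAlgHom⟩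

/-- The chosen projection of the universal extension. -/
noncomputable def q₀ : shE x z (kerElt_zero p hp) ⟶ ClSub.idealMod I₀ :=
  (exists_isQ x z (kerElt_zero p hp)).choose

theorem isQ_q₀ : IsQ x z (kerElt_zero p hp) (q₀ x z p hp) :=
  (exists_isQ x z (kerElt_zero p hp)).choose_spec

theorem isQCoh_shE₀ : Coh.IsQCoh (shE x z (kerElt_zero p hp)) := by
  haveI : Coh.IsQCoh (cokernel (shU x z (kerElt_zero p hp))) := isQCoh_cok x z (kerElt_zero p hp)
  exact isQCoh_pushforward (pullback.fst x (specOver B))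

variable (hI : IsH1Local I₀)

/-- The chosen evaluation of a linear form. -/
noncomputable def kap (ℓ : ↥(RingHom.ker p.toAlgHom) →ₗ[k] k) :
    kernel ((pb I₀).map (q₀ x z p hp)) ⟶ Coh.structureModule I₀.subscheme :=
  (exists_kappa x z (kerElt_zero p hp) hI hp (isQ_q₀ x z p hp) ℓ).choose

theorem isKappa_kap (ℓ : ↥(RingHom.ker p.toAlgHom) →ₗ[k] k) :
    IsKappa x z (kerElt_zero p hp) (q₀ x z p hp) ℓ (kap x z p hp hI ℓ) :=
  (exists_kappa x z (kerElt_zero p hp) hI hp (isQ_q₀ x z p hp) ℓ).choose_spec.1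

theorem kap_eq {ℓ : ↥(RingHom.ker p.toAlgHom) →ₗ[k] k}
    {κ : kernel ((pb I₀).map (q₀ x z p hp)) ⟶ Coh.structureModule I₀.subscheme}
    (h : IsKappa x z (kerElt_zero p hp) (q₀ x z p hp) ℓ κ) : kap x z p hp hI ℓ = κ :=
  (isKappa_kap x z p hp hI ℓ).unique x z _ (isQCoh_shE₀ x z p hp) (isQ_q₀ x z p hp) h

variable [I₀.subscheme.Over (Spec (CommRingCat.of k))]
  (hY : I₀.subscheme ↘ Spec (CommRingCat.of k) = I₀.subschemeι ≫ x) [HasExt.{u} I₀.subscheme.Modules]

/-- The group in which the obstructions live. -/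
abbrev ObGrp (I₀ : X.IdealSheafData) [HasExt.{u} I₀.subscheme.Modules] : Type u :=
  Ext.{u} ((pb I₀).obj (ClSub.idealMod I₀)) (Coh.structureModule I₀.subscheme) 1

/-- The class attached to a map on the kernel. -/
noncomputable def obCls :
    (kernel ((pb I₀).map (q₀ x z p hp)) ⟶ Coh.structureModule I₀.subscheme) →ₗ[k] ObGrp I₀ where
  toFun κ :=
    (kerSeq_shortExact x z (kerElt_zero p hp) (isQ_q₀ x z p hp)).extClass.comp (Ext.mk₀ κ) (add_zero 1)
  map_add' κ κ' := by rw [Ext.mk₀_add, Ext.comp_add]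
  map_smul' c κ := by rw [RingHom.id_apply, Ext.mk₀_smul, Ext.comp_smul]

theorem obCls_apply (κ : kernel ((pb I₀).map (q₀ x z p hp)) ⟶ Coh.structureModule I₀.subscheme) :
    obCls x z p hp κ =
      (kerSeq_shortExact x z (kerElt_zero p hp) (isQ_q₀ x z p hp)).extClass.comp (Ext.mk₀ κ) (add_zero 1) := rfl

omit [I₀.subscheme.Over (Spec (CommRingCat.of k))] [HasExt.{u} I₀.subscheme.Modules] in
theorem kap_add (ℓ ℓ' : ↥(RingHom.ker p.toAlgHom) →ₗ[k] k) :
    kap x z p hp hI (ℓ + ℓ') = kap x z p hp hI ℓ + kap x z p hp hI ℓ' :=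
  kap_eq x z p hp hI (IsKappa.add x z _ (isKappa_kap x z p hp hI ℓ) (isKappa_kap x z p hp hI ℓ'))

omit [HasExt.{u} I₀.subscheme.Modules] in
include hY in
theorem kap_smul (c : k) (ℓ : ↥(RingHom.ker p.toAlgHom) →ₗ[k] k) :
    kap x z p hp hI (c • ℓ) = c • kap x z p hp hI ℓ :=
  kap_eq x z p hp hI (IsKappa.smul x z _ hY (isKappa_kap x z p hp hI ℓ) c)

/-- The obstruction, seen through linear forms on the kernel. -/
noncomputable def obLin : Module.Dual k ↥(RingHom.ker p.toAlgHom) →ₗ[k] ObGrp I₀ where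
  toFun ℓ := obCls x z p hp (kap x z p hp hI ℓ)
  map_add' ℓ ℓ' := by rw [kap_add]; exact map_add _ _ _
  map_smul' c ℓ := by rw [kap_smul x z p hp hI hY]; exact map_smul _ _ _

theorem obLin_apply (ℓ : Module.Dual k ↥(RingHom.ker p.toAlgHom)) :
    obLin x z p hp hI hY ℓ = obCls x z p hp (kap x z p hp hI ℓ) := rfl

/-- Vanishing on a nonzero form is liftability to the line. -/
theorem exists_line_lift_iff (ℓ : Module.Dual k ↥(RingHom.ker p.toAlgHom)) (hℓ : ℓ ≠ 0) :
    ∃ (B' : Art k k) (p' : B' ⟶ A) (g : B ⟶ B') (t' : B'.carrier),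
      g ≫ p' = p ∧ LineExt p' t' ∧ Function.Surjective g ∧
      (∀ v : ↥(RingHom.ker p.toAlgHom), g v.1 = ℓ v • t') ∧
      (obLin x z p hp hI hY ℓ = 0 ↔ ∃ z' : (localHilb X x I₀).obj B', (localHilb X x I₀).map p' z' = z) := by
  obtain ⟨B', p', g, t', h1, h2, h3, h4, h5⟩ :=
    (exists_kappa x z (kerElt_zero p hp) hI hp (isQ_q₀ x z p hp) ℓ).choose_spec.2 hℓ
  exact ⟨B', p', g, t', h1, h2, h3, h4, h5⟩

/-- Functoriality in the extension. -/
theorem obLin_natural {B'' : Art k k} (p'' : B'' ⟶ A) (hp'' : IsSemismallExt p'') (g : B ⟶ B'')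
    (hg : g ≫ p'' = p) (ℓ : Module.Dual k ↥(RingHom.ker p.toAlgHom))
    (ℓ'' : Module.Dual k ↥(RingHom.ker p''.toAlgHom))
    (h : ∀ (v : ↥(RingHom.ker p.toAlgHom)) (hv : g v.1 ∈ RingHom.ker p''.toAlgHom), ℓ v = ℓ'' ⟨g v.1, hv⟩) :
    obLin x z p hp hI hY ℓ = obLin x z p'' hp'' hI hY ℓ'' := by
  have hgv : ∀ v : ↥(RingHom.ker p.toAlgHom), g v.1 ∈ RingHom.ker p''.toAlgHom := fun v => by
    have := v.2
    subst hg
    exact this
  obtain ⟨π, hπq, hπ, hπ0⟩ := exists_kernel_map x z (kerElt_zero p hp) (kerElt_zero p'' hp'') g hg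
    (q₀ x z p'' hp'') (isQ_q₀ x z p hp) (isQ_q₀ x z p'' hp'')
  let γ : kernel ((pb I₀).map (q₀ x z p hp)) ⟶ kernel ((pb I₀).map (q₀ x z p'' hp'')) :=
    kernel.lift _ (kernel.ι _ ≫ (pb I₀).map π) (by rw [Category.assoc]; exact hπ0)
  have hκ : kap x z p hp hI ℓ = γ ≫ kap x z p'' hp'' hI ℓ'' := kap_eq x z p hp hI fun U v r τ hτ => by
    change (kap x z p'' hp'' hI ℓ'').app _ (γ.app _ τ) = _
    rw [isKappa_kap x z p'' hp'' hI ℓ'' U ⟨g v.1, hgv v⟩ r (γ.app _ τ) ?_, h v (hgv v)]
    change (γ ≫ kernel.ι _).app _ τ = _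
    rw [kernel.lift_ι]
    refine (app_comp_pullSect x z (kerElt_zero p hp) (hg := hg) hπ U v r τ hτ).trans ?_
    exact congrArg _ (congrArg _ (Subtype.ext (mapT_tmul ..)))
  let φ : kerSeq x z (kerElt_zero p hp) (q₀ x z p hp) ⟶ kerSeq x z (kerElt_zero p'' hp'') (q₀ x z p'' hp'') :=
    { τ₁ := γ, τ₂ := (pb I₀).map π, τ₃ := 𝟙 _
      comm₁₂ := kernel.lift_ι ..
      comm₂₃ := by
        change (pb I₀).map π ≫ (pb I₀).map _ = (pb I₀).map _ ≫ 𝟙 _
        rw [← CategoryTheory.Functor.map_comp, hπq, Category.comp_id] }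
  have hnat := ShortComplex.ShortExact.extClass_naturality
    (kerSeq_shortExact x z (kerElt_zero p hp) (isQ_q₀ x z p hp))
    (kerSeq_shortExact x z (kerElt_zero p'' hp'') (isQ_q₀ x z p'' hp'')) φ
  rw [Ext.mk₀_id_comp] at hnat
  rw [obLin_apply, obLin_apply, obCls_apply, obCls_apply, hκ, ← Ext.mk₀_comp_mk₀,
    ← Ext.comp_assoc_of_third_deg_zero, hnat]

/-- The obstruction. -/
noncomputable def obsH : ObGrp I₀ ⊗[k] ↥(RingHom.ker p.toAlgHom) :=
  haveI := finite_kerP p
  ∑ l, obLin x z p hp hI hY ((Module.finBasis k ↥(RingHom.ker p.toAlgHom)).coord l) ⊗ₜ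
    (Module.finBasis k ↥(RingHom.ker p.toAlgHom)) l

theorem eval_obsH (ℓ : Module.Dual k ↥(RingHom.ker p.toAlgHom)) :
    TensorProduct.rid k _ (LinearMap.lTensor _ ℓ (obsH x z p hp hI hY)) = obLin x z p hp hI hY ℓ := by
  haveI := finite_kerP p
  simp only [obsH, map_sum, LinearMap.lTensor_tmul, TensorProduct.rid_tmul]
  conv_rhs => rw [← (Module.finBasis k ↥(RingHom.ker p.toAlgHom)).sum_dual_apply_smul_coord ℓ]
  rw [map_sum]
  exact Finset.sum_congr rfl fun l _ => (map_smul _ _ _).symm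

theorem obsH_eq_zero_iff_forall :
    obsH x z p hp hI hY = 0 ↔ ∀ ℓ, obLin x z p hp hI hY ℓ = 0 := by
  haveI := finite_kerP p
  refine ⟨fun h ℓ => by rw [← eval_obsH, h, map_zero, map_zero], fun h => eq_of_forall_dual fun ℓ => ?_⟩
  rw [eval_obsH, h, map_zero, map_zero]

omit hp in
theorem exists_lift_of_forall : ∀ (n : ℕ) {B : Art k k} (p : B ⟶ A) (hp : IsSemismallExt p),
    Module.finrank k ↥(RingHom.ker p.toAlgHom) ≤ n → (∀ ℓ, obLin x z p hp hI hY ℓ = 0) →
    ∃ z' : (localHilb X x I₀).obj B, (localHilb X x I₀).map p z' = z := by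
  intro n
  induction n with
  | zero =>
    intro B p hp hn _
    haveI := finite_kerP p
    haveI : Subsingleton ↥(RingHom.ker p.toAlgHom) := Module.finrank_zero_iff.1 (Nat.le_zero.1 hn)
    have hbij : Function.Bijective p := ⟨(ArtKit.injective_iff p).2 (by
      rw [eq_bot_iff]
      intro b hb
      rw [Ideal.mem_bot]
      exact congrArg Subtype.val (Subsingleton.elim (⟨b, hb⟩ : ↥(RingHom.ker p.toAlgHom)) 0)), hp.1⟩
    haveI := ArtKit.isIso_of_bijective p hbij
    exact ⟨_, ArtKit.map_app_inv (localHilb X x I₀) p z⟩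
  | succ n ih =>
    intro B p hp hn hob
    haveI := finite_kerP p
    by_cases hbot : ∀ v : ↥(RingHom.ker p.toAlgHom), v = 0
    · exact ih p hp (by
        haveI : Subsingleton ↥(RingHom.ker p.toAlgHom) := ⟨fun a b => by rw [hbot a, hbot b]⟩
        rw [Module.finrank_zero_of_subsingleton]
        exact Nat.zero_le n) hob
    push_neg at hbot
    obtain ⟨v₀, hv₀⟩ := hbot
    obtain ⟨ℓ, hℓ⟩ := LinearMap.exists_leftInverse_of_injective
      (LinearMap.toSpanSingleton k ↥(RingHom.ker p.toAlgHom) v₀) (LinearMap.ker_toSpanSingleton k hv₀)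
    have hℓ1 : ℓ v₀ = 1 := by
      have h1 := LinearMap.congr_fun hℓ 1
      simpa using h1
    obtain ⟨B', p', g, t', hg, L, hgs, hgv, hiff⟩ := exists_line_lift_iff x z p hp hI hY ℓ
      fun h0 => by simp [h0] at hℓ1
    obtain ⟨z', hz'⟩ := hiff.1 (hob ℓ)
    let K : Ideal B.carrier :=
      { carrier := {b | ∃ c : k, b = c • v₀.1}
        add_mem' := by rintro _ _ ⟨c, rfl⟩ ⟨d, rfl⟩; exact ⟨c + d, (add_smul c d _).symm⟩
        zero_mem' := ⟨0, (zero_smul k _).symm⟩
        smul_mem' := by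
          rintro a _ ⟨c, rfl⟩
          refine ⟨c * B.res a, ?_⟩
          rw [smul_eq_mul, Algebra.mul_smul_comm, mul_ker hp a v₀.2, smul_smul] }
    have hKJ : K ≤ RingHom.ker p.toAlgHom := by rintro _ ⟨c, rfl⟩; exact (c • v₀).2
    have hK : K ≤ maximalIdeal B.carrier := hKJ.trans (ArtKit.ker_le_maximalIdeal p)
    have hq : IsSemismallExt (quotFactor hK p hKJ) := by
      refine ⟨fun a => ?_, ?_⟩
      · obtain ⟨b, rfl⟩ := hp.1 a
        exact ⟨Ideal.Quotient.mk K b, rfl⟩
      · rw [eq_bot_iff, Ideal.mul_le]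
        intro a ha b hb
        obtain ⟨a, rfl⟩ := Ideal.Quotient.mk_surjective a
        obtain ⟨b, rfl⟩ := Ideal.Quotient.mk_surjective b
        have ha' : a ∈ maximalIdeal B.carrier := by
          rw [Art.mem_maximalIdeal_iff] at ha ⊢
          exact ha
        have h1 := hp.2.le (Ideal.mul_mem_mul ha' (show b ∈ RingHom.ker p.toAlgHom from hb))
        rw [Ideal.mem_bot] at h1 ⊢
        exact (map_mul (Ideal.Quotient.mk K) a b).symm.trans ((congrArg _ h1).trans (map_zero _))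
    have hlt : Module.finrank k ↥(RingHom.ker (quotFactor hK p hKJ).toAlgHom) ≤ n := by
      let κ : ↥(RingHom.ker p.toAlgHom) →ₗ[k] ↥(RingHom.ker (quotFactor hK p hKJ).toAlgHom) :=
        (kerToQuot hK p hKJ).restrictScalars k
      have hs : Function.Surjective κ := fun b => by
        obtain ⟨b0, hb0⟩ := Ideal.Quotient.mk_surjective b.1
        have hb1 : p.toAlgHom b0 = 0 := by
          have := b.2
          rw [← hb0] at this
          exact this
        exact ⟨⟨b0, hb1⟩, Subtype.ext hb0⟩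
      have h1 := LinearMap.finrank_range_add_finrank_ker κ
      rw [LinearMap.range_eq_top.2 hs, finrank_top] at h1
      have h2 : 0 < Module.finrank k ↥(LinearMap.ker κ) := by
        refine Module.finrank_pos_iff_exists_ne_zero.2 ⟨⟨v₀, ?_⟩, fun h0 => hv₀ (congrArg Subtype.val h0)⟩
        exact Subtype.ext (Ideal.Quotient.eq_zero_iff_mem.2 ⟨1, (one_smul k _).symm⟩)
      omega
    have hob'' : ∀ ℓ'', obLin x z (quotFactor hK p hKJ) hq hI hY ℓ'' = 0 := fun ℓ'' => by
      rw [← obLin_natural x z p hp hI hY (quotFactor hK p hKJ) hq (quotMk B K hK) (quotMk_quotFactor hK p hKJ)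
        (ℓ''.comp ((kerToQuot hK p hKJ).restrictScalars k)) ℓ'' (fun v hv => rfl)]
      exact hob _
    obtain ⟨z'', hz''⟩ := ih (quotFactor hK p hKJ) hq hlt hob''
    have hsq : IsFibreProd g (quotMk B K hK) p' (quotFactor hK p hKJ) := by
      refine ⟨hg.trans (quotMk_quotFactor hK p hKJ).symm, fun b₁ b₂ e₁ e₂ => ?_, fun a' a'' e => ?_⟩
      · obtain ⟨c, hc⟩ : b₁ - b₂ ∈ K := Ideal.Quotient.eq.1 e₂
        have h1 : g (b₁ - b₂) = 0 := by
          change g.toAlgHom (b₁ - b₂) = 0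
          rw [map_sub]
          exact sub_eq_zero.2 e₁
        have h2 : g (c • v₀.1) = c • t' := by
          change g.toAlgHom (c • v₀.1) = _
          rw [map_smul]
          exact (congrArg (c • ·) (hgv v₀)).trans (by rw [hℓ1, one_smul])
        rw [hc, h2, smul_eq_zero, or_iff_left L.ne_zero] at h1
        rw [← sub_eq_zero, hc, h1, zero_smul]
      · obtain ⟨b, rfl⟩ := Ideal.Quotient.mk_surjective a''
        have h1 : p' (a' - g b) = 0 := by
          change p'.toAlgHom (a' - g.toAlgHom b) = 0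
          rw [map_sub, sub_eq_zero]
          refine e.trans ?_
          subst hg
          rfl
        obtain ⟨c, hc⟩ := (L.ker_eq _).1 h1
        refine ⟨b + c • v₀.1, ?_, ?_⟩
        · change g.toAlgHom (b + c • v₀.1) = a'
          rw [map_add, map_smul, show g.toAlgHom v₀.1 = ℓ v₀ • t' from hgv v₀, hℓ1, one_smul, ← hc]
          exact add_sub_cancel _ _
        · exact Ideal.Quotient.eq.2 ⟨c, by rw [add_sub_cancel_left]⟩
    obtain ⟨w, hw1, hw2⟩ := (ArtKit.surjective_cmp_iff hsq).1 (isLeftExact x g _ p' _ hsq).2 z' z''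
      (by rw [hz', hz''])
    refine ⟨w, ?_⟩
    rw [← hg, ← hz', ← hw1]
    exact ArtKit.map_comp_app (localHilb X x I₀) g p' w

theorem obsH_eq_zero_iff :
    obsH x z p hp hI hY = 0 ↔ ∃ z' : (localHilb X x I₀).obj B, (localHilb X x I₀).map p z' = z := by
  rw [obsH_eq_zero_iff_forall]
  refine ⟨exists_lift_of_forall x z hI hY _ p hp le_rfl, fun ⟨z', hz'⟩ ℓ => ?_⟩
  by_cases hℓ : ℓ = 0
  · rw [hℓ, map_zero]
  obtain ⟨B', p', g, t', hg, L, hgs, hgv, hiff⟩ := exists_line_lift_iff x z p hp hI hY ℓ hℓ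
  exact hiff.2 ⟨(localHilb X x I₀).map g z', by rw [← hz', ← hg]; exact (ArtKit.map_comp_app (localHilb X x I₀) g p' z').symm⟩

theorem obsH_quot (K : Ideal B) (hK : K ≤ maximalIdeal B) (hKJ : K ≤ RingHom.ker p.toAlgHom)
    (hq : IsSemismallExt (quotFactor hK p hKJ)) :
    obsH x z (quotFactor hK p hKJ) hq hI hY =
      LinearMap.lTensor (ObGrp I₀) ((kerToQuot hK p hKJ).restrictScalars k) (obsH x z p hp hI hY) := by
  haveI := finite_kerP (quotFactor hK p hKJ)
  refine eq_of_forall_dual fun ℓ => ?_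
  rw [← LinearMap.comp_apply (LinearMap.lTensor (ObGrp I₀) ℓ), ← LinearMap.lTensor_comp, eval_obsH, eval_obsH]
  exact (obLin_natural x z p hp hI hY (quotFactor hK p hKJ) hq (quotMk B K hK) (quotMk_quotFactor hK p hKJ)
    (ℓ ∘ₗ (kerToQuot hK p hKJ).restrictScalars k) ℓ fun v hv => rfl).symm

omit z hp in
/-- The obstruction theory, transported along a linear equivalence of the coefficient space. -/
theorem hasObsTheory {V : Type u} [AddCommGroup V] [Module k V] (e : ObGrp I₀ ≃ₗ[k] V) (hI : IsH1Local I₀)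
    (hY : I₀.subscheme ↘ Spec (CommRingCat.of k) = I₀.subschemeι ≫ x) :
    HasObsTheory (localHilb X x I₀) V :=
  ⟨{ obs := fun {C' C} q hq u =>
      (TensorProduct.congr e (LinearEquiv.refl k _)) (obsH x u q hq hI hY)
     obs_eq_zero_iff := fun {C' C} q hq u => (map_eq_zero_iff _ (LinearEquiv.injective _)).trans
      (obsH_eq_zero_iff x u q hq hI hY)
     obs_quot := fun {C' C} q hq K hK hKJ hq' u => by
      rw [obsH_quot x u q hq hI hY K hK hKJ hq']
      generalize obsH x u q hq hI hY = w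
      induction w using TensorProduct.induction_on with
      | zero => simp
      | tmul a b => rfl
      | add a b ha hb => simp only [map_add, ha, hb] }⟩

/-- Obstruction group as `Ext¹` of the conormal sheaf. -/
theorem nonempty_obGrp_equiv (I₀ : X.IdealSheafData) [I₀.subscheme.Over (Spec (CommRingCat.of k))]
    [HasExt.{u} I₀.subscheme.Modules] :
    Nonempty (ObGrp I₀ ≃ₗ[k] Ext.{u} (Omega.conormal I₀.subschemeι) (Coh.structureModule I₀.subscheme) 1) := by
  refine ⟨LinearEquiv.ofBijective ((Ext.mk₀ (conormalIso I₀).inv).precompOfLinear k _ (zero_add 1)) ?_⟩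
  refine ⟨fun a b h => ?_, fun c => ⟨(Ext.mk₀ (conormalIso I₀).hom).comp c (zero_add 1), ?_⟩⟩
  · have := congrArg (fun e => (Ext.mk₀ (conormalIso I₀).hom).comp e (zero_add 1)) h
    change (Ext.mk₀ (conormalIso I₀).hom).comp ((Ext.mk₀ (conormalIso I₀).inv).comp a (zero_add 1)) (zero_add 1) =
      (Ext.mk₀ (conormalIso I₀).hom).comp ((Ext.mk₀ (conormalIso I₀).inv).comp b (zero_add 1)) (zero_add 1) at this
    simpa using this
  · change (Ext.mk₀ (conormalIso I₀).inv).comp ((Ext.mk₀ (conormalIso I₀).hom).comp c (zero_add 1)) (zero_add 1) = c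
    simp

end Groth.Agent.LHilb
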