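import Groth.Agent.ArtKit.Tangent
import Groth.Agent.ArtPow.Present
import Groth.Agent.ArtPow.Basic
import Groth.Prelude.Def_ArtFun2
import Mathlib

/-!
# The tangent space of a pro-representable functor
-/

set_option autoImplicit false
set_option backward.isDefEq.respectTransparency false
universe u v

noncomputable section
open CategoryTheory IsLocalRing ArtFun ArtFun.Art

namespace Groth.Agent.LHilb

variable {k : Type u} [Field k]

/-- The coordinate of an element of `k[ε]`. -/
abbrev epsCoef (a : (Art.dual k k).carrier) : k := TrivSqZeroExt.snd (show DualNumber k from a)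

theorem finrank_tangent_proRep {F : Art k k ⥤ Type v} [TangentStr F] (hF : IsLeftExact F) (h0 : H0 F)
    (R : ProRep F) {d : ℕ} (q : MvPowerSeries (Fin d) k →ₐ[k] R.ring.carrier) (hq : Function.Surjective q)
    (hsq : RingHom.ker q ≤ maximalIdeal (MvPowerSeries (Fin d) k) ^ 2) :
    Module.finrank k (TangentSpace F) = d := by
  letI := (‹TangentStr F›).addCommGroup
  letI := (‹TangentStr F›).module
  let ξ := R.family
  have hξ := R.universal (Art.dual k k)
  let g : TangentSpace F → HomSet R.ring.carrier R.ring.res (Art.dual k k) := fun z =>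
    (Equiv.ofBijective _ hξ).symm z
  have hg : ∀ z, ξ.app _ (g z) = z := fun z => Equiv.ofBijective_apply_symm_apply _ hξ z
  let xs : Fin d → R.ring.carrier := fun i => q (MvPowerSeries.X i)
  have hxs : ∀ i, R.ring.res (xs i) = 0 := fun i => by
    have hmR : RingHom.ker (R.ring.res : R.ring.carrier →+* k) = maximalIdeal R.ring.carrier :=
      IsLocalRing.eq_maximalIdeal (RingHom.ker_isMaximal_of_surjective _ R.ring.res_surjective)
    have : xs i ∈ maximalIdeal R.ring.carrier :=
      (IsLocalRing.map_maximalIdeal_of_surjective q.toRingHom hq).le (Ideal.mem_map_of_mem _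
        (ArtPow.span_X_eq_maximalIdeal (k := k).le (Ideal.subset_span ⟨i, rfl⟩)))
    rw [← hmR] at this
    exact this
  have hfst : ∀ (h : HomSet R.ring.carrier R.ring.res (Art.dual k k)) i,
      TrivSqZeroExt.fst (show DualNumber k from h.1 (xs i)) = 0 := fun h i =>
    (AlgHom.congr_fun h.2 (xs i)).trans (hxs i)
  have hscale : ∀ (c : k) z i, epsCoef ((g (c • z)).1 (xs i)) = c * epsCoef ((g z).1 (xs i)) := fun c z i => by
    have h1 : g (c • z) = HomSet.map (scale c) (g z) := hξ.1 (by
      rw [hg, ξ.natural, hg]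
      exact (‹TangentStr F›).smul_eq c z)
    rw [h1]
    rfl
  have hadd : ∀ a b i, epsCoef ((g (a + b)).1 (xs i)) = epsCoef ((g a).1 (xs i)) + epsCoef ((g b).1 (xs i)) :=
    fun a b i => by
      obtain ⟨w, hwa, hwb⟩ := (ArtKit.surjective_cmp_iff isFibreProd_dual2).1
        (hF pr₁ pr₂ _ _ isFibreProd_dual2).2 a b (h0.2.elim _ _)
      obtain ⟨φ, hφ⟩ := (R.universal (Art.dual2 k k)).2 w
      have ha : g a = HomSet.map pr₁ φ := hξ.1 (by rw [hg, ξ.natural, hφ, hwa])
      have hb : g b = HomSet.map pr₂ φ := hξ.1 (by rw [hg, ξ.natural, hφ, hwb])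
      have hab : g (a + b) = HomSet.map plus φ := hξ.1 (by
        rw [hg, ξ.natural, hφ, ← hwa, ← hwb]
        exact (‹TangentStr F›).add_eq w)
      rw [ha, hb, hab]
      rfl
  let Θ : TangentSpace F →ₗ[k] (Fin d → k) :=
    { toFun := fun z i => epsCoef ((g z).1 (xs i))
      map_add' := fun a b => funext fun i => hadd a b i
      map_smul' := fun c z => funext fun i => hscale c z i }
  have hinj : Function.Injective Θ := fun a b h => by
    obtain ⟨N, hN⟩ : ∃ N, maximalIdeal (Art.dual k k).carrier ^ N = ⊥ :=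
      (isArtinianRing_iff_isNilpotent_maximalIdeal _).1 inferInstance
    have h1 : g a = g b := by
      refine Subtype.ext (AlgHom.ext fun r => ?_)
      obtain ⟨r, rfl⟩ := hq r
      exact AlgHom.congr_fun (ArtPow.algHom_ext hN (φ := (g a).1.comp q) (ψ := (g b).1.comp q)
        (fun i => TrivSqZeroExt.ext ((hfst (g a) i).trans (hfst (g b) i).symm) (congrFun h i))
        fun i => ((Art.dual k k).mem_maximalIdeal_iff _).2 (hfst (g a) i)) r
    rw [← hg a, ← hg b, h1]
  have hsurj : Function.Surjective Θ := fun t => by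
    let cX : Fin d → (Art.dual k k).carrier := fun i => (TrivSqZeroExt.inr (t i) : DualNumber k)
    have hcX : ∀ i, IsNilpotent (cX i) := fun i => ⟨2, by rw [pow_two]; exact TrivSqZeroExt.inr_mul_inr _ _ _⟩
    let h₀ := ArtPow.evalNil (R := k) cX hcX
    have hm2 : maximalIdeal (Art.dual k k).carrier * maximalIdeal (Art.dual k k).carrier = ⊥ := by
      refine le_bot_iff.1 (Ideal.mul_le.2 fun a ha b hb => ?_)
      rw [(Art.dual k k).mem_maximalIdeal_iff] at ha hb
      let a' : DualNumber k := a
      let b' : DualNumber k := b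
      rw [Ideal.mem_bot]
      show a' * b' = 0
      have ha' : TrivSqZeroExt.fst a' = 0 := ha
      have hb' : TrivSqZeroExt.fst b' = 0 := hb
      exact TrivSqZeroExt.ext (by simp [ha']) (by simp [TrivSqZeroExt.snd_mul, ha', hb'])
    have hmap : (maximalIdeal (MvPowerSeries (Fin d) k)).map h₀.toRingHom ≤ maximalIdeal (Art.dual k k).carrier := by
      rw [← ArtPow.span_X_eq_maximalIdeal, Ideal.map_span, Ideal.span_le]
      rintro _ ⟨_, ⟨i, rfl⟩, rfl⟩
      show h₀ (MvPowerSeries.X i) ∈ maximalIdeal (Art.dual k k).carrier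
      rw [ArtPow.evalNil_X, (Art.dual k k).mem_maximalIdeal_iff]
      rfl
    have hkill : ∀ f ∈ RingHom.ker q, h₀ f = 0 := fun f hf => by
      have h1 := Ideal.mem_map_of_mem h₀.toRingHom (hsq hf)
      rw [Ideal.map_pow] at h1
      have h2 := Ideal.pow_right_mono hmap 2 h1
      rwa [pow_two, hm2, Ideal.mem_bot] at h2
    let e := Ideal.quotientKerAlgEquivOfSurjective hq
    let h₁ : R.ring.carrier →ₐ[k] (Art.dual k k).carrier :=
      (Ideal.Quotient.liftₐ (RingHom.ker q) h₀ hkill).comp e.symm.toAlgHom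
    have hh₁ : ∀ f, h₁ (q f) = h₀ f := fun f => by
      show Ideal.Quotient.liftₐ (RingHom.ker q) h₀ hkill (e.symm (q f)) = h₀ f
      rw [show e.symm (q f) = Ideal.Quotient.mk _ f from (AlgEquiv.symm_apply_eq _).2 rfl]
      rfl
    let h : HomSet R.ring.carrier R.ring.res (Art.dual k k) := ⟨h₁, AlgHom.ext fun r => by
      obtain ⟨r, rfl⟩ := hq r
      refine AlgHom.congr_fun (ArtPow.algHom_ext (R := k) (A := k) (I := ⊥) (N := 1) (pow_one _)
        (φ := ((Art.dual k k).res.comp h₁).comp q) (ψ := R.ring.res.comp q) (fun i => ?_) fun i => ?_) r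
      · show (Art.dual k k).res (h₁ (q (MvPowerSeries.X i))) = R.ring.res (xs i)
        rw [hh₁, ArtPow.evalNil_X, hxs]
        rfl
      · show (Art.dual k k).res (h₁ (q (MvPowerSeries.X i))) ∈ (⊥ : Ideal k)
        rw [hh₁, ArtPow.evalNil_X]
        exact Ideal.mem_bot.2 rfl⟩
    refine ⟨ξ.app _ h, funext fun i => ?_⟩
    change epsCoef ((g (ξ.app _ h)).1 (xs i)) = t i
    rw [show g (ξ.app _ h) = h from hξ.1 (hg _)]
    change TrivSqZeroExt.snd (show DualNumber k from h₁ (q (MvPowerSeries.X i))) = t i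
    rw [hh₁, ArtPow.evalNil_X]
    rfl
  exact (LinearEquiv.ofBijective Θ ⟨hinj, hsurj⟩).finrank_eq.trans (by simp)

end Groth.Agent.LHilb
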