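import Groth.Agent.LHilb.NormalHom
import Groth.Agent.ArtKit.Action
import Mathlib

/-!
# Vanishing tangent space: rigidity of closed subschemes
-/

set_option autoImplicit false
set_option backward.isDefEq.respectTransparency false
universe u

open TensorProduct CategoryTheory CategoryTheory.Limits AlgebraicGeometry ArtFun ArtFun.Art

namespace Groth.Agent.LHilb

variable {k : Type u} [Field k] {X : Scheme.{u}} (x : X ⟶ specPt k)

theorem hbar (I₀ : X.IdealSheafData) : Hbar (localHilb X x I₀) := fun _ _ _ _ p' p'' f' f'' hs _ =>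
  (isLeftExact x p' p'' f' f'' hs).2

theorem heps (I₀ : X.IdealSheafData) : Heps (localHilb X x I₀) := fun _ _ p' p'' hs => isLeftExact x p' p'' _ _ hs

theorem subsingleton_obj {I₀ : X.IdealSheafData} (h : Subsingleton (NSec x I₀)) (A : Art k k) :
    Subsingleton ((localHilb X x I₀).obj A) := by
  have ht : Subsingleton (TangentSpace (localHilb X x I₀)) := (tFam_bijective x (I₀ := I₀)).1.subsingleton
  refine ⟨fun a b => ArtKit.surjective_induction (fun _ _ f => Function.Injective ((localHilb X x I₀).map f)) ?_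
    (fun _ _ p hp => ArtKit.map_injective_of_subsingleton_tangent (hbar x I₀) (heps x I₀) ht p hp) ?_
    (toBase A) A.res_surjective ((h0 x).2.elim _ _)⟩
  · intro C B i hi
    exact Function.LeftInverse.injective (ArtKit.map_inv_app _ i)
  · intro C B D p q hp hq a b e
    rw [ArtKit.map_comp_app, ArtKit.map_comp_app] at e
    exact hp (hq e)

theorem subsingleton_nsec_iff_hom (I₀ : X.IdealSheafData) :
    Subsingleton (NSec x I₀) ↔ Subsingleton (ClSub.idealMod I₀ ⟶ ClSub.quotMod I₀) :=
  ⟨fun _ => (homFam_bijective x (rfl : I₀ = I₀)).1.subsingleton,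
    fun _ => (homFam_bijective x (rfl : I₀ = I₀)).2.subsingleton⟩

theorem subsingleton_tangent_iff (I₀ : X.IdealSheafData) :
    Subsingleton ((localHilb X x I₀).obj (dual k k)) ↔ Subsingleton (NSec x I₀) :=
  ⟨fun _ => (tFam_bijective x (I₀ := I₀)).2.subsingleton, fun _ => (tFam_bijective x (I₀ := I₀)).1.subsingleton⟩

/-- For a closed immersion, maps `I → O/I` are the maps out of the conormal sheaf. -/
theorem nonempty_hom_equiv_conormal {Z : Scheme.{u}} (i : Z ⟶ X) [IsClosedImmersion i] :
    Nonempty ((ClSub.idealMod i.ker ⟶ ClSub.quotMod i.ker) ≃ (Omega.conormal i ⟶ Coh.structureModule Z)) := by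
  let e : Z ≅ i.ker.subscheme := asIso i.toImage
  have he : e.hom ≫ i.ker.subschemeι = i := i.toImage_imageι
  haveI : IsIso (ClSub.unitToPush e.hom) := by
    rw [Scheme.Modules.Hom.isIso_iff_isIso_app]
    intro V
    rw [ConcreteCategory.isIso_iff_bijective]
    exact ConcreteCategory.bijective_of_isIso (e.hom.app V)
  let c : ClSub.quotMod i.ker ≅ (Scheme.Modules.pushforward i).obj (Coh.structureModule Z) :=
    (Scheme.Modules.pushforward i.ker.subschemeι).mapIso (asIso (ClSub.unitToPush e.hom)) ≪≫
      (Scheme.Modules.pushforwardComp e.hom i.ker.subschemeι).app _ ≪≫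
      (Scheme.Modules.pushforwardCongr he).app _
  exact ⟨c.homToEquiv.trans ((Scheme.Modules.pullbackPushforwardAdjunction i).homEquiv _ _).symm⟩

theorem subsingleton_nsec_iff_hh {Z : Scheme.{u}} [Z.Over (Spec (CommRingCat.of k))] (i : Z ⟶ X)
    [IsClosedImmersion i] [DCoh.HasSheafHom (Omega.conormal i)] :
    Subsingleton (NSec x i.ker) ↔
      Subsingleton (Coh.HH Z ((DCoh.sheafHom (Omega.conormal i)).obj (Coh.structureModule Z)) 0) := by
  haveI : (DCoh.sheafHom (Omega.conormal i)).Additive :=
    (DCoh.sheafHomAdj (Omega.conormal i)).right_adjoint_additive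
  rw [subsingleton_nsec_iff_hom]
  obtain ⟨e⟩ := nonempty_hom_equiv_conormal i
  exact e.subsingleton_congr.trans
    (Equiv.ofBijective _ (SerrePn.homEval_bijective k (Omega.conormal i) (Coh.structureModule Z))).subsingleton_congr

end Groth.Agent.LHilb
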