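import Groth.Agent.LHilb.ObstrPull
import Groth.Agent.SerrePn.SheafHomExt
import Groth.Agent.FreeLite.Basic
import Groth.Agent.FSysMod.Quot
import Mathlib

/-!
# `Ext` of the conormal sheaf of a closed immersion and of the closed subscheme of its ideal
-/

set_option autoImplicit false
set_option backward.isDefEq.respectTransparency false
set_option linter.style.haveILetI false
universe u

open CategoryTheory CategoryTheory.Limits AlgebraicGeometry Abelian

noncomputable section

namespace Groth.Agent.LHilb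

variable {k : Type u} [Field k] {X Y : Scheme.{u}}

/-- A closed immersion onto the subscheme of its ideal. -/
def toImageIso (i : X ⟶ Y) [IsClosedImmersion i] : X ≅ i.ker.subscheme :=
  haveI : IsIso i.toImage := inferInstance
  asIso i.toImage

theorem toImageIso_comp (i : X ⟶ Y) [IsClosedImmersion i] : (toImageIso i).hom ≫ i.ker.subschemeι = i :=
  i.toImage_imageι

theorem isH1Local_ker (i : X ⟶ Y) [IsClosedImmersion i] (h : Mor2.IsRegularClosedImmersion i) :
    IsH1Local i.ker := by
  refine isH1Local_of_isRegularClosedImmersion _ ⟨inferInstance, fun y => ?_⟩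
  obtain ⟨U, hU, hy, rs, hrs, hker⟩ := h.2 ((toImageIso i).inv y)
  refine ⟨U, hU, ?_, rs, hrs, by rwa [Scheme.IdealSheafData.ker_subschemeι]⟩
  have e : i.ker.subschemeι = (toImageIso i).inv ≫ i := by
    rw [Iso.eq_inv_comp, toImageIso_comp]
  rw [e]
  exact hy

theorem nonempty_ext_conormal_equiv (y : Y ⟶ Spec (CommRingCat.of k)) (i : X ⟶ Y) [IsClosedImmersion i]
    [X.Over (Spec (CommRingCat.of k))] [i.ker.subscheme.Over (Spec (CommRingCat.of k))]
    (hX : X ↘ Spec (CommRingCat.of k) = i ≫ y)
    (hZ : i.ker.subscheme ↘ Spec (CommRingCat.of k) = i.ker.subschemeι ≫ y)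
    [HasExt.{u} X.Modules] [HasExt.{u} i.ker.subscheme.Modules] (n : ℕ) :
    Nonempty (Ext.{u} (Omega.conormal i) (Coh.structureModule X) n ≃ₗ[k]
      Ext.{u} (Omega.conormal i.ker.subschemeι) (Coh.structureModule i.ker.subscheme) n) := by
  let e := toImageIso i
  haveI : e.hom.IsOver (Spec (CommRingCat.of k)) := ⟨by
    rw [hX, hZ, ← Category.assoc, toImageIso_comp]⟩
  haveI := SerrePn.enoughInjectives (X := X)
  haveI : (Scheme.Modules.pullback e.hom).IsEquivalence := FSysMod.isEquivalence_pullback e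
  let adj := Scheme.Modules.pullbackPushforwardAdjunction e.hom
  haveI : (Scheme.Modules.pushforward e.hom).IsEquivalence := adj.isEquivalence_right_of_isEquivalence_left
  haveI : PreservesFiniteLimits (Scheme.Modules.pushforward e.hom) := inferInstance
  haveI : PreservesFiniteColimits (Scheme.Modules.pushforward e.hom) := inferInstance
  let m := LinearEquiv.ofBijective
    ((Scheme.Modules.pushforward e.hom).mapExtLinearMap k (Omega.conormal i) (Coh.structureModule X) n)
    ((Scheme.Modules.pushforward e.hom).mapExt_bijective_of_preservesInjectiveObjects _ _ n)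
  let a : Omega.conormal i.ker.subschemeι ≅
      (Scheme.Modules.pushforward e.hom).obj (Omega.conormal i) :=
    asIso (adj.unit.app _) ≪≫ (Scheme.Modules.pushforward e.hom).mapIso
      ((Scheme.Modules.pullback e.hom).mapIso ((Scheme.Modules.pullback i.ker.subschemeι).mapIso
          (eqToIso (by rw [Scheme.IdealSheafData.ker_subschemeι]))) ≪≫
        (Scheme.Modules.pullbackComp e.hom i.ker.subschemeι).app (ClSub.idealMod i.ker) ≪≫
        (Scheme.Modules.pullbackCongr (toImageIso_comp i)).app (ClSub.idealMod i.ker))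
  let b : Coh.structureModule i.ker.subscheme ≅
      (Scheme.Modules.pushforward e.hom).obj (Coh.structureModule X) :=
    asIso (adj.unit.app _) ≪≫ (Scheme.Modules.pushforward e.hom).mapIso (FreeLite.pullUnitIso e.hom)
  refine ⟨m.trans (LinearEquiv.ofBijective
    (((Ext.mk₀ a.hom).precompOfLinear k _ (zero_add n)).comp
      ((Ext.mk₀ b.inv).postcompOfLinear k _ (add_zero n))) ⟨fun p q h => ?_, fun c => ?_⟩)⟩
  · have h1 := congrArg (fun c => (Ext.mk₀ a.inv).comp (c.comp (Ext.mk₀ b.hom) (add_zero n)) (zero_add n)) h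
    change (Ext.mk₀ a.inv).comp (((Ext.mk₀ a.hom).comp (p.comp (Ext.mk₀ b.inv) (add_zero n)) (zero_add n)).comp
      (Ext.mk₀ b.hom) (add_zero n)) (zero_add n) = (Ext.mk₀ a.inv).comp (((Ext.mk₀ a.hom).comp
      (q.comp (Ext.mk₀ b.inv) (add_zero n)) (zero_add n)).comp (Ext.mk₀ b.hom) (add_zero n)) (zero_add n) at h1
    simpa [Ext.mk₀_comp_mk₀_assoc] using h1
  · refine ⟨(Ext.mk₀ a.inv).comp (c.comp (Ext.mk₀ b.hom) (add_zero n)) (zero_add n), ?_⟩
    change (Ext.mk₀ a.hom).comp (((Ext.mk₀ a.inv).comp (c.comp (Ext.mk₀ b.hom) (add_zero n)) (zero_add n)).comp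
      (Ext.mk₀ b.inv) (add_zero n)) (zero_add n) = c
    simp [Ext.mk₀_comp_mk₀_assoc]

end Groth.Agent.LHilb
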