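import Groth.Agent.LHilb.CM2
import Groth.Agent.LHilb.ImmIso
import Groth.Agent.W7Hull.PushHom
import Groth.Agent.FibVan.Main
import Groth.Agent.PicSmooth.Curve
import Mathlib

/-!
# Unobstructedness of Cohen–Macaulay codimension two immersions
-/

set_option autoImplicit false
set_option backward.isDefEq.respectTransparency false
set_option linter.style.haveILetI false
universe u

open CategoryTheory CategoryTheory.Limits AlgebraicGeometry IsLocalRing ArtFun ArtFun.Art

noncomputable section

namespace Groth.Agent.LHilb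

/-- The sheaf Hom is functorial in isomorphisms of the first argument. -/
def homFunctorIso {X : Scheme.{u}} {F F' : X.Modules} (e : F ≅ F') : RefFun.homFunctor F ≅ RefFun.homFunctor F' :=
  ((W7Hull.homShAdj F).ofNatIsoLeft ((DCoh.tensorBi (X := X)).mapIso e)).rightAdjointUniq (W7Hull.homShAdj F')

theorem subsingleton_hh_normal_ker {Y X : Scheme.{u}} (i : Y ⟶ X) [IsClosedImmersion i] [IsLocallyNoetherian X]
    [DCoh.HasSheafHom (Omega.conormal i)] [DCoh.HasSheafHom (Omega.conormal i.ker.subschemeι)]
    (h : Subsingleton (Coh.HH Y ((DCoh.sheafHom (Omega.conormal i)).obj (Coh.structureModule Y)) 1)) :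
    Subsingleton (Coh.HH i.ker.subscheme
      ((DCoh.sheafHom (Omega.conormal i.ker.subschemeι)).obj (Coh.structureModule i.ker.subscheme)) 1) := by
  haveI : IsLocallyNoetherian i.ker.subscheme := LocallyOfFiniteType.isLocallyNoetherian i.ker.subschemeι
  let e := toImageIso i
  haveI : IsIso e.inv := inferInstance
  let g := e.inv
  haveI : IsAffineHom g := inferInstance
  haveI : (Scheme.Modules.pullback g).IsEquivalence := FSysMod.isEquivalence_pullback e.symm
  let adj := Scheme.Modules.pullbackPushforwardAdjunction g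
  have hg : g ≫ i = i.ker.subschemeι := by rw [Iso.inv_comp_eq, toImageIso_comp]
  let a : (Scheme.Modules.pullback g).obj (Omega.conormal i) ≅ Omega.conormal i.ker.subschemeι :=
    (Scheme.Modules.pullbackComp g i).app (ClSub.idealMod i.ker) ≪≫
      (Scheme.Modules.pullbackCongr hg).app (ClSub.idealMod i.ker) ≪≫
      (Scheme.Modules.pullback i.ker.subschemeι).mapIso (eqToIso (by rw [Scheme.IdealSheafData.ker_subschemeι]))
  let O := Coh.structureModule i.ker.subscheme
  let b : Coh.structureModule Y ≅ (Scheme.Modules.pushforward g).obj O :=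
    asIso (adj.unit.app _) ≪≫ (Scheme.Modules.pushforward g).mapIso (FreeLite.pullUnitIso g)
  let H := RefHull.homSh (Omega.conormal i.ker.subschemeι) O
  let e1 : (Scheme.Modules.pushforward g).obj H ≅ (DCoh.sheafHom (Omega.conormal i)).obj (Coh.structureModule Y) :=
    (Scheme.Modules.pushforward g).mapIso ((homFunctorIso a.symm).app O) ≪≫
      (W7Hull.pushHomIso g (Omega.conormal i)).app O ≪≫
      (RefFun.homFunctor (Omega.conormal i)).mapIso b.symm ≪≫
      ((W7Hull.sheafHomIso (Omega.conormal i)).app _).symm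
  have hc : Coh.IsCoh (Omega.conormal i.ker.subschemeι) := QC.isCoh_pullback _ (CurveRR.isCoh_idealMod _).1
  have hH : Coh.IsQCoh H := (RefStalk.isCoh_homSh hc RefStalk.isCoh_structureModule).1
  haveI : H.IsQuasicoherent := hH
  exact PicSmooth.subsingleton_hh_of_iso ((W7Hull.sheafHomIso _).app O).symm 1
    (FibVan.subsingleton_hh_push g H 1 (PicSmooth.subsingleton_hh_of_iso e1.symm 1 h))

theorem isSmoothFunctor_of_cm_two_immersion {k : Type u} [Field k] {X Y : Scheme.{u}} (x : X ⟶ specPt k) [Smooth x]
    (i : Y ⟶ X) [IsClosedImmersion i] [DCoh.HasSheafHom (Omega.conormal i)]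
    (hCM : ∀ y : Y, LocCoh.IsCohenMacaulayLocalRing (Y.presheaf.stalk y))
    (hcodim : ∀ y : Y, ringKrullDim (Y.presheaf.stalk y) + 2 = ringKrullDim (X.presheaf.stalk (i.base y)))
    (h : Subsingleton (Coh.HH Y ((DCoh.sheafHom (Omega.conormal i)).obj (Coh.structureModule Y)) 1)) :
    IsSmoothFunctor (localHilb X x i.ker) := by
  haveI : IsLocallyNoetherian X := LocallyOfFiniteType.isLocallyNoetherian x
  haveI := W7Hull.hasSheafHom_sch (Omega.conormal i.ker.subschemeι)
  let e := toImageIso i
  have hg : e.inv ≫ i = i.ker.subschemeι := by rw [Iso.inv_comp_eq, toImageIso_comp]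
  have hy : ∀ z : i.ker.subscheme, i.ker.subschemeι.base z = i.base (e.inv.base z) := fun z => by
    rw [← hg]
    rfl
  let ε : ∀ z : i.ker.subscheme, Y.presheaf.stalk (e.inv.base z) ≃+* i.ker.subscheme.presheaf.stalk z := fun z =>
    (asIso (e.inv.stalkMap z)).commRingCatIsoToRingEquiv
  refine isSmoothFunctor_of_cm_two x i.ker (fun z => CMChart.isCohenMacaulayLocalRing_of_ringEquiv (ε z) (hCM _))
    (fun z => ?_) (subsingleton_hh_normal_ker i h)
  rw [← ringKrullDim_eq_of_ringEquiv (ε z), hy z]
  exact hcodim _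

end Groth.Agent.LHilb
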