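import Groth.Agent.ArtFlat.Basic
import Groth.Prelude.Def_ArtFun
import Mathlib

/-!
# Flat ideals in `A ⊗ R` with prescribed closed fibre

For a `k`-algebra `R` with an ideal `J`, the ideals `I ⊆ A ⊗ R` with flat quotient and closed fibre `J`
are exactly the complements of the free module spanned by lifts of a basis of `R ⧸ J`.
-/

set_option autoImplicit false
universe u

open TensorProduct IsLocalRing CategoryTheory ArtFun

namespace Groth.Agent.LHilb

variable {k : Type u} [Field k] (R : Type u) [CommRing R] [Algebra k R]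

/-- `A ⊗ R → A' ⊗ R`. -/
noncomputable def mapT {A B : Art k k} (g : A ⟶ B) : A ⊗[k] R →ₐ[k] B ⊗[k] R :=
  Algebra.TensorProduct.map g.toAlgHom (AlgHom.id k R)

/-- the closed fibre `A ⊗ R → R`. -/
noncomputable def resT (A : Art k k) : A ⊗[k] R →ₐ[k] R :=
  (Algebra.TensorProduct.lid k R).toAlgHom.comp (Algebra.TensorProduct.map A.res (AlgHom.id k R))

@[simp] theorem mapT_tmul {A B : Art k k} (g : A ⟶ B) (a : A) (r : R) : mapT R g (a ⊗ₜ r) = g a ⊗ₜ r := rfl

@[simp] theorem resT_tmul (A : Art k k) (a : A) (r : R) : resT R A (a ⊗ₜ r) = A.res a • r := by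
  simp [resT]

theorem resT_mapT {A B : Art k k} (g : A ⟶ B) (x : A ⊗[k] R) : resT R B (mapT R g x) = resT R A x := by
  induction x using TensorProduct.induction_on with
  | zero => simp
  | tmul a r => simp [Art.res_app]
  | add x y hx hy => simp [hx, hy]

theorem mapT_comp {A B C : Art k k} (g : A ⟶ B) (h : B ⟶ C) (x : A ⊗[k] R) :
    mapT R (g ≫ h) x = mapT R h (mapT R g x) := by
  induction x using TensorProduct.induction_on with
  | zero => simp
  | tmul a r => rfl
  | add x y hx hy => simp [hx, hy]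

theorem resT_surjective (A : Art k k) : Function.Surjective (resT R A) := fun r => ⟨1 ⊗ₜ r, by simp⟩

theorem mapT_surjective {A B : Art k k} (g : A ⟶ B) (hg : Function.Surjective g) :
    Function.Surjective (mapT R g) :=
  TensorProduct.map_surjective (g := g.toAlgHom.toLinearMap) hg Function.surjective_id

theorem mapT_smul {A B : Art k k} (g : A ⟶ B) (a : A) (x : A ⊗[k] R) : mapT R g (a • x) = g a • mapT R g x := by
  induction x using TensorProduct.induction_on with
  | zero => simp
  | tmul b r => simp [smul_tmul']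
  | add x y hx hy => simp [hx, hy]

theorem sub_one_tmul_mem (A : Art k k) (x : A ⊗[k] R) :
    x - 1 ⊗ₜ resT R A x ∈ maximalIdeal A • (⊤ : Submodule A (A ⊗[k] R)) := by
  induction x using TensorProduct.induction_on with
  | zero => simp
  | tmul a r =>
    have h : (a ⊗ₜ[k] r : A ⊗[k] R) - 1 ⊗ₜ resT R A (a ⊗ₜ r) = (a - algebraMap k A (A.res a)) • (1 ⊗ₜ r) := by
      rw [resT_tmul, sub_smul, smul_tmul', smul_tmul', smul_eq_mul, smul_eq_mul, mul_one, mul_one,
        Algebra.algebraMap_eq_smul_one, smul_tmul]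
    rw [h]
    refine Submodule.smul_mem_smul ?_ trivial
    rw [Art.mem_maximalIdeal_iff, map_sub, AlgHom.commutes, Algebra.algebraMap_self_apply, sub_self]
  | add x y hx hy =>
    rw [map_add, tmul_add, add_sub_add_comm]
    exact add_mem hx hy

variable (J : Ideal R)

/-- flat quotient and closed fibre `J`. -/
def Good (A : Art k k) (I : Ideal (A ⊗[k] R)) : Prop :=
  Module.Flat A ((A ⊗[k] R) ⧸ I) ∧ I.map (resT R A) = J

/-- a basis of `R ⧸ J` -/
noncomputable def bas := Module.Free.chooseBasis k (R ⧸ J)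

/-- index of the basis of `R ⧸ J` -/
abbrev Idx := Module.Free.ChooseBasisIndex k (R ⧸ J)

/-- lifts of the basis -/
noncomputable def rep (i : Idx (k := k) R J) : R := (Ideal.Quotient.mk_surjective (bas (k := k) R J i)).choose

theorem mk_rep (i : Idx (k := k) R J) : Ideal.Quotient.mk J (rep (k := k) R J i) = bas (k := k) R J i :=
  (Ideal.Quotient.mk_surjective (bas (k := k) R J i)).choose_spec

/-- the combination of the chosen lifts. -/
noncomputable def cmb (A : Art k k) : (Idx (k := k) R J →₀ A) →ₗ[A] A ⊗[k] R :=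
  Finsupp.linearCombination A fun i => (1 : A) ⊗ₜ rep (k := k) R J i

theorem cmb_apply (A : Art k k) (c : Idx (k := k) R J →₀ A) :
    cmb R J A c = c.sum fun i a => a ⊗ₜ rep (k := k) R J i := by
  rw [cmb, Finsupp.linearCombination_apply]
  exact Finsupp.sum_congr fun i _ => by rw [smul_tmul', smul_eq_mul, mul_one]

theorem mapT_cmb {A B : Art k k} (g : A ⟶ B) (c : Idx (k := k) R J →₀ A) :
    mapT R g (cmb R J A c) = cmb R J B (c.mapRange g (map_zero g.toAlgHom)) := by
  rw [cmb_apply, cmb_apply, Finsupp.sum_mapRange_index (fun i => by simp), Finsupp.sum, map_sum]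
  exact Finset.sum_congr rfl fun i _ => mapT_tmul ..

theorem mk_resT_cmb (A : Art k k) (c : Idx (k := k) R J →₀ A) :
    Ideal.Quotient.mk J (resT R A (cmb R J A c)) =
      Finsupp.linearCombination k (bas (k := k) R J) (c.mapRange A.res (map_zero A.res)) := by
  rw [cmb_apply, Finsupp.linearCombination_apply, Finsupp.sum_mapRange_index (fun i => by simp),
    Finsupp.sum, map_sum, map_sum]
  refine Finset.sum_congr rfl fun i _ => ?_
  change _ = A.res (c i) • bas (k := k) R J i
  rw [resT_tmul, ← mk_rep]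
  exact map_smul (Ideal.Quotient.mkₐ k J) _ _

variable {R J}

section good

variable {A : Art k k} {I : Ideal (A ⊗[k] R)}

theorem Good.resT_mem (h : Good R J A I) {x : A ⊗[k] R} (hx : x ∈ I) : resT R A x ∈ J :=
  h.2 ▸ Ideal.mem_map_of_mem _ hx

theorem Good.exists_mem (h : Good R J A I) {j : R} (hj : j ∈ J) : ∃ x ∈ I, resT R A x = j := by
  rw [← h.2] at hj
  exact (Ideal.mem_map_iff_of_surjective _ (resT_surjective R A)).1 hj

/-- every element is a combination modulo the ideal. -/
theorem Good.exists_repr (h : Good R J A I) (x : A ⊗[k] R) : ∃ c, x - cmb R J A c ∈ I := by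
  have key : (I.restrictScalars A ⊔ LinearMap.range (cmb R J A) : Submodule A (A ⊗[k] R)) = ⊤ :=
    ArtFlat.eq_top_of_le_sup_smul (ArtFlat.isNilpotent_maximalIdeal (A := A)) _ fun x _ => by
      let d := (bas (k := k) R J).repr (Ideal.Quotient.mk J (resT R A x))
      let c : Idx (k := k) R J →₀ A := d.mapRange (algebraMap k A) (map_zero _)
      have hj : resT R A (x - cmb R J A c) ∈ J := by
        rw [← Ideal.Quotient.eq_zero_iff_mem, map_sub, map_sub, mk_resT_cmb, sub_eq_zero]
        have : c.mapRange A.res (map_zero A.res) = d := Finsupp.ext fun i => A.res.commutes _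
        rw [this]
        exact ((bas (k := k) R J).linearCombination_repr _).symm
      obtain ⟨y, hy, hy'⟩ := h.exists_mem hj
      have hm := sub_one_tmul_mem R A (x - cmb R J A c - y)
      rw [map_sub, hy', sub_self, tmul_zero, sub_zero] at hm
      refine Submodule.mem_sup.2 ⟨y + cmb R J A c, Submodule.add_mem_sup hy ⟨c, rfl⟩, _, hm, ?_⟩
      abel
  obtain ⟨y, hy, z, ⟨c, rfl⟩, hxy⟩ := Submodule.mem_sup.1 (key.ge (Submodule.mem_top (x := x)))
  exact ⟨c, by rw [← hxy, add_sub_cancel_right]; exact hy⟩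

/-- a combination lies in the ideal only if it is trivial. -/
theorem Good.eq_zero (h : Good R J A I) {c : Idx (k := k) R J →₀ A} (hc : cmb R J A c ∈ I) : c = 0 := by
  haveI := h.1
  let Ψ : (Idx (k := k) R J →₀ A) →ₗ[A] (A ⊗[k] R) ⧸ I :=
    (Ideal.Quotient.mkₐ A I).toLinearMap ∘ₗ cmb R J A
  have hΨ : Function.Bijective Ψ := by
    refine ArtFlat.bijective_of_baseChange (ArtFlat.isNilpotent_maximalIdeal (A := A)) Ψ ⟨?_, ?_⟩
    · rw [← LinearMap.ker_eq_bot, eq_bot_iff]
      intro z hz
      obtain ⟨d, rfl⟩ := TensorProduct.mk_surjective A (Idx (k := k) R J →₀ A) (A ⧸ maximalIdeal A)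
        Ideal.Quotient.mk_surjective z
      rw [LinearMap.mem_ker, TensorProduct.mk_apply, LinearMap.lTensor_tmul] at hz
      have hz' : Ψ d ∈ maximalIdeal A • (⊤ : Submodule A ((A ⊗[k] R) ⧸ I)) := by
        rw [← LinearMap.ker_tensorProductMk, LinearMap.mem_ker]; exact hz
      have hd : ∀ i, d i ∈ maximalIdeal A := by
        have h0 : Ideal.Quotient.mk J (resT R A (cmb R J A d)) = 0 := by
          rw [show maximalIdeal A • (⊤ : Submodule A ((A ⊗[k] R) ⧸ I)) =
            (maximalIdeal A • (⊤ : Submodule A (A ⊗[k] R))).map (Ideal.Quotient.mkₐ A I).toLinearMap by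
              rw [Submodule.map_smul'', Submodule.map_top,
                LinearMap.range_eq_top.2 (Ideal.Quotient.mkₐ_surjective A I)]] at hz'
          obtain ⟨w, hw, hwd⟩ := Submodule.mem_map.1 hz'
          have hw' : cmb R J A d - w ∈ I := (Ideal.Quotient.eq).1 hwd.symm
          have h1 : resT R A w = 0 := by
            refine Submodule.smul_induction_on hw (fun a ha y _ => ?_) fun a b ha hb => by rw [map_add, ha, hb, add_zero]
            induction y using TensorProduct.induction_on with
            | zero => simp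
            | tmul b r =>
              rw [smul_tmul', smul_eq_mul, resT_tmul, map_mul, (Art.mem_maximalIdeal_iff A a).1 ha, zero_mul,
                zero_smul]
            | add y z hy hz => rw [smul_add, map_add, hy trivial, hz trivial, add_zero]
          have h2 := h.resT_mem hw'
          rw [map_sub, h1, sub_zero] at h2
          exact Ideal.Quotient.eq_zero_iff_mem.2 h2
        rw [mk_resT_cmb] at h0
        have h1 := linearIndependent_iff.1 (bas (k := k) R J).linearIndependent _ h0
        intro i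
        rw [Art.mem_maximalIdeal_iff]
        exact DFunLike.congr_fun h1 i
      rw [Submodule.mem_bot, TensorProduct.mk_apply, ← d.sum_single, Finsupp.sum, tmul_sum]
      refine Finset.sum_eq_zero fun i _ => ?_
      rw [show Finsupp.single i (d i) = d i • Finsupp.single i (1 : A) by simp, tmul_smul, smul_tmul',
        Algebra.smul_def, mul_one, Ideal.Quotient.algebraMap_eq, Ideal.Quotient.eq_zero_iff_mem.2 (hd i), zero_tmul]
    · refine LinearMap.lTensor_surjective _ fun q => ?_
      obtain ⟨x, rfl⟩ := Ideal.Quotient.mk_surjective q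
      obtain ⟨c, hc⟩ := h.exists_repr x
      exact ⟨c, ((Ideal.Quotient.eq).2 hc).symm⟩
  exact hΨ.1 ((Ideal.Quotient.eq_zero_iff_mem.2 hc).trans (map_zero Ψ).symm)

theorem good_of_repr (hex : ∀ x, ∃ c, x - cmb R J A c ∈ I) (h0 : ∀ c, cmb R J A c ∈ I → c = 0)
    (hres : I.map (resT R A) = J) : Good R J A I := by
  refine ⟨?_, hres⟩
  let Ψ : (Idx (k := k) R J →₀ A) →ₗ[A] (A ⊗[k] R) ⧸ I :=
    (Ideal.Quotient.mkₐ A I).toLinearMap ∘ₗ cmb R J A
  have hΨ : Function.Bijective Ψ := by
    refine ⟨LinearMap.ker_eq_bot.1 (eq_bot_iff.2 fun c hc => ?_), fun q => ?_⟩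
    · exact h0 c (Ideal.Quotient.eq_zero_iff_mem.1 hc)
    · obtain ⟨x, rfl⟩ := Ideal.Quotient.mk_surjective q
      obtain ⟨c, hc⟩ := hex x
      exact ⟨c, ((Ideal.Quotient.eq).2 hc).symm⟩
  exact Module.Flat.of_linearEquiv (LinearEquiv.ofBijective Ψ hΨ).symm

theorem Good.eq_of_le (h : Good R J A I) {I₂ : Ideal (A ⊗[k] R)} (h₂ : Good R J A I₂) (hle : I ≤ I₂) : I = I₂ := by
  refine le_antisymm hle fun x hx => ?_
  obtain ⟨c, hc⟩ := h.exists_repr x
  have hc0 := h₂.eq_zero (sub_sub_cancel x (cmb R J A c) ▸ I₂.sub_mem hx (hle hc))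
  simpa [hc0] using hc

theorem Good.map (h : Good R J A I) {B : Art k k} (g : A ⟶ B) : Good R J B (I.map (mapT R g)) := by
  have hres : (I.map (mapT R g)).map (resT R B) = J := by
    rw [← h.2]
    change (I.map (mapT R g).toRingHom).map (resT R B).toRingHom = I.map (resT R A).toRingHom
    rw [Ideal.map_map]
    exact congrArg (fun f => Ideal.map f I) (RingHom.ext fun x => resT_mapT R g x)
  choose π hπ using h.exists_repr
  have huniq : ∀ x c, x - cmb R J A c ∈ I → π x = c := fun x c hc => by
    refine sub_eq_zero.1 (h.eq_zero ?_)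
    rw [map_sub, show cmb R J A (π x) - cmb R J A c = (x - cmb R J A c) - (x - cmb R J A (π x)) by abel]
    exact I.sub_mem hc (hπ x)
  refine good_of_repr ?_ ?_ hres
  · intro y
    induction y using TensorProduct.induction_on with
    | zero => exact ⟨0, by simp⟩
    | tmul b r =>
      refine ⟨b • (π (1 ⊗ₜ r)).mapRange g (map_zero g.toAlgHom), ?_⟩
      have hmem := Ideal.mem_map_of_mem (mapT R g) (hπ (1 ⊗ₜ r))
      rw [map_sub, mapT_cmb, mapT_tmul, show g 1 = 1 from map_one g.toAlgHom] at hmem
      rw [map_smul, show (b ⊗ₜ[k] r : B ⊗[k] R) = b • (1 ⊗ₜ r) by rw [smul_tmul', smul_eq_mul, mul_one], ← smul_sub]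
      exact Submodule.smul_of_tower_mem _ b hmem
    | add x y hx hy =>
      obtain ⟨c, hc⟩ := hx
      obtain ⟨d, hd⟩ := hy
      exact ⟨c + d, by rw [map_add, add_sub_add_comm]; exact add_mem hc hd⟩
  · let P₀ : R →ₗ[k] (Idx (k := k) R J →₀ B) :=
      { toFun := fun r => (π (1 ⊗ₜ r)).mapRange g (map_zero g.toAlgHom)
        map_add' := fun r s => by
          rw [huniq (1 ⊗ₜ (r + s)) (π (1 ⊗ₜ r) + π (1 ⊗ₜ s)) (by
            rw [map_add, tmul_add, add_sub_add_comm]; exact add_mem (hπ _) (hπ _))]
          exact Finsupp.mapRange_add (fun a b => map_add g.toAlgHom a b) _ _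
        map_smul' := fun t r => by
          rw [huniq (1 ⊗ₜ (t • r)) (algebraMap k A t • π (1 ⊗ₜ r)) (by
            rw [map_smul, algebraMap_smul (A := A), tmul_smul, ← smul_sub]
            exact Submodule.smul_of_tower_mem _ t (hπ _))]
          refine Finsupp.ext fun i => ?_
          simp [Algebra.smul_def] }
    let P : B ⊗[k] R →ₗ[B] (Idx (k := k) R J →₀ B) := P₀.liftBaseChange B
    have hP : ∀ (b : B) (r : R), P (b ⊗ₜ r) = b • (π (1 ⊗ₜ r)).mapRange g (map_zero g.toAlgHom) := fun b r =>
      P₀.liftBaseChange_tmul ..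
    have hPmap : ∀ x, P (mapT R g x) = (π x).mapRange g (map_zero g.toAlgHom) := fun x => by
      induction x using TensorProduct.induction_on with
      | zero => rw [map_zero, map_zero, huniq 0 0 (by simp), Finsupp.mapRange_zero]
      | tmul a r =>
        rw [mapT_tmul, hP, huniq (a ⊗ₜ r) (a • π (1 ⊗ₜ r)) (by
          rw [map_smul, show (a ⊗ₜ[k] r : A ⊗[k] R) = a • (1 ⊗ₜ r) by rw [smul_tmul', smul_eq_mul, mul_one],
            ← smul_sub]
          exact Submodule.smul_of_tower_mem _ a (hπ _))]
        refine Finsupp.ext fun i => ?_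
        simp
      | add x y hx hy =>
        rw [map_add, map_add, hx, hy, huniq (x + y) (π x + π y) (by
          rw [map_add, add_sub_add_comm]; exact add_mem (hπ _) (hπ _)),
          Finsupp.mapRange_add (fun a b => map_add g.toAlgHom a b)]
    have hPcmb : ∀ c, P (cmb R J B c) = c := fun c => by
      rw [cmb, Finsupp.apply_linearCombination]
      conv_rhs => rw [← c.sum_single]
      rw [Finsupp.linearCombination_apply]
      refine Finsupp.sum_congr fun i _ => ?_
      have h1 : π (1 ⊗ₜ rep (k := k) R J i) = Finsupp.single i 1 := huniq _ _ (by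
        rw [cmb, Finsupp.linearCombination_single, one_smul, sub_self]; exact I.zero_mem)
      rw [Function.comp_apply, hP, one_smul, h1, Finsupp.mapRange_single, map_one g.toAlgHom, Finsupp.smul_single,
        smul_eq_mul, mul_one]
    have hI : ∀ y ∈ I.map (mapT R g), ∀ b, P (b * y) = 0 := by
      intro y hy
      rw [Ideal.map] at hy
      induction hy using Submodule.span_induction with
      | mem z hz =>
        obtain ⟨x, hx, rfl⟩ := hz
        intro b
        induction b using TensorProduct.induction_on with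
        | zero => rw [zero_mul, map_zero]
        | tmul a r =>
          rw [show (a ⊗ₜ[k] r : B ⊗[k] R) * mapT R g x = a • mapT R g ((1 ⊗ₜ r) * x) by
            rw [map_mul, mapT_tmul, show g 1 = 1 from map_one g.toAlgHom, ← smul_mul_assoc, smul_tmul', smul_eq_mul,
              mul_one], map_smul, hPmap, huniq ((1 ⊗ₜ r) * x) 0 (by
              rw [map_zero, sub_zero]; exact I.mul_mem_left _ hx), Finsupp.mapRange_zero, smul_zero]
        | add a b ha hb => rw [add_mul, map_add, ha, hb, add_zero]
      | zero => intro b; rw [mul_zero, map_zero]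
      | add x y _ _ hx hy => intro b; rw [mul_add, map_add, hx, hy, add_zero]
      | smul c z _ hz => intro b; rw [smul_eq_mul, ← mul_assoc, hz]
    intro c hc
    exact (hPcmb c).symm.trans ((congrArg P (one_mul _).symm).trans (hI _ hc 1))

end good

/-- The glued ideal of a fibre product square. -/
noncomputable def glue {B A' A'' : Art k k} (p' : B ⟶ A') (p'' : B ⟶ A'') (I' : Ideal (A' ⊗[k] R))
    (I'' : Ideal (A'' ⊗[k] R)) : Ideal (B ⊗[k] R) :=
  I'.comap (mapT R p') ⊓ I''.comap (mapT R p'')

theorem good_glue {B A A' A'' : Art k k} {p' : B ⟶ A'} {p'' : B ⟶ A''} {f' : A' ⟶ A} {f'' : A'' ⟶ A}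
    (hsq : Art.IsFibreProd p' p'' f' f'') {I' : Ideal (A' ⊗[k] R)} {I'' : Ideal (A'' ⊗[k] R)}
    (h' : Good R J A' I') (h'' : Good R J A'' I'') (he : I'.map (mapT R f') = I''.map (mapT R f'')) :
    Good R J B (glue p' p'' I' I'') := by
  classical
  have hex : ∀ x, ∃ c, x - cmb R J B c ∈ glue p' p'' I' I'' := fun x => by
    obtain ⟨c', hc'⟩ := h'.exists_repr (mapT R p' x)
    obtain ⟨c'', hc''⟩ := h''.exists_repr (mapT R p'' x)
    have hagree : c'.mapRange f' (map_zero f'.toAlgHom) = c''.mapRange f'' (map_zero f''.toAlgHom) := by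
      have h1 := Ideal.mem_map_of_mem (mapT R f') hc'
      have h2 := Ideal.mem_map_of_mem (mapT R f'') hc''
      rw [map_sub, mapT_cmb, ← mapT_comp] at h1 h2
      rw [← hsq.w, ← he] at h2
      refine sub_eq_zero.1 ((h'.map f').eq_zero ?_)
      rw [map_sub, show ∀ u v w : A ⊗[k] R, v - w = (u - w) - (u - v) from fun u v w => by abel]
      exact Ideal.sub_mem _ h2 h1
    choose b hb' hb'' using fun i => hsq.surj (c' i) (c'' i) (by simpa using DFunLike.congr_fun hagree i)
    let c : Idx (k := k) R J →₀ B := Finsupp.onFinset (c'.support ∪ c''.support) b fun i hi => by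
      by_contra hn
      simp only [Finset.mem_union, Finsupp.mem_support_iff, not_or, not_not] at hn
      exact hi (hsq.inj _ _ ((hb' i).trans (hn.1.trans (map_zero p'.toAlgHom).symm))
        ((hb'' i).trans (hn.2.trans (map_zero p''.toAlgHom).symm)))
    refine ⟨c, ?_, ?_⟩
    · rw [SetLike.mem_coe, Ideal.mem_comap, map_sub, mapT_cmb]
      rwa [show c.mapRange p' (map_zero p'.toAlgHom) = c' from Finsupp.ext fun i => by simp [c, hb']]
    · rw [SetLike.mem_coe, Ideal.mem_comap, map_sub, mapT_cmb]
      rwa [show c.mapRange p'' (map_zero p''.toAlgHom) = c'' from Finsupp.ext fun i => by simp [c, hb'']]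
  refine good_of_repr hex (fun c hc => ?_) (le_antisymm ?_ fun j hj => ?_)
  · obtain ⟨hc1, hc2⟩ := hc
    rw [SetLike.mem_coe, Ideal.mem_comap, mapT_cmb] at hc1 hc2
    refine Finsupp.ext fun i => hsq.inj _ _ ?_ ?_
    · rw [Finsupp.zero_apply, map_zero p'.toAlgHom]
      simpa using DFunLike.congr_fun (h'.eq_zero hc1) i
    · rw [Finsupp.zero_apply, map_zero p''.toAlgHom]
      simpa using DFunLike.congr_fun (h''.eq_zero hc2) i
  · rw [Ideal.map_le_iff_le_comap]
    intro x hx
    rw [Ideal.mem_comap, ← resT_mapT R p']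
    exact h'.resT_mem hx.1
  · obtain ⟨c, hc⟩ := hex (1 ⊗ₜ j)
    have hm : resT R B ((1 : B) ⊗ₜ[k] j - cmb R J B c) ∈ J := by
      rw [← resT_mapT R p']
      exact h'.resT_mem hc.1
    have h0 : c.mapRange B.res (map_zero B.res) = 0 := by
      refine linearIndependent_iff.1 (bas (k := k) R J).linearIndependent _ ?_
      rw [← mk_resT_cmb, Ideal.Quotient.eq_zero_iff_mem]
      have := J.sub_mem hj hm
      rwa [map_sub, resT_tmul, map_one B.res, one_smul, sub_sub_cancel] at this
    have h1 : resT R B (cmb R J B c) = 0 := by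
      rw [cmb_apply, Finsupp.sum, map_sum]
      refine Finset.sum_eq_zero fun i _ => ?_
      rw [resT_tmul, show B.res (c i) = 0 from DFunLike.congr_fun h0 i, zero_smul]
    have := Ideal.mem_map_of_mem (resT R B) hc
    rwa [map_sub, h1, sub_zero, resT_tmul, map_one B.res, one_smul] at this

theorem map_glue_fst {B A A' A'' : Art k k} {p' : B ⟶ A'} {p'' : B ⟶ A''} {f' : A' ⟶ A} {f'' : A'' ⟶ A}
    (hsq : Art.IsFibreProd p' p'' f' f'') {I' : Ideal (A' ⊗[k] R)} {I'' : Ideal (A'' ⊗[k] R)}
    (h' : Good R J A' I') (h'' : Good R J A'' I'') (he : I'.map (mapT R f') = I''.map (mapT R f'')) :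
    (glue p' p'' I' I'').map (mapT R p') = I' :=
  ((good_glue hsq h' h'' he).map p').eq_of_le h' (Ideal.map_le_iff_le_comap.2 inf_le_left)

theorem map_glue_snd {B A A' A'' : Art k k} {p' : B ⟶ A'} {p'' : B ⟶ A''} {f' : A' ⟶ A} {f'' : A'' ⟶ A}
    (hsq : Art.IsFibreProd p' p'' f' f'') {I' : Ideal (A' ⊗[k] R)} {I'' : Ideal (A'' ⊗[k] R)}
    (h' : Good R J A' I') (h'' : Good R J A'' I'') (he : I'.map (mapT R f') = I''.map (mapT R f'')) :
    (glue p' p'' I' I'').map (mapT R p'') = I'' :=
  ((good_glue hsq h' h'' he).map p'').eq_of_le h'' (Ideal.map_le_iff_le_comap.2 inf_le_right)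

theorem eq_glue {B A A' A'' : Art k k} {p' : B ⟶ A'} {p'' : B ⟶ A''} {f' : A' ⟶ A} {f'' : A'' ⟶ A}
    (hsq : Art.IsFibreProd p' p'' f' f'') {I : Ideal (B ⊗[k] R)} (h : Good R J B I) :
    I = glue p' p'' (I.map (mapT R p')) (I.map (mapT R p'')) := by
  refine h.eq_of_le (good_glue hsq (h.map p') (h.map p'') ?_) (le_inf Ideal.le_comap_map Ideal.le_comap_map)
  change (I.map (mapT R p').toRingHom).map (mapT R f').toRingHom =
    (I.map (mapT R p'').toRingHom).map (mapT R f'').toRingHom
  rw [Ideal.map_map, Ideal.map_map]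
  refine congrArg (fun f => Ideal.map f I) (RingHom.ext fun x => ?_)
  exact (mapT_comp R p' f' x).symm.trans (hsq.w ▸ mapT_comp R p'' f'' x)

end Groth.Agent.LHilb
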