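import Groth.Agent.LHilb.LocalLift
import Groth.Agent.HBSpread.Basic
import Groth.Agent.S11460
import Groth.Agent.S11458
import Groth.Agent.QC.Pullback
import Groth.Agent.CurveRR.Curve
import Mathlib

/-!
# Cohen–Macaulay subschemes of codimension two deform locally
-/

set_option autoImplicit false
set_option backward.isDefEq.respectTransparency false
set_option linter.style.haveILetI false
universe u

open TensorProduct CategoryTheory CategoryTheory.Limits AlgebraicGeometry ArtFun ArtFun.Art Opposite IsLocalRing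

namespace Groth.Agent.LHilb

open Groth.Agent.HilbBurch (Δ sum_Δ_mulVec)
open Groth.Agent.HBSpread (map_Δ HB)

theorem map_span_Δ {R S : Type u} [CommRing R] [CommRing S] (f : R →+* S) {r : ℕ}
    (φ : Matrix (Fin (r + 1)) (Fin r) R) :
    (Ideal.span (Set.range (Δ φ))).map f = Ideal.span (Set.range (Δ (φ.map f))) := by
  rw [Ideal.map_span, ← Set.range_comp]
  exact congrArg (fun v => Ideal.span (Set.range v)) (funext fun i => (map_Δ f φ i).symm)

theorem HB_equiv {R S : Type u} [CommRing R] [CommRing S] (e : R ≃+* S) {r : ℕ}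
    {φ : Matrix (Fin (r + 1)) (Fin r) R} {J : Ideal R} (h : HB φ J) : HB (φ.map e) (J.map e.toRingHom) := by
  refine ⟨?_, fun u hu => ?_, fun w hw => ?_⟩
  · rw [← h.1]
    exact (map_span_Δ e.toRingHom φ).symm
  · have h1 : φ.mulVec (e.symm ∘ u) = 0 := funext fun i => e.injective (by
      refine (HBSpread.map_mulVec e.toRingHom φ _ i).trans ?_
      rw [Pi.zero_apply, map_zero]
      refine Eq.trans ?_ (congrFun hu i)
      exact congrArg (fun v => (φ.map e).mulVec v i) (funext fun j => e.apply_symm_apply (u j)))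
    funext j
    have := congrArg e (congrFun (h.2.1 _ h1) j)
    simpa using this
  · have h1 : ∑ i, Δ φ i * (e.symm ∘ w) i = 0 := e.injective (by
      rw [map_zero, map_sum, ← hw]
      exact Finset.sum_congr rfl fun i _ => by
        rw [map_mul, Function.comp_apply, e.apply_symm_apply]
        exact congrArg (· * w i) (map_Δ e.toRingHom φ i).symm)
    obtain ⟨u, hu⟩ := h.2.2 _ h1
    refine ⟨e ∘ u, funext fun i => ?_⟩
    refine (HBSpread.map_mulVec e.toRingHom φ u i).symm.trans ?_
    rw [hu]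
    exact e.apply_symm_apply (w i)

section Alg

variable {k : Type u} [Field k] {R : Type u} [CommRing R] [Algebra k R] {J : Ideal R} {A B : Art k k}
  {p : B ⟶ A} {t : B}

/-- Lifting the matrix lifts the ideal of maximal minors, flatly. -/
theorem good_minors (L : LineExt p t) {r : ℕ} (φ' : Matrix (Fin (r + 1)) (Fin r) (B ⊗[k] R))
    {I : Ideal (A ⊗[k] R)} (h : Good R J A I) (hφ : HB (φ'.map (mapT R p)) I) :
    Good R J B (Ideal.span (Set.range (Δ φ'))) ∧ (Ideal.span (Set.range (Δ φ'))).map (mapT R p) = I := by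
  let I' := Ideal.span (Set.range (Δ φ'))
  have hΔ : ∀ i, Δ (φ'.map (mapT R p)) i = mapT R p (Δ φ' i) := fun i => map_Δ (mapT R p).toRingHom φ' i
  have hmap : I'.map (mapT R p) = I := (map_span_Δ (mapT R p).toRingHom φ').trans hφ.1
  have hres : I'.map (resT R B) = J := by
    rw [← h.2, ← hmap]
    change I'.map (resT R B).toRingHom = (I'.map (mapT R p).toRingHom).map (resT R A).toRingHom
    rw [Ideal.map_map]
    exact congrArg (fun f => Ideal.map f I') (RingHom.ext fun z => (resT_mapT R p z).symm)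
  have hJ : ∀ j ∈ J, (t : B) ⊗ₜ[k] j ∈ I' := fun j hj => by
    rw [← hres] at hj
    obtain ⟨w, hw, rfl⟩ := (Ideal.mem_map_iff_of_surjective _ (resT_surjective R B)).1 hj
    have := I'.mul_mem_left ((t : B) ⊗ₜ[k] (1 : R)) hw
    rwa [mul_comm, L.mul_t_tmul, mul_one] at this
  have hinj : ∀ s : R, (t : B) ⊗ₜ[k] s ∈ I' → s ∈ J := fun s hs => by
    obtain ⟨a, ha⟩ := Ideal.mem_span_range_iff_exists_fun.1 hs
    obtain ⟨u, hu⟩ := hφ.2.2 (fun i => mapT R p (a i)) (by
      have h0 := congrArg (mapT R p) ha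
      rw [mapT_tmul, L.map_t, zero_tmul, map_sum] at h0
      rw [← h0]
      exact Finset.sum_congr rfl fun i _ => by rw [map_mul, hΔ, mul_comm])
    choose u' hu' using fun j => mapT_surjective R p L.surj (u j)
    choose v hv using fun i => L.ker_mapT R (a i - φ'.mulVec u' i) (by
      rw [map_sub, sub_eq_zero]
      refine (congrFun hu i).symm.trans ?_
      refine Eq.trans ?_ (HBSpread.map_mulVec (mapT R p).toRingHom φ' u' i).symm
      exact congrArg (fun w => (φ'.map (mapT R p)).mulVec w i) (funext fun j => (hu' j).symm))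
    have e : (t : B) ⊗ₜ[k] s = (t : B) ⊗ₜ[k] ∑ i, resT R B (Δ φ' i) * v i := by
      rw [tmul_sum, ← ha]
      refine Eq.trans ?_ (Finset.sum_congr rfl fun i _ => L.mul_t_tmul R (Δ φ' i) (v i))
      have h2 : ∀ i, a i * Δ φ' i = Δ φ' i * φ'.mulVec u' i + Δ φ' i * ((t : B) ⊗ₜ[k] v i) := fun i => by
        rw [← hv]; ring
      simp only [h2, Finset.sum_add_distrib, sum_Δ_mulVec, zero_add]
    have h3 : s = ∑ i, resT R B (Δ φ' i) * v i := by
      obtain ⟨l, hl⟩ : ∃ l : B.carrier →ₗ[k] k, l t = 1 := by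
        obtain ⟨l, hl⟩ := (LinearMap.toSpanSingleton k B.carrier t).exists_leftInverse_of_injective
          (LinearMap.ker_eq_bot.2 (smul_left_injective k L.ne_zero))
        exact ⟨l, by simpa using LinearMap.congr_fun hl 1⟩
      have := congrArg ((TensorProduct.lid k R).toLinearMap ∘ₗ TensorProduct.map l LinearMap.id) e
      simpa [hl] using this
    rw [h3]
    exact J.sum_mem fun i _ => J.mul_mem_right _ (hres ▸ Ideal.mem_map_of_mem _ (Ideal.subset_span ⟨i, rfl⟩))
  refine ⟨good_of_repr (fun x => ?_) (fun c hc => ?_) hres, hmap⟩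
  · obtain ⟨c, hc⟩ := h.exists_repr (mapT R p x)
    obtain ⟨c', rfl⟩ := Finsupp.mapRange_surjective p (map_zero p.toAlgHom) L.surj c
    rw [← mapT_cmb, ← map_sub, ← hmap] at hc
    obtain ⟨w, hw, hwx⟩ := (Ideal.mem_map_iff_of_surjective _ (mapT_surjective R p L.surj)).1 hc
    obtain ⟨s, hs⟩ := L.ker_mapT R (x - cmb R J B c' - w) (by rw [map_sub, hwx, sub_self])
    let d := (bas (k := k) R J).repr (Ideal.Quotient.mk J s)
    let r' : R := d.sum fun i a => a • rep (k := k) R J i
    have hr' : Ideal.Quotient.mk J r' = Ideal.Quotient.mk J s := by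
      refine Eq.trans ?_ ((bas (k := k) R J).linearCombination_repr (Ideal.Quotient.mk J s))
      simp only [r', d, Finsupp.linearCombination_apply, Finsupp.sum, map_sum]
      exact Finset.sum_congr rfl fun i _ => (map_smul (Ideal.Quotient.mkₐ k J) _ _).trans (congrArg _ (mk_rep R J i))
    have hcmb : cmb R J B (d.mapRange (fun a : k => a • t) (zero_smul k t)) = (t : B) ⊗ₜ[k] r' := by
      rw [cmb_apply, Finsupp.sum_mapRange_index (fun i => by simp)]
      simp only [r', Finsupp.sum, tmul_sum]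
      exact Finset.sum_congr rfl fun i _ => (smul_tmul ..)
    refine ⟨c' + d.mapRange (fun a : k => a • t) (zero_smul k t), ?_⟩
    rw [map_add, hcmb, show x - (cmb R J B c' + (t : B) ⊗ₜ[k] r') =
      w + ((x - cmb R J B c' - w) - (t : B) ⊗ₜ[k] r') by abel, hs, ← tmul_sub]
    exact I'.add_mem hw (hJ _ (Ideal.Quotient.eq.1 hr'.symm))
  · have h1 : cmb R J A (c.mapRange p (map_zero p.toAlgHom)) ∈ I := by
      rw [← mapT_cmb, ← hmap]
      exact Ideal.mem_map_of_mem _ hc
    have h2 := h.eq_zero h1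
    choose d hd using fun i => (L.ker_eq (c i)).1 (DFunLike.congr_fun h2 i)
    let d' : Idx (k := k) R J →₀ k := Finsupp.onFinset c.support d fun i hi => by
      rw [Finsupp.mem_support_iff, hd i]
      exact smul_ne_zero hi L.ne_zero
    have hc' : c = d'.mapRange (fun a : k => a • t) (zero_smul k t) := Finsupp.ext fun i => by simp [d', hd i]
    let r' : R := d'.sum fun i a => a • rep (k := k) R J i
    have hcmb : cmb R J B c = (t : B) ⊗ₜ[k] r' := by
      rw [hc', cmb_apply, Finsupp.sum_mapRange_index (fun i => by simp)]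
      simp only [r', Finsupp.sum, tmul_sum]
      exact Finset.sum_congr rfl fun i _ => (smul_tmul ..)
    rw [hcmb] at hc
    have h3 : Finsupp.linearCombination k (bas (k := k) R J) d' = 0 := by
      rw [← Ideal.Quotient.eq_zero_iff_mem.2 (hinj r' hc)]
      simp only [r', Finsupp.linearCombination_apply, Finsupp.sum, map_sum]
      exact Finset.sum_congr rfl fun i _ =>
        ((map_smul (Ideal.Quotient.mkₐ k J) _ _).trans (congrArg _ (mk_rep R J i))).symm
    rw [hc', linearIndependent_iff.1 (bas (k := k) R J).linearIndependent _ h3, Finsupp.mapRange_zero]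

/-- Deformations of a determinantal ideal of height two are determinantal and lift. -/
theorem exists_good_lift [Algebra.FiniteType k R] [Algebra.Smooth k R] (L : LineExt p t) {I : Ideal (A ⊗[k] R)}
    (h : Good R J A I) (hcodim : ∀ P : Ideal R, P.IsPrime → J ≤ P → (2 : ℕ∞) ≤ P.height) {r : ℕ}
    (φ₀ : Matrix (Fin (r + 1)) (Fin r) R) (h₀ : HB φ₀ J) :
    ∃ I' : Ideal (B ⊗[k] R), Good R J B I' ∧ I'.map (mapT R p) = I := by
  let M := (maximalIdeal A.carrier).map (algebraMap A.carrier (A ⊗[k] R))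
  have hM : M = RingHom.ker (resT R A).toRingHom := by
    refine le_antisymm (Ideal.map_le_iff_le_comap.2 fun a ha => ?_) fun w hw => ?_
    · rw [Ideal.mem_comap, RingHom.mem_ker, Algebra.TensorProduct.algebraMap_apply, Algebra.algebraMap_self_apply]
      change resT R A (a ⊗ₜ[k] (1 : R)) = 0
      rw [resT_tmul, (mem_maximalIdeal_iff A a).1 ha, zero_smul]
    · have h1 := sub_one_tmul_mem R A w
      rw [show resT R A w = 0 from hw, tmul_zero, sub_zero] at h1
      refine Submodule.smul_induction_on h1 (fun a ha y _ => ?_) fun a b ha hb => add_mem ha hb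
      rw [Algebra.smul_def]
      exact Ideal.mul_mem_right _ _ (Ideal.mem_map_of_mem _ ha)
  let e : R ≃+* (A ⊗[k] R) ⧸ M :=
    ((Ideal.quotEquivOfEq hM).trans (RingHom.quotientKerEquivOfSurjective (resT_surjective R A))).symm
  have he : e.toRingHom.comp (resT R A).toRingHom = Ideal.Quotient.mk M := RingHom.ext fun w => by
    change e (resT R A w) = _
    rw [← e.apply_symm_apply (Ideal.Quotient.mk M w)]
    rfl
  have hI : I.map (Ideal.Quotient.mk M) = J.map e.toRingHom := by
    rw [← he, ← Ideal.map_map, ← h.2]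
    rfl
  haveI : Module.Flat A.carrier ((A ⊗[k] R) ⧸ I) := h.1
  haveI : Algebra.Smooth (A.carrier ⧸ maximalIdeal A.carrier) ((A ⊗[k] R) ⧸ M) := by
    let eq : ((A.carrier ⧸ maximalIdeal A.carrier) ⊗[A.carrier] (A ⊗[k] R)) ≃ₐ[A.carrier ⧸ maximalIdeal A.carrier]
        ((A ⊗[k] R) ⧸ M) :=
      AlgEquiv.ofRingEquiv (f := (Algebra.TensorProduct.quotIdealMapEquivQuotTensor (A ⊗[k] R) (maximalIdeal A.carrier)).symm.toRingEquiv)
        (fun c => (Algebra.TensorProduct.quotIdealMapEquivQuotTensor (A ⊗[k] R) (maximalIdeal A.carrier)).symm.commutes c)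
    exact Algebra.Smooth.of_equiv eq
  obtain ⟨φ, hspan, hinj, hex⟩ := Groth.Agent.S11458.result A.carrier (A ⊗[k] R) I (fun P hP hle => by
    rw [← e.height_comap P]
    refine hcodim _ inferInstance (Ideal.map_le_iff_le_comap.1 ?_)
    exact (hI ▸ hle :)) r (φ₀.map e) (by
      have := (HB_equiv e h₀).result
      rw [← hI] at this
      exact this)
  have hφ : HB φ I := HB.of ⟨hspan, hinj, hex⟩
  choose φ' hφ' using fun i j => mapT_surjective R p L.surj (φ i j)
  have e' : (Matrix.of φ').map (mapT R p) = φ := Matrix.ext hφ'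
  exact ⟨_, good_minors L (Matrix.of φ') h (e' ▸ hφ)⟩

end Alg

/-- Cohen–Macaulay of codimension two in a smooth scheme: deformations lift locally. -/
theorem exists_local_lift_of_cm_two {k : Type u} [Field k] {X : Scheme.{u}} (x : X ⟶ specPt k) [Smooth x]
    (I₀ : X.IdealSheafData) (hCM : ∀ y : I₀.subscheme, LocCoh.IsCohenMacaulayLocalRing (I₀.subscheme.presheaf.stalk y))
    (hcodim : ∀ y : I₀.subscheme,
      ringKrullDim (I₀.subscheme.presheaf.stalk y) + 2 = ringKrullDim (X.presheaf.stalk (I₀.subschemeι.base y)))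
    {B A : Art k k} (p : B ⟶ A) (t : B) (L : LineExt p t) (z : (localHilb X x I₀).obj A) (y : I₀.subscheme) :
    ∃ U : X.affineOpens, I₀.subschemeι y ∈ U.1 ∧ ∃ I' : Ideal (B ⊗[k] Sec x U.1),
      Good (Sec x U.1) (J₀ x I₀ U) B I' ∧ I'.map (mapT (Sec x U.1) p) = secI x z.1 U := by
  obtain ⟨U, hyU, r, φ₀, h₀⟩ := Groth.Agent.S11460.result k X I₀.subscheme x I₀.subschemeι hCM hcodim y
  refine ⟨U, hyU, ?_⟩
  have hsm : (x.appLE ⊤ U.1 le_top).hom.Smooth :=
    HasRingHomProperty.appLE (P := @Smooth) x inferInstance ⟨⊤, isAffineOpen_top _⟩ U le_top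
  have hk : (strMap x U.1 : k →+* Sec x U.1).Smooth :=
    RingHom.Smooth.comp (f := (Scheme.ΓSpecIso (CommRingCat.of k)).commRingCatIsoToRingEquiv.symm.toRingHom)
      (RingHom.Smooth.of_bijective (RingEquiv.bijective _)) hsm
  haveI : Algebra.Smooth k (Sec x U.1) := hk
  haveI : Algebra.FiniteType k (Sec x U.1) := inferInstance
  have h0 : HB (φ₀ : Matrix (Fin (r + 1)) (Fin r) (Sec x U.1)) (J₀ x I₀ U) := by
    have h1 := HB.of h₀
    rw [Scheme.IdealSheafData.ker_subschemeι] at h1
    exact h1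
  refine exists_good_lift L (good x z U) (fun P hP hle => ?_) φ₀ h0
  let q : PrimeSpectrum Γ(X, U.1) := ⟨P, hP⟩
  have hmem : U.2.fromSpec q ∈ U.1 := by rw [← SetLike.mem_coe, ← U.2.range_fromSpec]; exact Set.mem_range_self q
  obtain ⟨w, hw⟩ : U.2.fromSpec q ∈ Set.range I₀.subschemeι := by
    rw [I₀.range_subschemeι]
    exact ((I₀.coe_support_inter U).ge ((U.2.fromSpec_image_zeroLocus _).le ⟨q, hle, rfl⟩)).1
  have hd := hcodim w
  rw [show I₀.subschemeι.base w = U.2.fromSpec q from hw] at hd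
  letI := (X.presheaf.germ U.1 _ hmem).hom.toAlgebra
  haveI := U.2.isLocalization_stalk ⟨_, hmem⟩
  rw [IsLocalization.AtPrime.ringKrullDim_eq_height (U.2.primeIdealOf ⟨_, hmem⟩).asIdeal
    (X.presheaf.stalk (U.2.fromSpec q))] at hd
  have hq : U.2.primeIdealOf ⟨_, hmem⟩ = q := U.2.fromSpec.isOpenEmbedding.injective (U.2.fromSpec_primeIdealOf _)
  rw [hq] at hd
  have h2 : (2 : WithBot ℕ∞) ≤ (P.height : WithBot ℕ∞) := by
    rw [← hd]
    exact le_add_of_nonneg_left ringKrullDim_nonneg_of_nontrivial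
  exact WithBot.coe_le_coe.1 h2

/-- **Cohen–Macaulay subschemes of codimension two with `H¹(N) = 0` are unobstructed.** -/
theorem isSmoothFunctor_of_cm_two {k : Type u} [Field k] {X : Scheme.{u}} (x : X ⟶ specPt k) [Smooth x]
    (I₀ : X.IdealSheafData) (hCM : ∀ y : I₀.subscheme, LocCoh.IsCohenMacaulayLocalRing (I₀.subscheme.presheaf.stalk y))
    (hcodim : ∀ y : I₀.subscheme,
      ringKrullDim (I₀.subscheme.presheaf.stalk y) + 2 = ringKrullDim (X.presheaf.stalk (I₀.subschemeι.base y)))
    [DCoh.HasSheafHom (Omega.conormal I₀.subschemeι)]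
    (h : Subsingleton (Coh.HH I₀.subscheme ((DCoh.sheafHom (Omega.conormal I₀.subschemeι)).obj
      (Coh.structureModule I₀.subscheme)) 1)) :
    IsSmoothFunctor (localHilb X x I₀) := by
  haveI : IsLocallyNoetherian X := LocallyOfFiniteType.isLocallyNoetherian x
  haveI : IsLocallyNoetherian I₀.subscheme := LocallyOfFiniteType.isLocallyNoetherian I₀.subschemeι
  exact isSmoothFunctor_of_localLift x I₀ (QC.isCoh_pullback _ (CurveRR.isCoh_idealMod _).1)
    (fun B A p t L z y => exists_local_lift_of_cm_two x I₀ hCM hcodim p t L z y) h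

end Groth.Agent.LHilb
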