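import Groth.Agent.LHilb.HilbScheme
import Groth.Agent.LHilb.ImmIso
import Groth.Agent.LHilb.ProRepTangent
import Groth.Agent.LHilb.Rigid
import Groth.Agent.S12268
import Groth.Agent.S5178
import Mathlib

/-!
# Dimensions of the local rings of Hilbert schemes
-/

set_option autoImplicit false
set_option backward.isDefEq.respectTransparency false
set_option linter.style.haveILetI false
universe u

noncomputable section
open CategoryTheory CategoryTheory.Limits AlgebraicGeometry IsLocalRing ArtFun ArtFun.Art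

namespace Groth.Agent.LHilb

variable {k : Type u} [Field k]

theorem exists_presentation_sq (R : CRing k k) :
    ∃ (d : ℕ) (q : MvPowerSeries (Fin d) k →ₐ[k] R.carrier), Function.Surjective q ∧
      RingHom.ker q ≤ maximalIdeal (MvPowerSeries (Fin d) k) ^ 2 ∧
      (maximalIdeal R.carrier).spanFinrank = d := by
  obtain ⟨d, J, hJ, ⟨e⟩⟩ := Groth.Agent.ArtPow.exists_presentation R
  let q : MvPowerSeries (Fin d) k →ₐ[k] R.carrier := e.toAlgHom.comp (Ideal.Quotient.mkₐ k J)
  have hq : Function.Surjective q := e.surjective.comp Ideal.Quotient.mk_surjective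
  have hsq : RingHom.ker q ≤ maximalIdeal (MvPowerSeries (Fin d) k) ^ 2 := fun f hf => by
    refine hJ (Ideal.Quotient.eq_zero_iff_mem.1 (e.injective ?_))
    rw [map_zero]
    exact RingHom.mem_ker.1 hf
  refine ⟨d, q, hq, hsq, ?_⟩
  rw [spanFinrank_maximalIdeal_presented q.toRingHom hq hsq]
  have h := IsRegularLocalRing.spanFinrank_maximalIdeal (R := MvPowerSeries (Fin d) k)
  rw [S12268.ringKrullDim_ps k d] at h
  exact_mod_cast h

/-- The embedding dimension of the pro-representing ring is `h⁰(N)`. -/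
theorem finrank_h0_eq_spanFinrank {X Y : Scheme.{u}} (y : Y ⟶ Spec (CommRingCat.of k))
    [X.Over (Spec (CommRingCat.of k))] (i : X ⟶ Y) [IsClosedImmersion i]
    (hi : i ≫ y = X ↘ Spec (CommRingCat.of k)) [DCoh.HasSheafHom (Omega.conormal i)]
    [LocallyOfFiniteType y] (R : ProRep (localHilb Y y i.ker)) :
    Module.finrank k (Coh.HH X ((DCoh.sheafHom (Omega.conormal i)).obj (Coh.structureModule X)) 0) =
      (maximalIdeal R.ring.carrier).spanFinrank := by
  letI : i.ker.subscheme.Over (Spec (CommRingCat.of k)) := ⟨i.ker.subschemeι ≫ y⟩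
  haveI : EnoughInjectives X.Modules := Groth.Agent.SerrePn.enoughInjectives
  haveI : HasExt.{u} X.Modules := hasExt_of_enoughInjectives _
  haveI : EnoughInjectives i.ker.subscheme.Modules := Groth.Agent.SerrePn.enoughInjectives
  haveI : HasExt.{u} i.ker.subscheme.Modules := hasExt_of_enoughInjectives _
  haveI : DCoh.HasSheafHom (Omega.conormal i.ker.subschemeι) := W7Hull.hasSheafHom_sch _
  haveI : (DCoh.sheafHom (Omega.conormal i)).Additive :=
    (DCoh.sheafHomAdj (Omega.conormal i)).right_adjoint_additive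
  haveI : (DCoh.sheafHom (Omega.conormal i.ker.subschemeι)).Additive :=
    (DCoh.sheafHomAdj (Omega.conormal i.ker.subschemeι)).right_adjoint_additive
  let eX := LinearEquiv.ofBijective _ (SerrePn.homEval_bijective k (Omega.conormal i) (Coh.structureModule X))
  let eZ := LinearEquiv.ofBijective _ (SerrePn.homEval_bijective k (Omega.conormal i.ker.subschemeι)
    (Coh.structureModule i.ker.subscheme))
  obtain ⟨g0⟩ := nonempty_ext_conormal_equiv y i hi.symm rfl 0
  obtain ⟨eN⟩ := nonempty_hh_linearEquiv y i.ker rfl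
  obtain ⟨S⟩ := ArtKit.nonempty_tangentStr (h0 y) (heps y i.ker)
  letI := S
  obtain ⟨eT⟩ := nonempty_tangent_linearEquiv (I₀ := i.ker) y
  obtain ⟨d, q, hq, hsq, hd⟩ := exists_presentation_sq R.ring
  rw [hd]
  exact ((((eX.symm.trans (Abelian.Ext.linearEquiv₀ (R := k)).symm).trans g0).trans
      (Abelian.Ext.linearEquiv₀ (R := k))).trans eZ |>.trans eN.symm).finrank_eq.trans
    (eT.symm.finrank_eq.trans (finrank_tangent_proRep (isLeftExact y) (h0 y) R q hq hsq))

theorem dim_eq_natCast {R : Type u} [CommRing R] [Nontrivial R] {d : ℕ} (h : ringKrullDim R ≤ (d : WithBot ℕ∞)) :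
    ∃ n : ℕ, ringKrullDim R = (n : WithBot ℕ∞) := by
  obtain ⟨m, hm⟩ := WithBot.ne_bot_iff_exists.mp (ne_bot_of_le_ne_bot (WithBot.coe_ne_bot (a := (0 : ℕ∞))) (ringKrullDim_nonneg_of_nontrivial (R := R)))
  rw [← hm] at h ⊢
  have h' : m ≤ (d : ℕ∞) := by exact_mod_cast h
  obtain ⟨n, rfl⟩ := ENat.ne_top_iff_exists.mp (ne_top_of_le_ne_top (ENat.coe_ne_top d) h')
  exact ⟨n, rfl⟩

variable {O : Type u} [CommRing O] [IsLocalRing O] [IsNoetherianRing O] [Algebra k O]

/-- The extreme case of the obstruction bound gives a complete intersection. -/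
theorem isCompleteIntersection_of_obs {F : Art k k ⥤ Type u} (R : ProRep F)
    (e : AdicCompletion (maximalIdeal O) O ≃+* R.ring.carrier)
    (V : Type u) [AddCommGroup V] [Module k V] [Module.Finite k V] (T : ObsTheory F V)
    (heq : ringKrullDim O + (Module.finrank k V : WithBot ℕ∞) =
      ((maximalIdeal R.ring.carrier).spanFinrank : WithBot ℕ∞)) :
    Pi1.IsCompleteIntersection O := by
  classical
  obtain ⟨d, q, hq, hsq, hd⟩ := exists_presentation_sq R.ring
  rw [hd] at heq
  have hver : IsVersal R.family := fun B A μ _ φ z hz => by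
    obtain ⟨ψ, rfl⟩ := (R.universal B).2 z
    exact ⟨ψ, (R.universal A).1 ((R.family.natural μ ψ).trans hz), rfl⟩
  obtain ⟨s, hs, hcard⟩ := Groth.Agent.ArtObs.exists_small_relations (R.ring.res.comp q) q hq rfl hsq
    R.family hver V T
  obtain ⟨n, hn⟩ : ∃ n : ℕ, ringKrullDim O = (n : WithBot ℕ∞) := by
    have h1 : ringKrullDim O ≤ (d : WithBot ℕ∞) := by
      rw [← heq]
      exact le_add_of_nonneg_right (by exact_mod_cast Nat.zero_le _)
    exact dim_eq_natCast h1
  have h := Groth.Agent.S5178.result O (MvPowerSeries (Fin d) k) (RingHom.ker q)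
    ⟨e.trans (RingHom.quotientKerEquivOfSurjective (f := q.toRingHom) hq).symm⟩ n d hn (S12268.ringKrullDim_ps k d)
  refine h.2.1 ?_
  have h2 : (RingHom.ker q).spanFinrank ≤ s.card := by
    rw [← hs]
    exact (Submodule.spanFinrank_span_le_ncard_of_finite s.finite_toSet).trans (Set.ncard_coe_finset s).le
  have h3 : n + Module.finrank k V = d := by
    rw [hn] at heq
    exact_mod_cast heq
  have h4 := h.1
  omega

end Groth.Agent.LHilb
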