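import Groth.Agent.LHilb.Sections
import Groth.Agent.ArtKit.Basic
import Mathlib

/-!
# The local Hilbert functor is left exact
-/

set_option autoImplicit false
universe u

open TensorProduct CategoryTheory CategoryTheory.Limits AlgebraicGeometry ArtFun ArtFun.Art

namespace Groth.Agent.LHilb

variable {k : Type u} [Field k] {X : Scheme.{u}} (x : X ⟶ specPt k) {I₀ : X.IdealSheafData}

theorem isAffineHom_XAmap {A B : Art k k} (g : A ⟶ B) : IsAffineHom (XAmap x g) :=
  MorphismProperty.of_isPullback (P := @IsAffineHom) (isPullback_XAmap x g).flip inferInstance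

/-- The schematic image in `X_B` of a closed subscheme of `X_A`. -/
noncomputable def pushI {B A : Art k k} (p : B ⟶ A) (I : (XA x A).IdealSheafData) : (XA x B).IdealSheafData :=
  (I.subschemeι ≫ XAmap x p).ker

theorem secI_pushI {B A : Art k k} (p : B ⟶ A) (I : (XA x A).IdealSheafData) (U : X.affineOpens) :
    secI x (pushI x p I) U = (secI x I U).comap (mapT (Sec x U.1) p) := by
  haveI := isAffineHom_XAmap x p
  have hpre : XAmap x p ⁻¹ᵁ (preU x B U).1 = (preU x A U).1 := by
    simp [preU, ← Scheme.Hom.comp_preimage]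
  refine Ideal.ext fun z => ?_
  rw [secI, pushI, Ideal.mem_comap, Scheme.Hom.ker_apply, RingHom.mem_ker, Ideal.mem_comap, secI, Ideal.mem_comap,
    ← chart_XAmap x B p U z]
  have h1 : ∀ (W : (XA x A).affineOpens) (e : W.1 ≤ XAmap x p ⁻¹ᵁ (preU x B U).1)
      (_ : XAmap x p ⁻¹ᵁ (preU x B U).1 ≤ W.1) (y : Γ(XA x B, (preU x B U).1)),
      (I.subschemeι ≫ XAmap x p).app (preU x B U).1 y = 0 ↔
        (XAmap x p).appLE _ W.1 e y ∈ I.ideal W := by
    intro W e e' y
    have hW : W = ⟨XAmap x p ⁻¹ᵁ (preU x B U).1, (preU x B U).2.preimage _⟩ := Subtype.ext (le_antisymm e e')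
    subst hW
    rw [← Scheme.Hom.app_eq_appLE, ← Scheme.IdealSheafData.ker_subschemeι_app, RingHom.mem_ker,
      Scheme.Hom.comp_app]
    rfl
  exact h1 (preU x A U) (preU_le_XAmap x B p U) hpre.le _

theorem isLeftExact : IsLeftExact (localHilb X x I₀) := by
  intro B A A' A'' p' p'' f' f'' hsq
  refine ⟨(ArtKit.injective_cmp_iff hsq).2 fun z₁ z₂ e₁ e₂ => obj_ext x fun U => ?_,
    (ArtKit.surjective_cmp_iff hsq).2 fun z' z'' e => ?_⟩
  · rw [eq_glue hsq (good x z₁ U), eq_glue hsq (good x z₂ U), ← secI_map, ← secI_map, ← secI_map, ← secI_map, e₁, e₂]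
  · have he : ∀ U, (secI x z'.1 U).map (mapT (Sec x U.1) f') = (secI x z''.1 U).map (mapT (Sec x U.1) f'') :=
      fun U => by rw [← secI_map, ← secI_map, e]
    let I : (XA x B).IdealSheafData := pushI x p' z'.1 ⊓ pushI x p'' z''.1
    have hI : ∀ U, secI x I U = glue p' p'' (secI x z'.1 U) (secI x z''.1 U) := fun U => by
      rw [glue, ← secI_pushI, ← secI_pushI]
      exact Ideal.comap_inf ..
    refine ⟨⟨I, (good_iff x I).2 fun U => (hI U).symm ▸ good_glue hsq (good x z' U) (good x z'' U) (he U)⟩,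
      obj_ext x fun U => ?_, obj_ext x fun U => ?_⟩
    · rw [secI_map, hI, map_glue_fst hsq (good x z' U) (good x z'' U) (he U)]
    · rw [secI_map, hI, map_glue_snd hsq (good x z' U) (good x z'' U) (he U)]

theorem resT_base_bijective (R : Type u) [CommRing R] [Algebra k R] :
    Function.Bijective (resT R (base k k)) := by
  refine ⟨fun a b h => ?_, resT_surjective R _⟩
  have key : ∀ z : (base k k) ⊗[k] R, z = (1 : base k k) ⊗ₜ[k] resT R (base k k) z := fun z => by
    induction z using TensorProduct.induction_on with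
    | zero => simp
    | tmul c r =>
      rw [resT_tmul, tmul_smul, smul_tmul']
      exact congrArg (· ⊗ₜ[k] r) (mul_one c).symm
    | add z w hz hw => rw [map_add, tmul_add, ← hz, ← hw]
  rw [key a, key b, h]

/-- The trivial family. -/
noncomputable def trivI (A : Art k k) (I₀ : X.IdealSheafData) : (XA x A).IdealSheafData :=
  I₀.comap (pullback.fst x (specOver A))

theorem secI_trivI (A : Art k k) (U : X.affineOpens) :
    secI x (trivI x A I₀) U = (J₀ x I₀ U).map (Algebra.TensorProduct.includeRight : Sec x U.1 →ₐ[k] A ⊗[k] Sec x U.1) := by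
  have hcomp : fstMap x A U = (chart x A U).comp
      (Algebra.TensorProduct.includeRight : Sec x U.1 →ₐ[k] A ⊗[k] Sec x U.1).toRingHom := RingHom.ext fun r => by
    change _ = chart x A U ((1 : A) ⊗ₜ[k] r)
    rw [chart_tmul, map_one, one_mul]
  have hc : (trivI x A I₀).ideal (preU x A U) = (J₀ x I₀ U).map (fstMap x A U) :=
    FittLib.comap_ideal (pullback.fst x (specOver A)) I₀ U.2 (preU x A U).2 le_rfl
  rw [secI, hc, hcomp, ← Ideal.map_map, Ideal.comap_map_of_bijective _ (chart_bijective x A U)]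
  rfl

theorem h0 : H0 (localHilb X x I₀) := by
  have h : ∀ U : X.affineOpens, ∀ I : Ideal ((base k k) ⊗[k] Sec x U.1),
      I.map (resT (Sec x U.1) (base k k)) = J₀ x I₀ U → I = (J₀ x I₀ U).comap (resT (Sec x U.1) (base k k)) :=
    fun U I hI => by rw [← hI, Ideal.comap_map_of_bijective _ (resT_base_bijective _)]
  refine ⟨⟨⟨trivI x (base k k) I₀, ?_⟩⟩, ⟨fun z z' => obj_ext x fun U => ?_⟩⟩
  · refine (good_iff x _).2 fun U => ⟨?_, ?_⟩
    · haveI : Module.Free k (((base k k).carrier ⊗[k] Sec x U.1) ⧸ secI x (trivI x (base k k) I₀) U) :=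
        Module.Free.of_divisionRing k _
      exact (inferInstanceAs (Module.Flat k (((base k k).carrier ⊗[k] Sec x U.1) ⧸ secI x (trivI x (base k k) I₀) U)))
    · rw [secI_trivI]
      change ((J₀ x I₀ U).map (Algebra.TensorProduct.includeRight :
        Sec x U.1 →ₐ[k] (base k k) ⊗[k] Sec x U.1).toRingHom).map (resT (Sec x U.1) (base k k)).toRingHom = _
      rw [Ideal.map_map]
      conv_rhs => rw [← Ideal.map_id (J₀ x I₀ U)]
      exact congrArg (fun f => Ideal.map f (J₀ x I₀ U)) (RingHom.ext fun r => by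
        change resT (Sec x U.1) (base k k) ((1 : base k k) ⊗ₜ[k] r) = r
        rw [resT_tmul, map_one (base k k).res, one_smul])
  · rw [h U _ (good x z U).2, h U _ (good x z' U).2]

end Groth.Agent.LHilb
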