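import Groth.Agent.LHilb.ObstrSheaf
import Groth.Agent.ArtKit.Basic
import Mathlib

/-!
# Unobstructedness of closed subschemes with `Ext¹(I₀, O/I₀) = 0`
-/

set_option autoImplicit false
set_option backward.isDefEq.respectTransparency false
universe u

open CategoryTheory CategoryTheory.Limits AlgebraicGeometry ArtFun ArtFun.Art Abelian

namespace Groth.Agent.LHilb

variable {k : Type u} [Field k] {X : Scheme.{u}} (x : X ⟶ specPt k) {I₀ : X.IdealSheafData}

/-- Lifts along small extensions make the local Hilbert functor smooth. -/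
theorem isSmoothFunctor_of_small
    (h : ∀ ⦃B A : Art k k⦄ (p : B ⟶ A) (t : B), LineExt p t → ∀ z : (localHilb X x I₀).obj A,
      ∃ z' : (localHilb X x I₀).obj B, (localHilb X x I₀).map p z' = z) :
    IsSmoothFunctor (localHilb X x I₀) := by
  intro B A μ hμ
  refine ArtKit.surjective_induction (fun _ _ f => Function.Surjective ((localHilb X x I₀).map f)) ?_
    (fun A' B' p hp z => ?_) ?_ μ hμ
  · intro C D i hi
    exact Function.RightInverse.surjective (g := (localHilb X x I₀).map (inv i)) (ArtKit.map_app_inv _ i)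
  · obtain ⟨t, E⟩ := exists_lineExt p hp
    exact h p t E z
  · intro C D D' p q hp hq z
    obtain ⟨w, rfl⟩ := hq z
    obtain ⟨v, rfl⟩ := hp w
    exact ⟨v, ArtKit.map_comp_app _ _ _ _⟩

theorem exists_retraction [HasExt.{u} X.Modules] {S : ShortComplex X.Modules} (hS : S.ShortExact)
    (h : Subsingleton (Ext.{u} S.X₃ S.X₁ 1)) : ∃ r : S.X₂ ⟶ S.X₁, S.f ≫ r = 𝟙 _ := by
  obtain ⟨e, he⟩ := Ext.contravariant_sequence_exact₁ hS _ (Ext.mk₀ (𝟙 S.X₁)) (n₁ := 1) rfl (Subsingleton.elim _ _)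
  obtain ⟨r, rfl⟩ := Ext.homEquiv₀.symm.surjective e
  refine ⟨r, Ext.homEquiv₀.symm.injective ?_⟩
  rw [Ext.homEquiv₀_symm_apply, Ext.homEquiv₀_symm_apply] at *
  rwa [Ext.mk₀_comp_mk₀] at he

theorem isSmoothFunctor_of_ext [HasExt.{u} X.Modules]
    (h : Subsingleton (Ext.{u} (ClSub.idealMod I₀) (ClSub.quotMod I₀) 1)) :
    IsSmoothFunctor (localHilb X x I₀) := isSmoothFunctor_of_small x fun B A p t E z => by
  obtain ⟨i, hi⟩ := exists_i x z E.kerElt
  obtain ⟨q, hq⟩ := exists_q x z E.kerElt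
  obtain ⟨w, hw⟩ := exists_shortExact x z E.kerElt E i q hi hq
  obtain ⟨r, hr⟩ := exists_retraction hw h
  exact exists_lift_of_retraction x z E.kerElt E i hi r hr

end Groth.Agent.LHilb
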