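import Groth.Agent.SerrePn.SheafHomExt
import Groth.Agent.RefStalk.Refl
import Groth.Agent.RefStalk.Eval
import Mathlib

/-!
# Extensions of coherent sheaves that split at the stalks, with `H¹` of the sheaf Hom zero, split
-/

set_option autoImplicit false
set_option backward.isDefEq.respectTransparency false
set_option linter.style.haveILetI false
universe u

open CategoryTheory CategoryTheory.Limits AlgebraicGeometry Opposite
open Groth.Agent.WeakAssLib (mgerm mgerm_smul)

namespace Groth.Agent.LHilb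

variable {Y : Scheme.{u}}

/-- A retraction of the sections over an affine open gives retractions of the stalks there. -/
theorem exists_stalk_retraction {A B : Y.Modules} (hA : Coh.IsQCoh A) (hB : Coh.IsQCoh B) (f : A ⟶ B)
    {V : Y.Opens} (hV : IsAffineOpen V) (r : Γ(B, V) →+ Γ(A, V))
    (hsmul : ∀ (a : Γ(Y, V)) (s : Γ(B, V)), r (a • s) = a • r s) (hr : ∀ m, r (f.app V m) = m)
    (y : Y) (hy : y ∈ V) :
    ∃ ry : B.presheaf.stalk y →ₗ[Y.presheaf.stalk y] A.presheaf.stalk y,
      ∀ v, ry (W7Hull.st f y v) = v := by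
  obtain ⟨g, hg⟩ := RefStalk.exists_section_of_linear (G := A) (W := V) hV hB le_rfl r (fun a s => by
    rw [hsmul]
    exact congrArg (fun c => c • r s) (congr($(Y.presheaf.map_id (op V)) a)).symm)
  refine ⟨g.1 ⟨y, hy⟩, fun v => ?_⟩
  obtain ⟨a, s, ha, has⟩ := WeakAssLib.exists_germ hV (QC.isLoc_of_isQCoh hV (hM := hA)) hy v
  have h1 : ∀ m : Γ(A, V), g.1 ⟨y, hy⟩ (W7Hull.st f y (mgerm A hy m)) = mgerm A hy m := fun m => by
    refine (congrArg (g.1 ⟨y, hy⟩) (W7Hull.st_germ f hy m)).trans ?_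
    exact (hg y hy _).trans (congrArg (mgerm A hy) (hr m))
  have h2 := h1 s
  rw [← has, map_smul, map_smul] at h2
  exact (WeakAssLib.isUnit_germ hV hy ha).smul_left_cancel.1 h2

/-- A short exact sequence split at every stalk, with `H¹(ℋom(C, A)) = 0`, splits. -/
theorem exists_retraction_of_stalks [IsLocallyNoetherian Y] (k : Type u) [CommRing k]
    [Y.Over (Spec (CommRingCat.of k))] {S : ShortComplex Y.Modules} (hS : S.ShortExact)
    (h3 : Coh.IsCoh S.X₃) [DCoh.HasSheafHom S.X₃]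
    (hloc : ∀ y, ∃ ry : S.X₂.presheaf.stalk y →ₗ[Y.presheaf.stalk y] S.X₁.presheaf.stalk y,
      ∀ v, ry (W7Hull.st S.f y v) = v)
    (h : Subsingleton (Coh.HH Y ((DCoh.sheafHom S.X₃).obj S.X₁) 1)) :
    ∃ r : S.X₂ ⟶ S.X₁, S.f ≫ r = 𝟙 _ := by
  haveI := hS.mono_f
  haveI := hS.epi_g
  haveI : (DCoh.sheafHom S.X₃).Additive := (DCoh.sheafHomAdj S.X₃).right_adjoint_additive
  haveI : PreservesFiniteLimits (DCoh.sheafHom S.X₃) :=
    haveI : PreservesLimitsOfSize.{0, 0} (DCoh.sheafHom S.X₃) :=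
      (DCoh.sheafHomAdj S.X₃).rightAdjoint_preservesLimits
    inferInstance
  haveI hepi : Epi (RefFun.homMap S.X₃ S.g) := by
    refine W7Hull.epi_of_stalk fun y θ => ?_
    obtain ⟨ry, hry⟩ := hloc y
    let a := W7Hull.st S.f y
    let b := W7Hull.st S.g y
    have hb : Function.Surjective b :=
      (ModuleCat.epi_iff_surjective _).1 (Functor.map_epi (DerSch.stalkFunctor Y y) S.g)
    have hab : ∀ z, b z = 0 → z ∈ LinearMap.range a := fun z hz =>
      (ShortComplex.moduleCat_exact_iff _).1 (hS.exact.map (DerSch.stalkFunctor Y y)) z hz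
    have hker : LinearMap.ker b ≤ LinearMap.ker (LinearMap.id - a.comp ry) := fun z hz => by
      obtain ⟨w, rfl⟩ := hab z hz
      rw [LinearMap.mem_ker, LinearMap.sub_apply, LinearMap.id_apply, LinearMap.comp_apply]
      exact sub_eq_zero.2 (congrArg a (hry w)).symm
    let s := ((LinearMap.ker b).liftQ _ hker).comp (b.quotKerEquivOfSurjective hb).symm.toLinearMap
    have hs : ∀ v, b (s v) = v := fun v => by
      obtain ⟨z, rfl⟩ := hb v
      have h1 : (b.quotKerEquivOfSurjective hb).symm (b z) = Submodule.Quotient.mk z :=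
        (b.quotKerEquivOfSurjective hb).symm_apply_eq.2 rfl
      change b (((LinearMap.ker b).liftQ _ hker) ((b.quotKerEquivOfSurjective hb).symm (b z))) = b z
      rw [h1, Submodule.liftQ_apply, LinearMap.sub_apply, LinearMap.id_apply, map_sub, LinearMap.comp_apply]
      have h2 : b (a (ry z)) = 0 := by
        refine (W7Hull.st_comp S.f S.g y (ry z)).symm.trans ?_
        rw [S.zero]
        exact W7Hull.st_zero y _
      rw [h2, sub_zero]
    obtain ⟨θ', hθ'⟩ := (RefStalk.bijective_evalStalk_of_isCoh h3 y).2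
      (s.comp (RefHull.evalStalk S.X₃ S.X₃ y θ))
    refine ⟨θ', (RefStalk.bijective_evalStalk_of_isCoh h3 y).1 ?_⟩
    rw [W7Hull.evalStalk_homMap, hθ']
    have e : ∀ w, RefHull.stalkMapₗ S.g y w = b w := fun w => by
      obtain ⟨U, hU, m, rfl⟩ := TopCat.Presheaf.exists_germ_eq S.X₂.presheaf w
      rw [RefHull.stalkMapₗ_germ]
      exact (W7Hull.st_germ S.g hU m).symm
    exact LinearMap.ext fun v => (e _).trans (hs _)
  haveI : Epi ((DCoh.sheafHom S.X₃).map S.g) := by
    let e := W7Hull.sheafHomIso S.X₃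
    have : Epi ((RefFun.homFunctor S.X₃).map S.g) := hepi
    rw [show (DCoh.sheafHom S.X₃).map S.g = e.hom.app S.X₂ ≫ (RefFun.homFunctor S.X₃).map S.g ≫ e.inv.app S.X₃ by simp]
    infer_instance
  have hT : (S.map (DCoh.sheafHom S.X₃)).ShortExact :=
    { exact := hS.exact.map_of_mono_of_preservesKernel _ hS.mono_f inferInstance
      mono_f := inferInstanceAs (Mono ((DCoh.sheafHom S.X₃).map S.f))
      epi_g := inferInstanceAs (Epi ((DCoh.sheafHom S.X₃).map S.g)) }
  obtain ⟨z, hz⟩ := (CohFinite.δH_eq_zero_iff (CohFinite.shortExact_toAb hT) 0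
    (SerrePn.homEval k S.X₃ S.X₃ (𝟙 _))).1 (@Subsingleton.elim _ h _ _)
  obtain ⟨s, rfl⟩ := (SerrePn.homEval_bijective k S.X₃ S.X₂).2 z
  have hs : s ≫ S.g = 𝟙 _ := (SerrePn.homEval_bijective k S.X₃ S.X₃).1
    ((SerrePn.homEval_comp k S.X₃ s S.g).trans hz)
  let σ := ShortComplex.Splitting.ofExactOfSection S hS.exact s hs hS.mono_f
  exact ⟨σ.r, σ.f_r⟩

end Groth.Agent.LHilb
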