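import Groth.Agent.LHilb.ObstrPull
import Groth.Agent.LHilb.Smooth
import Groth.Agent.LHilb.SplitExt
import Mathlib

/-!
# Subschemes that deform locally and have `H¹(N) = 0` are unobstructed
-/

set_option autoImplicit false
set_option backward.isDefEq.respectTransparency false
set_option linter.style.haveILetI false
universe u

open TensorProduct CategoryTheory CategoryTheory.Limits AlgebraicGeometry ArtFun ArtFun.Art Opposite IsLocalRing

namespace Groth.Agent.LHilb

open Groth.Agent.QC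

section Alg

variable {k : Type u} [Field k] {R : Type u} [CommRing R] [Algebra k R] {J : Ideal R} {A B : Art k k}
  {p : B ⟶ A} {t : B} {I : Ideal (A ⊗[k] R)} {I' : Ideal (B ⊗[k] R)}

theorem mem_of_t_tmul_mem (L : LineExt p t) (h : Good R J B I') {r : R}
    (hr : (t : B) ⊗ₜ[k] r ∈ I') : r ∈ J := by
  have hJ : ∀ j ∈ J, (t : B) ⊗ₜ[k] j ∈ I' := fun j hj => by
    obtain ⟨w, hw, rfl⟩ := h.exists_mem hj
    have := I'.mul_mem_left ((t : B) ⊗ₜ[k] (1 : R)) hw
    rwa [mul_comm, L.mul_t_tmul, mul_one] at this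
  let d := (bas (k := k) R J).repr (Ideal.Quotient.mk J r)
  let r' : R := d.sum fun i a => a • rep (k := k) R J i
  have hr' : Ideal.Quotient.mk J r' = Ideal.Quotient.mk J r := by
    refine Eq.trans ?_ ((bas (k := k) R J).linearCombination_repr (Ideal.Quotient.mk J r))
    simp only [r', d, Finsupp.linearCombination_apply, Finsupp.sum, map_sum]
    exact Finset.sum_congr rfl fun i _ => (map_smul (Ideal.Quotient.mkₐ k J) _ _).trans (congrArg _ (mk_rep R J i))
  have hc : cmb R J B (d.mapRange (fun a : k => a • t) (zero_smul k t)) = (t : B) ⊗ₜ[k] r' := by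
    rw [cmb_apply, Finsupp.sum_mapRange_index (fun i => by simp)]
    simp only [r', Finsupp.sum, tmul_sum]
    exact Finset.sum_congr rfl fun i _ => (smul_tmul ..)
  have h2 := h.eq_zero (c := d.mapRange (fun a : k => a • t) (zero_smul k t)) (by
    rw [hc, show r' = r - (r - r') by abel, tmul_sub]
    exact I'.sub_mem hr (hJ _ (Ideal.Quotient.eq.1 hr'.symm)))
  have hd : d = 0 := Finsupp.ext fun i => by
    have h1 := DFunLike.congr_fun h2 i
    rw [Finsupp.mapRange_apply, Finsupp.zero_apply] at h1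
    exact (smul_eq_zero.1 h1).resolve_right L.ne_zero
  exact Ideal.Quotient.eq_zero_iff_mem.1 (((bas (k := k) R J).repr).map_eq_zero_iff.1 hd)

/-- The functional of a lift. -/
theorem exists_functional (L : LineExt p t) (h : Good R J B I') (hmap : I'.map (mapT R p) = I) :
    ∃ ℓ : obP p I →+ R ⧸ J,
      (∀ (w : B ⊗[k] R) (z : obP p I), ℓ (w • z) = Ideal.Quotient.mk J (resT R B w) * ℓ z) ∧
      (∀ r : R, ℓ ⟨(t : B) ⊗ₜ[k] r, t_tmul_mem_obP L.kerElt r⟩ = Ideal.Quotient.mk J r) := by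
  have key : ∀ z : obP p I, ∃ r : R, (z : B ⊗[k] R) - (t : B) ⊗ₜ[k] r ∈ I' := fun z => by
    have hz : mapT R p (z : B ⊗[k] R) ∈ I'.map (mapT R p) := by rw [hmap]; exact z.2
    obtain ⟨v, hv, hvz⟩ := (Ideal.mem_map_iff_of_surjective _ (mapT_surjective R p L.surj)).1 hz
    obtain ⟨r, hr⟩ := L.ker_mapT R ((z : B ⊗[k] R) - v) (by rw [map_sub, hvz, sub_self])
    exact ⟨r, by rwa [← hr, sub_sub_cancel]⟩
  choose ρ hρ using key
  have huniq : ∀ (z : obP p I) (r : R), (z : B ⊗[k] R) - (t : B) ⊗ₜ[k] r ∈ I' →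
      Ideal.Quotient.mk J (ρ z) = Ideal.Quotient.mk J r := fun z r hr => by
    refine Ideal.Quotient.eq.2 (mem_of_t_tmul_mem L h ?_)
    rw [tmul_sub]
    simpa using I'.sub_mem hr (hρ z)
  refine ⟨AddMonoidHom.mk' (fun z => Ideal.Quotient.mk J (ρ z)) fun a b => ?_, fun w z => ?_, fun r => ?_⟩
  · rw [← map_add]
    refine huniq _ _ ?_
    rw [tmul_add, AddSubmonoid.coe_add, add_sub_add_comm]
    exact I'.add_mem (hρ a) (hρ b)
  · change Ideal.Quotient.mk J (ρ (w • z)) = _ * Ideal.Quotient.mk J (ρ z)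
    rw [← map_mul]
    refine huniq _ _ ?_
    rw [Submodule.coe_smul, smul_eq_mul, ← L.mul_t_tmul R w, ← mul_sub]
    exact I'.mul_mem_left w (hρ z)
  · exact huniq _ _ (by rw [sub_self]; exact I'.zero_mem)

end Alg

variable {k : Type u} [Field k] {X : Scheme.{u}} {x : X ⟶ specPt k} {A B : Art k k} {p : B ⟶ A} {t : B}
  {I₀ : X.IdealSheafData}

/-- The retraction on sections given by a lift over an affine open. -/
theorem exists_sections_retraction (z : (localHilb X x I₀).obj A) (L : LineExt p t)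
    (i : ClSub.quotMod I₀ ⟶ shE x z L.kerElt)
    (hi : ∀ (U : X.affineOpens) (r : Sec x U.1),
      i.app U.1 (qEquiv x U (Ideal.Quotient.mk _ r)) = cls x z L.kerElt U ⟨_, t_tmul_mem_obP L.kerElt r⟩)
    (U : X.affineOpens) (I' : Ideal (B ⊗[k] Sec x U.1)) (hI : Good (Sec x U.1) (J₀ x I₀ U) B I')
    (hmap : I'.map (mapT (Sec x U.1) p) = secI x z.1 U) :
    ∃ r : Γ(shE x z L.kerElt, U.1) →+ Γ(ClSub.quotMod I₀, U.1),
      (∀ (a : Γ(X, U.1)) e, r (a • e) = a • r e) ∧ ∀ m, r (i.app U.1 m) = m := by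
  let E := L.kerElt
  obtain ⟨ℓ, hℓ, hℓt⟩ := exists_functional L hI hmap
  have hwd : ∀ v w : obP p (secI x z.1 U), cls x z E U v = cls x z E U w → ℓ v = ℓ w := fun v w e => by
    rw [← sub_eq_zero, ← map_sub, cls_eq_zero_iff] at e
    rw [← sub_eq_zero, ← map_sub]
    have hP := (v - w).2
    suffices H : ∀ y ∈ obK p t (J₀ x I₀ U) (secI x z.1 U), ∀ hy : y ∈ obP p (secI x z.1 U), ℓ ⟨y, hy⟩ = 0 from
      H _ e hP
    intro y hy
    obtain ⟨y₁, hy₁, y₂, hy₂, rfl⟩ := Submodule.mem_sup.1 hy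
    have h₁ : ∃ h : y₁ ∈ obP p (secI x z.1 U), ℓ ⟨y₁, h⟩ = 0 := by
      refine Submodule.mul_induction_on hy₁ (fun a ha b hb => ⟨Ideal.mul_mem_left _ _ hb, ?_⟩) ?_
      · refine (hℓ a ⟨b, hb⟩).trans ?_
        rw [map_max_eq_ker] at ha
        rw [(RingHom.mem_ker).1 ha, map_zero, zero_mul]
      · rintro a b ⟨ha, ha'⟩ ⟨hb, hb'⟩
        exact ⟨add_mem ha hb, (map_add ℓ ⟨a, ha⟩ ⟨b, hb⟩).trans (by rw [ha', hb', add_zero])⟩
    have h₂ : ∃ h : y₂ ∈ obP p (secI x z.1 U), ℓ ⟨y₂, h⟩ = 0 := by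
      obtain ⟨b, hb, rfl⟩ := Ideal.mem_span_singleton_mul.1 hy₂
      refine ⟨Ideal.mul_mem_right _ _ (t_tmul_mem_obP E 1), ?_⟩
      have : ((t : B) ⊗ₜ[k] (1 : Sec x U.1)) * b = (t : B) ⊗ₜ[k] resT (Sec x U.1) B b := by
        rw [mul_comm, L.mul_t_tmul, mul_one]
      refine (congrArg ℓ (Subtype.ext this : (⟨_, _⟩ : obP p (secI x z.1 U)) = ⟨_, t_tmul_mem_obP E _⟩)).trans ?_
      rw [hℓt]
      exact Ideal.Quotient.eq_zero_iff_mem.2 hb
    obtain ⟨h₁, h₁'⟩ := h₁
    obtain ⟨h₂, h₂'⟩ := h₂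
    intro hy'
    exact (map_add ℓ ⟨y₁, h₁⟩ ⟨y₂, h₂⟩).trans (by rw [h₁', h₂', add_zero])
  choose c hc using cls_surjective x z E U
  have hval : ∀ v, ℓ (c (cls x z E U v)) = ℓ v := fun v => hwd _ _ (hc _)
  refine ⟨AddMonoidHom.mk' (fun e => qEquiv x U (ℓ (c e))) fun a b => ?_, fun a e => ?_, fun m => ?_⟩
  · obtain ⟨v, rfl⟩ := cls_surjective x z E U a
    obtain ⟨w, rfl⟩ := cls_surjective x z E U b
    rw [← map_add, hval, hval, hval, map_add, map_add]
  · obtain ⟨v, rfl⟩ := cls_surjective x z E U e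
    change qEquiv x U (ℓ (c _)) = _
    rw [← cls_mul x z E U a v, hval, hℓ, resT_tmul, map_one, one_smul]
    change qEquiv x U (_ * ℓ v) = HMul.hMul (α := Γ(I₀.subscheme, I₀.subschemeι ⁻¹ᵁ U.1))
      (β := Γ(I₀.subscheme, I₀.subschemeι ⁻¹ᵁ U.1)) (I₀.subschemeι.app U.1 a) (qEquiv x U (ℓ (c (cls x z E U v))))
    rw [hval, map_mul, qEquiv_mk]
  · obtain ⟨s, rfl⟩ := (qEquiv x U).surjective m
    obtain ⟨s, rfl⟩ := Ideal.Quotient.mk_surjective s
    rw [hi]
    exact congrArg (qEquiv x U) ((hval _).trans (hℓt s))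

/-- **Unobstructedness from local liftability.** -/
theorem isSmoothFunctor_of_localLift (x : X ⟶ specPt k) (I₀ : X.IdealSheafData) [IsLocallyNoetherian I₀.subscheme]
    (hcoh : Coh.IsCoh (Omega.conormal I₀.subschemeι)) [DCoh.HasSheafHom (Omega.conormal I₀.subschemeι)]
    (hloc : ∀ ⦃B A : Art k k⦄ (p : B ⟶ A) (t : B), LineExt p t → ∀ (z : (localHilb X x I₀).obj A)
      (y : I₀.subscheme), ∃ U : X.affineOpens, I₀.subschemeι y ∈ U.1 ∧ ∃ I' : Ideal (B ⊗[k] Sec x U.1),
        Good (Sec x U.1) (J₀ x I₀ U) B I' ∧ I'.map (mapT (Sec x U.1) p) = secI x z.1 U)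
    (h : Subsingleton (Coh.HH I₀.subscheme ((DCoh.sheafHom (Omega.conormal I₀.subschemeι)).obj
      (Coh.structureModule I₀.subscheme)) 1)) :
    IsSmoothFunctor (localHilb X x I₀) := isSmoothFunctor_of_small x fun B A p t L z => by
  let ι := I₀.subschemeι
  letI : I₀.subscheme.Over (Spec (CommRingCat.of k)) := ⟨ι ≫ x⟩
  obtain ⟨i, hi⟩ := exists_i x z L.kerElt
  obtain ⟨q, hq⟩ := exists_q x z L.kerElt
  obtain ⟨w, hw⟩ := exists_shortExact x z L.kerElt L i q hi hq
  have hE := isQCoh_shE x z L.kerElt i q hw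
  haveI : Epi q := hw.epi_g
  haveI := hw.mono_f
  let P := Scheme.Modules.pullback ι
  let f : Coh.structureModule I₀.subscheme ⟶ P.obj (shE x z L.kerElt) := (quotIso I₀).inv ≫ P.map i
  let g : P.obj (shE x z L.kerElt) ⟶ Omega.conormal ι := P.map q ≫ (conormalIso I₀).hom
  have hfg : f ≫ g = 0 := by
    simp only [f, g, Category.assoc, ← Functor.map_comp_assoc, w, Functor.map_zero, Limits.zero_comp, Limits.comp_zero]
  let S := ShortComplex.mk f g hfg
  have hfs : ∀ (U : X.affineOpens) (s : Γ(ClSub.quotMod I₀, U.1)),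
      f.app (ι ⁻¹ᵁ U.1) s = OmegaSh.pullSect ι _ U.1 (i.app U.1 s) := fun U s => by
    have hc : (quotIso I₀).hom.app (ι ⁻¹ᵁ U.1) (OmegaSh.pullSect ι _ U.1 s) = s :=
      congr(($((Scheme.Modules.pullbackPushforwardAdjunction ι).right_triangle_components
        (Coh.structureModule I₀.subscheme))).app U.1 s)
    conv_lhs => rw [← hc]
    rw [← ConcreteCategory.comp_apply, ← Scheme.Modules.Hom.comp_app, Iso.hom_inv_id_assoc]
    exact app_pullSect ι i U.1 s
  have hret : ∀ y : I₀.subscheme, ∃ ry : (P.obj (shE x z L.kerElt)).presheaf.stalk y →ₗ[I₀.subscheme.presheaf.stalk y]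
      (Coh.structureModule I₀.subscheme).presheaf.stalk y, ∀ v, ry (W7Hull.st f y v) = v := by
    intro y
    obtain ⟨U, hyU, I', hI', hmap⟩ := hloc p t L z y
    obtain ⟨r, hr, hri⟩ := exists_sections_retraction z L i hi U I' hI' hmap
    obtain ⟨hs, hker⟩ := pullSect_surjective_and_eq_zero_iff hE U
    choose c hc using hs
    have hwd : ∀ e e', OmegaSh.pullSect ι _ U.1 e = OmegaSh.pullSect ι _ U.1 e' → r e = r e' := fun e e' he => by
      rw [← sub_eq_zero, ← map_sub, hker] at he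
      rw [← sub_eq_zero, ← map_sub]
      refine Submodule.smul_induction_on he (fun a ha v _ => ?_) (fun a b ha hb => by rw [map_add, ha, hb, add_zero])
      rw [hr]
      exact smul_mem_top_eq_zero U (Submodule.smul_mem_smul ha Submodule.mem_top)
    have hval : ∀ e, r (c (OmegaSh.pullSect ι _ U.1 e)) = r e := fun e => hwd _ _ (hc _)
    haveI : Coh.IsQCoh (shE x z L.kerElt) := hE
    refine exists_stalk_retraction (isQCoh_unit _) (isQCoh_pullback ι hE) f (isChart_subschemeι I₀ U).preimage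
      (AddMonoidHom.mk' (fun e => r (c e)) fun a b => ?_) (fun a e => ?_) (fun m => ?_) y hyU
    · refine (hwd _ (c a + c b) ?_).trans (map_add r _ _)
      rw [map_add, hc, hc, hc]
    · obtain ⟨a, rfl⟩ := (isChart_subschemeι I₀ U).surjective a
      refine (hwd _ (a • c e) ?_).trans (hr a (c e))
      rw [OmegaSh.pullSect_smul, hc, hc]
    · change r (c _) = m
      rw [hfs U, hval, hri]
  haveI : Mono f := W7Hull.mono_of_stalk fun y => by
    obtain ⟨ry, hry⟩ := hret y
    exact Function.LeftInverse.injective hry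
  haveI : Epi g := epi_comp _ _
  have hS : S.ShortExact :=
    { exact := by
        let e : (ShortComplex.mk i q w).map P ≅ S :=
          ShortComplex.isoMk (quotIso I₀) (Iso.refl _) (conormalIso I₀) (by simp [S, f]) (by simp [S, g])
        exact ShortComplex.exact_of_iso e (hw.exact.map_of_epi_of_preservesCokernel P hw.epi_g inferInstance)
      mono_f := inferInstanceAs (Mono f)
      epi_g := inferInstanceAs (Epi g) }
  obtain ⟨ρ, hρ⟩ := exists_retraction_of_stalks k hS hcoh hret h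
  let adj := Scheme.Modules.pullbackPushforwardAdjunction ι
  refine exists_lift_of_retraction x z L.kerElt L i hi (adj.homEquiv _ _ ρ) ?_
  have h2 : P.map i ≫ ρ = (quotIso I₀).hom := by
    have := congrArg ((quotIso I₀).hom ≫ ·) hρ
    simpa [S, f] using this
  rw [← Adjunction.homEquiv_naturality_left]
  refine (congrArg (adj.homEquiv _ _) h2).trans ?_
  rw [Adjunction.homEquiv_unit]
  exact adj.right_triangle_components _

end Groth.Agent.LHilb
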