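import Groth.Agent.LHilb.Tangent
import Groth.Agent.QC.IdealMod
import Groth.Agent.KosExt.Hom
import Groth.Agent.SerrePn.SheafHomExt
import Groth.Prelude.Def_Omega3
import Mathlib

/-!
# Compatible families, maps `I → O/I`, and sections of the normal sheaf
-/

set_option autoImplicit false
set_option backward.isDefEq.respectTransparency false
universe u

open TensorProduct CategoryTheory CategoryTheory.Limits AlgebraicGeometry ArtFun ArtFun.Art Opposite

namespace Groth.Agent.LHilb

open Groth.Agent.QC

variable {k : Type u} [Field k] {X : Scheme.{u}} (x : X ⟶ specPt k) {K I₀ : X.IdealSheafData} (hK : K = I₀)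

/-- Residue classes are the sections of the closed subscheme. -/
noncomputable def qEquiv (U : X.affineOpens) :
    (Sec x U.1 ⧸ J₀ x I₀ U) ≃+* Γ(I₀.subscheme, I₀.subschemeι ⁻¹ᵁ U.1) :=
  (Ideal.quotEquivOfEq (show J₀ x I₀ U = RingHom.ker ((I₀.subschemeι.app U.1).hom : Sec x U.1 →+* _) from
    (I₀.ker_subschemeι_app U).symm)).trans
    (RingHom.quotientKerEquivOfSurjective (f := ((I₀.subschemeι.app U.1).hom : Sec x U.1 →+* _))
      (I₀.subschemeι_app_surjective U))

theorem qEquiv_mk (U : X.affineOpens) (r : Sec x U.1) :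
    qEquiv x U (Ideal.Quotient.mk _ r) = I₀.subschemeι.app U.1 r := rfl

theorem qEquiv_smul (U : X.affineOpens) (r : Sec x U.1) (q : Sec x U.1 ⧸ J₀ x I₀ U) :
    qEquiv x U (r • q) = I₀.subschemeι.app U.1 r * qEquiv x U q := by
  obtain ⟨q, rfl⟩ := Ideal.Quotient.mk_surjective q
  exact map_mul (I₀.subschemeι.app U.1).hom r q

theorem qEquiv_qRes {U U' : X.affineOpens} (h : U'.1 ≤ U.1) (q : Sec x U.1 ⧸ J₀ x I₀ U) :
    qEquiv x U' (qRes x I₀ h q) = res (ClSub.quotMod I₀) h (qEquiv x U q) := by
  obtain ⟨q, rfl⟩ := Ideal.Quotient.mk_surjective q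
  rw [qRes_mk, qEquiv_mk, qEquiv_mk]
  exact ConcreteCategory.congr_hom (I₀.subschemeι.naturality (homOfLE h).op) q

include hK in
theorem exists_ideal_section (U : X.affineOpens) (j : J₀ x I₀ U) :
    ∃ s : Γ(ClSub.idealMod K, U.1), (ClSub.idealModι K).app U.1 s = (j : Sec x U.1) := by
  subst hK
  exact (mem_range_idealModι_affine K U _).2 j.2

/-- The section of the ideal module attached to an element of the ideal. -/
noncomputable def jsec (U : X.affineOpens) (j : J₀ x I₀ U) : Γ(ClSub.idealMod K, U.1) :=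
  (exists_ideal_section x hK U j).choose

theorem jsec_spec (U : X.affineOpens) (j : J₀ x I₀ U) :
    (ClSub.idealModι K).app U.1 (jsec x hK U j) = (j : Sec x U.1) :=
  (exists_ideal_section x hK U j).choose_spec

theorem jsec_eq (U : X.affineOpens) (j : J₀ x I₀ U) {s : Γ(ClSub.idealMod K, U.1)}
    (hs : (ClSub.idealModι K).app U.1 s = (j : Sec x U.1)) : jsec x hK U j = s :=
  app_injective_of_mono (ClSub.idealModι K) U.1 ((jsec_spec x hK U j).trans hs.symm)

include hK in
theorem app_mem (U : X.affineOpens) (s : Γ(ClSub.idealMod K, U.1)) :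
    ((ClSub.idealModι K).app U.1 s : Sec x U.1) ∈ J₀ x I₀ U := by
  subst hK
  exact (mem_range_idealModι_affine K U _).1 ⟨s, rfl⟩

/-- The family of a map `I → O/I`. -/
noncomputable def homFam (ψ : ClSub.idealMod K ⟶ ClSub.quotMod I₀) : NSec x I₀ :=
  ⟨fun U =>
    { toFun := fun j => (qEquiv x U).symm (ψ.app U.1 (jsec x hK U j))
      map_add' := fun a b => by
        rw [jsec_eq x hK U (a + b) (s := jsec x hK U a + jsec x hK U b)
          (by rw [map_add, jsec_spec, jsec_spec]; rfl), map_add]
        exact map_add (qEquiv x U).symm _ _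
      map_smul' := fun r a => by
        refine (qEquiv x U).injective ?_
        rw [RingEquiv.apply_symm_apply, RingHom.id_apply, qEquiv_smul, RingEquiv.apply_symm_apply,
          jsec_eq x hK U (r • a) (s := HSMul.hSMul (α := Γ(X, U.1)) r (jsec x hK U a))
            (by rw [Scheme.Modules.Hom.app_smul, jsec_spec]; rfl), Scheme.Modules.Hom.app_smul]
        rfl },
  fun U U' h j => by
    refine (qEquiv x U').injective ?_
    change qEquiv x U' ((qEquiv x U').symm _) = qEquiv x U' (qRes x I₀ h ((qEquiv x U).symm _))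
    rw [RingEquiv.apply_symm_apply, qEquiv_qRes, RingEquiv.apply_symm_apply,
      jsec_eq x hK U' _ (s := res (ClSub.idealMod K) h (jsec x hK U j))
        (by rw [← app_res, jsec_spec]; rfl), app_res]⟩

theorem homFam_apply (ψ : ClSub.idealMod K ⟶ ClSub.quotMod I₀) (U : X.affineOpens) (j : J₀ x I₀ U) :
    (homFam x hK ψ).1 U j = (qEquiv x U).symm (ψ.app U.1 (jsec x hK U j)) := rfl

theorem homFam_bijective : Function.Bijective (homFam x hK : (ClSub.idealMod K ⟶ ClSub.quotMod I₀) → NSec x I₀) := by
  constructor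
  · intro ψ ψ' h
    refine KosExt.hom_ext_affine fun U s => ?_
    have := congrArg (fun φ : NSec x I₀ => φ.1 U ⟨_, app_mem x hK U s⟩) h
    simp only [homFam_apply] at this
    have h2 := (qEquiv x U).symm.injective this
    rwa [jsec_eq x hK U ⟨_, app_mem x hK U s⟩ (s := s) rfl] at h2
  · intro φ
    obtain ⟨ψ, hψ⟩ := KosExt.exists_hom_affine (ClSub.idealMod K) (ClSub.quotMod I₀) (fun U =>
      { toFun := fun s => qEquiv x U (φ.1 U ⟨_, app_mem x hK U s⟩)
        map_add' := fun a b => by
          refine Eq.trans ?_ (map_add (qEquiv x U) _ _)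
          rw [← map_add (φ.1 U)]
          exact congrArg (fun t => qEquiv x U (φ.1 U t)) (Subtype.ext (map_add ((ClSub.idealModι K).app U.1).hom a b))
        map_smul' := fun r a => by
          refine Eq.trans ?_ (qEquiv_smul x U r _)
          rw [← map_smul (φ.1 U)]
          exact congrArg (fun t => qEquiv x U (φ.1 U t))
            (Subtype.ext (Scheme.Modules.Hom.app_smul (ClSub.idealModι K) r a)) })
      (fun U V h s => by
        change res (ClSub.quotMod I₀) h (qEquiv x U (φ.1 U ⟨_, app_mem x hK U s⟩)) =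
          qEquiv x V (φ.1 V ⟨_, app_mem x hK V (res (ClSub.idealMod K) h s)⟩)
        rw [← qEquiv_qRes, ← φ.2 U V h ⟨_, app_mem x hK U s⟩]
        exact congrArg (fun t => qEquiv x V (φ.1 V t)) (Subtype.ext (app_res (ClSub.idealModι K) h s)))
    refine ⟨ψ, Subtype.ext (funext fun U => LinearMap.ext fun j => ?_)⟩
    rw [homFam_apply, hψ]
    refine ((qEquiv x U).symm_apply_apply _).trans ?_
    exact congrArg (φ.1 U) (Subtype.ext (jsec_spec x hK U j))

end Groth.Agent.LHilb

namespace Groth.Agent.LHilb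

variable {k : Type u} [Field k] {X : Scheme.{u}} (x : X ⟶ specPt k) (I₀ : X.IdealSheafData)
  [I₀.subscheme.Over (Spec (CommRingCat.of k))]

theorem const_res (hY : I₀.subscheme ↘ Spec (CommRingCat.of k) = I₀.subschemeι ≫ x) (c : k) (U : X.Opens) :
    I₀.subscheme.presheaf.map (homOfLE (le_top : I₀.subschemeι ⁻¹ᵁ U ≤ ⊤)).op
      (Coh.toGlobal (I₀.subscheme ↘ Spec (CommRingCat.of k)) c) = I₀.subschemeι.app U (strMap x U c) := by
  change ((I₀.subscheme ↘ Spec (CommRingCat.of k)).appTop ≫
      I₀.subscheme.presheaf.map (homOfLE (le_top : I₀.subschemeι ⁻¹ᵁ U ≤ ⊤)).op)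
      ((Scheme.ΓSpecIso (CommRingCat.of k)).inv c) =
    (x.appLE ⊤ U le_top ≫ I₀.subschemeι.app U) ((Scheme.ΓSpecIso (CommRingCat.of k)).inv c)
  refine ConcreteCategory.congr_hom (C := CommRingCat) ?_ ((Scheme.ΓSpecIso (CommRingCat.of k)).inv c)
  rw [Scheme.Hom.app_eq_appLE, Scheme.Hom.appLE_comp_appLE, hY, Scheme.Hom.appTop, Scheme.Hom.app_eq_appLE,
    Scheme.Hom.appLE_map]

/-- The transposed map `I → O/I` of a map out of the conormal sheaf. -/
noncomputable def transpose (f : Omega.conormal I₀.subschemeι ⟶ Coh.structureModule I₀.subscheme) :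
    ClSub.idealMod I₀.subschemeι.ker ⟶ ClSub.quotMod I₀ :=
  (Scheme.Modules.pullbackPushforwardAdjunction I₀.subschemeι).homEquiv _ _ f

theorem transpose_app (f : Omega.conormal I₀.subschemeι ⟶ Coh.structureModule I₀.subscheme) (U : X.Opens)
    (s : Γ(ClSub.idealMod I₀.subschemeι.ker, U)) :
    (transpose I₀ f).app U s = f.app (I₀.subschemeι ⁻¹ᵁ U) (OmegaSh.conormalSect I₀.subschemeι U s) := by
  rw [transpose, Adjunction.homEquiv_unit]
  rfl

variable {I₀} in
/-- Maps out of the conormal sheaf as compatible families, linearly. -/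
noncomputable def conormalHom (hY : I₀.subscheme ↘ Spec (CommRingCat.of k) = I₀.subschemeι ≫ x) :
    (Omega.conormal I₀.subschemeι ⟶ Coh.structureModule I₀.subscheme) →ₗ[k] NSec x I₀ where
  toFun f := homFam x I₀.ker_subschemeι (transpose I₀ f)
  map_add' f g := Subtype.ext (funext fun U => LinearMap.ext fun j => (qEquiv x U).injective (by
    change qEquiv x U ((qEquiv x U).symm _) = qEquiv x U ((qEquiv x U).symm _ + (qEquiv x U).symm _)
    rw [map_add, RingEquiv.apply_symm_apply, RingEquiv.apply_symm_apply, RingEquiv.apply_symm_apply,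
      transpose_app, transpose_app, transpose_app]
    rfl))
  map_smul' c f := Subtype.ext (funext fun U => LinearMap.ext fun j => (qEquiv x U).injective (by
    change qEquiv x U ((qEquiv x U).symm _) = qEquiv x U (c • (qEquiv x U).symm _)
    conv_rhs => rw [← algebraMap_smul (Sec x U.1) c, qEquiv_smul]
    rw [RingEquiv.apply_symm_apply, RingEquiv.apply_symm_apply,
      transpose_app, transpose_app, KLin.smul_app_apply, const_res x I₀ hY]
    rfl))

theorem nonempty_hh_linearEquiv (hY : I₀.subscheme ↘ Spec (CommRingCat.of k) = I₀.subschemeι ≫ x)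
    [DCoh.HasSheafHom (Omega.conormal I₀.subschemeι)] :
    Nonempty (NSec x I₀ ≃ₗ[k]
      Coh.HH I₀.subscheme ((DCoh.sheafHom (Omega.conormal I₀.subschemeι)).obj (Coh.structureModule I₀.subscheme)) 0) := by
  haveI : (DCoh.sheafHom (Omega.conormal I₀.subschemeι)).Additive :=
    (DCoh.sheafHomAdj (Omega.conormal I₀.subschemeι)).right_adjoint_additive
  exact ⟨(LinearEquiv.ofBijective (conormalHom x hY) ((homFam_bijective x I₀.ker_subschemeι).comp
      ((Scheme.Modules.pullbackPushforwardAdjunction I₀.subschemeι).homEquiv _ _).bijective)).symm.trans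
    (LinearEquiv.ofBijective _ (SerrePn.homEval_bijective k (Omega.conormal I₀.subschemeι) _))⟩

end Groth.Agent.LHilb
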