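import Groth.Agent.LHilb.ObsPush
import Mathlib

/-!
# The obstruction classes attached to linear forms on the kernel of a semismall surjection
-/

set_option autoImplicit false
set_option backward.isDefEq.respectTransparency false
set_option linter.style.haveILetI false
universe u

open TensorProduct CategoryTheory CategoryTheory.Limits AlgebraicGeometry ArtFun ArtFun.Art IsLocalRing Abelian

namespace Groth.Agent.LHilb

open Groth.Agent.QC

variable {k : Type u} [Field k] {X : Scheme.{u}} (x : X ⟶ specPt k) {I₀ : X.IdealSheafData}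
  {A B : Art k k} {p : B ⟶ A} (z : (localHilb X x I₀).obj A) (E : KerElt p (0 : B))

/-- The conditions on `q`. -/
def IsQ {t : B.carrier} (E : KerElt p t) (q : shE x z E ⟶ ClSub.idealMod I₀) : Prop :=
  ∀ (U : X.affineOpens) (w : obP p (secI x z.1 U)),
    q.app U.1 (cls x z E U w) = jsec x (rfl : I₀ = I₀) U ⟨_, resT_mem_of_mem_obP (good x z U) w.2⟩

theorem exists_isQ {t : B.carrier} (E : KerElt p t) : ∃ q, IsQ x z E q := exists_q x z E

theorem app_q_surjective {t : B.carrier} {E : KerElt p t} {q : shE x z E ⟶ ClSub.idealMod I₀} (hq : IsQ x z E q)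
    (U : X.affineOpens) : Function.Surjective (q.app U.1) := fun s => by
  obtain ⟨w, hw, hwj⟩ := exists_resT_eq E (good x z U) (app_mem x (rfl : I₀ = I₀) U s)
  exact ⟨cls x z E U ⟨w, hw⟩, (hq U ⟨w, hw⟩).trans (jsec_eq x rfl U _ (s := s) hwj.symm)⟩

theorem epi_q {t : B.carrier} {E : KerElt p t} {q : shE x z E ⟶ ClSub.idealMod I₀} (hq : IsQ x z E q) : Epi q :=
  Conormal.epi_of_basis q (B := {V | IsAffineOpen V})
    (fun O y hy => by
      obtain ⟨V, hyV, hle⟩ := KosExt.exists_affine_le hy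
      exact ⟨V.1, V.2, hle, hyV⟩)
    fun V hV => app_q_surjective x z hq ⟨V, hV⟩

/-- Restriction to the closed subscheme. -/
noncomputable abbrev pb (I₀ : X.IdealSheafData) : X.Modules ⥤ I₀.subscheme.Modules :=
  Scheme.Modules.pullback I₀.subschemeι

variable {q : shE x z E ⟶ ClSub.idealMod I₀}

/-- The kernel sequence of the restricted projection. -/
noncomputable def kerSeq (q : shE x z E ⟶ ClSub.idealMod I₀) : ShortComplex I₀.subscheme.Modules :=
  ShortComplex.mk (kernel.ι ((pb I₀).map q)) ((pb I₀).map q) (kernel.condition _)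

theorem kerSeq_shortExact (hq : IsQ x z E q) : (kerSeq x z E q).ShortExact := by
  haveI := epi_q x z hq
  haveI : Epi (kerSeq x z E q).g := by
    haveI := Functor.preservesEpimorphisms_of_adjunction (Scheme.Modules.pullbackPushforwardAdjunction I₀.subschemeι)
    exact inferInstanceAs (Epi ((pb I₀).map q))
  haveI : Mono (kerSeq x z E q).f := inferInstanceAs (Mono (kernel.ι _))
  exact { exact := ShortComplex.exact_of_f_is_kernel _ (kernelIsKernel _) }

theorem tmul_mem_obP_of_ker (v : ↥(RingHom.ker p.toAlgHom)) {R : Type u} [CommRing R] [Algebra k R]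
    (I : Ideal (A ⊗[k] R)) (r : R) : (v.1 : B) ⊗ₜ[k] r ∈ obP p I := by
  rw [obP, Ideal.mem_comap, mapT_tmul, show p v.1 = 0 from v.2, zero_tmul]
  exact I.zero_mem

/-- `κ` evaluates the linear form `ℓ` on the kernel. -/
def IsKappa (q : shE x z E ⟶ ClSub.idealMod I₀) (ℓ : ↥(RingHom.ker p.toAlgHom) →ₗ[k] k)
    (κ : kernel ((pb I₀).map q) ⟶ Coh.structureModule I₀.subscheme) : Prop :=
  ∀ (U : X.affineOpens) (v : ↥(RingHom.ker p.toAlgHom)) (r : Sec x U.1)
    (τ : Γ(kernel ((pb I₀).map q), I₀.subschemeι ⁻¹ᵁ U.1)),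
    (kernel.ι ((pb I₀).map q)).app (I₀.subschemeι ⁻¹ᵁ U.1) τ =
      OmegaSh.pullSect I₀.subschemeι (shE x z E) U.1 (cls x z E U ⟨_, tmul_mem_obP_of_ker v _ r⟩) →
    κ.app (I₀.subschemeι ⁻¹ᵁ U.1) τ = qEquiv x U (Ideal.Quotient.mk _ (ℓ v • r))

theorem sect_induction (hE : Coh.IsQCoh (shE x z E)) (hq : IsQ x z E q) (U : X.affineOpens)
    {motive : Γ(kernel ((pb I₀).map q), I₀.subschemeι ⁻¹ᵁ U.1) → Prop} (zero : motive 0)
    (add : ∀ a b, motive a → motive b → motive (a + b))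
    (gen : ∀ (v : ↥(RingHom.ker p.toAlgHom)) (r : Sec x U.1) τ,
      (kernel.ι ((pb I₀).map q)).app (I₀.subschemeι ⁻¹ᵁ U.1) τ =
        OmegaSh.pullSect I₀.subschemeι (shE x z E) U.1 (cls x z E U ⟨_, tmul_mem_obP_of_ker v _ r⟩) → motive τ)
    (σ : Γ(kernel ((pb I₀).map q), I₀.subschemeι ⁻¹ᵁ U.1)) : motive σ := by
  let ι := I₀.subschemeι
  let V := ι ⁻¹ᵁ U.1
  let κι := kernel.ι ((pb I₀).map q)
  obtain ⟨e, he⟩ := (pullSect_surjective_and_eq_zero_iff hE U).1 (κι.app V σ)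
  have hc : OmegaSh.pullSect ι (ClSub.idealMod I₀) U.1 (q.app U.1 e) = 0 := by
    rw [← app_pullSect, he]
    exact congr($(congr($(kernel.condition ((pb I₀).map q)).app V)) σ)
  rw [(pullSect_surjective_and_eq_zero_iff (isQCoh_idealMod _) U).2] at hc
  obtain ⟨e', he', hqe⟩ : ∃ e' ∈ I₀.ideal U • (⊤ : Submodule Γ(X, U.1) Γ(shE x z E, U.1)),
      q.app U.1 e' = q.app U.1 e := by
    refine Submodule.smul_induction_on hc (fun a ha v _ => ?_) ?_
    · obtain ⟨v, rfl⟩ := app_q_surjective x z hq U v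
      exact ⟨a • v, Submodule.smul_mem_smul ha Submodule.mem_top, Scheme.Modules.Hom.app_smul ..⟩
    · rintro a b ⟨u, hu, rfl⟩ ⟨v, hv, rfl⟩
      exact ⟨u + v, add_mem hu hv, map_add _ _ _⟩
  obtain ⟨w, hw⟩ := cls_surjective x z E U (e - e')
  have h0 : resT (Sec x U.1) B (w : B ⊗[k] Sec x U.1) = 0 := by
    have h1 : q.app U.1 (cls x z E U w) = 0 := by rw [hw, map_sub, hqe, sub_self]
    rw [hq] at h1
    have h2 := congrArg ((ClSub.idealModι I₀).app U.1) h1
    rw [jsec_spec, map_zero] at h2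
    exact h2
  obtain ⟨y, hy, hwy⟩ := exists_sum_mem_obK E.surj (good x z U) w.2 h0
  have key : ∀ y ∈ AddSubmonoid.closure {y : B ⊗[k] Sec x U.1 | ∃ (b : B) (r : Sec x U.1), p b = 0 ∧ y = b ⊗ₜ r},
      ∃ (hy : y ∈ obP p (secI x z.1 U)) (τ : Γ(kernel ((pb I₀).map q), V)),
        κι.app V τ = OmegaSh.pullSect ι (shE x z E) U.1 (cls x z E U ⟨y, hy⟩) ∧ motive τ := by
    intro y hy
    induction hy using AddSubmonoid.closure_induction with
    | mem y hy =>
      obtain ⟨b, r, hb, rfl⟩ := hy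
      have hm := tmul_mem_obP_of_ker (p := p) ⟨b, hb⟩ (secI x z.1 U) r
      have hq0 : ((pb I₀).map q).app V (OmegaSh.pullSect ι (shE x z E) U.1 (cls x z E U ⟨_, hm⟩)) = 0 := by
        refine (app_pullSect ι q U.1 _).trans ?_
        rw [hq, show jsec x (rfl : I₀ = I₀) U ⟨_, resT_mem_of_mem_obP (good x z U) hm⟩ = 0 from
          jsec_eq x rfl U _ (s := 0) (by
            rw [map_zero]
            change 0 = resT (Sec x U.1) B (b ⊗ₜ[k] r)
            rw [resT_tmul, ← Art.res_app p b, hb, map_zero, zero_smul])]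
        exact map_zero _
      obtain ⟨τ, hτ⟩ := (mem_range_kernel_app ((pb I₀).map q) V _).2 hq0
      exact ⟨hm, τ, hτ, gen ⟨b, hb⟩ r τ hτ⟩
    | zero =>
      refine ⟨zero_mem _, 0, ?_, zero⟩
      rw [map_zero]
      exact ((congrArg (OmegaSh.pullSect ι (shE x z E) U.1) (map_zero (cls x z E U))).trans (map_zero _)).symm
    | add a b _ _ ha hb =>
      obtain ⟨ha1, τ, hτ, mτ⟩ := ha
      obtain ⟨hb1, τ', hτ', mτ'⟩ := hb
      refine ⟨add_mem ha1 hb1, τ + τ', ?_, add _ _ mτ mτ'⟩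
      rw [map_add, hτ, hτ', ← map_add, ← map_add]
      rfl
  obtain ⟨hy1, τ, hτ, mτ⟩ := key y hy
  have hcls : cls x z E U ⟨y, hy1⟩ = e - e' := by
    rw [← hw, ← sub_eq_zero, ← map_sub, cls_eq_zero_iff]
    rw [← neg_sub] at hwy
    exact neg_mem_iff.1 hwy
  have : σ = τ := app_injective_of_mono κι V (by
    rw [hτ, hcls, map_sub, (pullSect_surjective_and_eq_zero_iff hE U).2 e' |>.2 he', sub_zero, he])
  exact this ▸ mτ

theorem hom_ext_preimage {M N : I₀.subscheme.Modules} {φ ψ : M ⟶ N}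
    (h : ∀ (U : X.affineOpens) (s : Γ(M, I₀.subschemeι ⁻¹ᵁ U.1)),
      φ.app (I₀.subschemeι ⁻¹ᵁ U.1) s = ψ.app (I₀.subschemeι ⁻¹ᵁ U.1) s) : φ = ψ := by
  apply Scheme.Modules.hom_ext
  intro O
  ext s
  refine section_eq_of_locally fun y hy => ?_
  obtain ⟨O', hO', hOO⟩ := (I₀.subschemeι.isEmbedding.isInducing.isOpen_iff).1 O.2
  obtain ⟨U, hyU, hU⟩ := KosExt.exists_affine_le (O := (⟨O', hO'⟩ : X.Opens)) (x := I₀.subschemeι y)
    (hOO.symm ▸ hy : y ∈ I₀.subschemeι ⁻¹' O')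
  have hle : I₀.subschemeι ⁻¹ᵁ U.1 ≤ O := fun w hw => ((Set.ext_iff.1 hOO w).1 (hU hw) :)
  exact ⟨_, hle, hyU, by rw [app_res, app_res, h]⟩

theorem IsKappa.unique (hE : Coh.IsQCoh (shE x z E)) (hq : IsQ x z E q) {ℓ : ↥(RingHom.ker p.toAlgHom) →ₗ[k] k}
    {κ κ' : kernel ((pb I₀).map q) ⟶ Coh.structureModule I₀.subscheme} (h : IsKappa x z E q ℓ κ)
    (h' : IsKappa x z E q ℓ κ') : κ = κ' :=
  hom_ext_preimage fun U s => by
    refine sect_induction x z E hE hq U (by simp) (fun a b ha hb => by rw [map_add, map_add, ha, hb])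
      (fun v r τ hτ => (h U v r τ hτ).trans (h' U v r τ hτ).symm) s

theorem IsKappa.zero : IsKappa x z E q 0 0 := fun U v r τ _ => by
  rw [LinearMap.zero_apply, zero_smul, map_zero, map_zero, Scheme.Modules.Hom.zero_app]
  rfl

theorem IsKappa.add {ℓ ℓ' : ↥(RingHom.ker p.toAlgHom) →ₗ[k] k}
    {κ κ' : kernel ((pb I₀).map q) ⟶ Coh.structureModule I₀.subscheme} (h : IsKappa x z E q ℓ κ)
    (h' : IsKappa x z E q ℓ' κ') : IsKappa x z E q (ℓ + ℓ') (κ + κ') := fun U v r τ hτ => by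
  rw [LinearMap.add_apply, add_smul, map_add, map_add, ← h U v r τ hτ, ← h' U v r τ hτ]
  rfl

theorem IsKappa.smul [I₀.subscheme.Over (Spec (CommRingCat.of k))]
    (hY : I₀.subscheme ↘ Spec (CommRingCat.of k) = I₀.subschemeι ≫ x)
    {ℓ : ↥(RingHom.ker p.toAlgHom) →ₗ[k] k}
    {κ : kernel ((pb I₀).map q) ⟶ Coh.structureModule I₀.subscheme} (h : IsKappa x z E q ℓ κ) (c : k) :
    IsKappa x z E q (c • ℓ) (c • κ) := fun U v r τ hτ => by
  rw [LinearMap.smul_apply, smul_eq_mul, mul_smul, KLin.smul_app_apply, h U v r τ hτ, const_res x I₀ hY,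
    qEquiv_mk, qEquiv_mk, Algebra.smul_def c (ℓ v • r)]
  exact (map_mul (I₀.subschemeι.app U.1).hom _ _).symm

theorem mul_ker (hp : IsSemismallExt p) (b : B) {v : B} (hv : v ∈ RingHom.ker p.toAlgHom) :
    b * v = B.res b • v := by
  have h : b - algebraMap k B (B.res b) ∈ maximalIdeal B.carrier := by
    rw [Art.mem_maximalIdeal_iff, map_sub, AlgHom.commutes, Algebra.algebraMap_self_apply, sub_self]
  have h1 := hp.2.le (Ideal.mul_mem_mul h hv)
  rw [Ideal.mem_bot, sub_mul, sub_eq_zero] at h1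
  rwa [Algebra.smul_def]

/-- The quotient by the kernel of a nonzero linear form. -/
theorem exists_line (hp : IsSemismallExt p) (ℓ : ↥(RingHom.ker p.toAlgHom) →ₗ[k] k) (hℓ : ℓ ≠ 0) :
    ∃ (B' : Art k k) (p' : B' ⟶ A) (g : B ⟶ B') (t' : B'.carrier), g ≫ p' = p ∧ LineExt p' t' ∧
      Function.Surjective g ∧ ∀ v : ↥(RingHom.ker p.toAlgHom), g v.1 = ℓ v • t' := by
  obtain ⟨v₀, hv₀⟩ : ∃ v₀, ℓ v₀ = 1 := LinearMap.surjective_of_ne_zero hℓ 1
  let K : Ideal B.carrier :=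
    { carrier := {b | ∃ h : b ∈ RingHom.ker p.toAlgHom, ℓ ⟨b, h⟩ = 0}
      add_mem' := by
        rintro a b ⟨ha, ha0⟩ ⟨hb, hb0⟩
        refine ⟨add_mem ha hb, ?_⟩
        rw [show (⟨a + b, add_mem ha hb⟩ : ↥(RingHom.ker p.toAlgHom)) = ⟨a, ha⟩ + ⟨b, hb⟩ from rfl,
          map_add, ha0, hb0, add_zero]
      zero_mem' := ⟨zero_mem _, map_zero ℓ⟩
      smul_mem' := by
        rintro c v ⟨hv, hv0⟩
        refine ⟨Ideal.mul_mem_left _ c hv, ?_⟩
        rw [show (⟨c • v, Ideal.mul_mem_left _ c hv⟩ : ↥(RingHom.ker p.toAlgHom)) = B.res c • ⟨v, hv⟩ from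
          Subtype.ext (mul_ker hp c hv), map_smul, hv0, smul_zero] }
  have hKJ : K ≤ RingHom.ker p.toAlgHom := fun b hb => hb.1
  have hK : K ≤ maximalIdeal B.carrier := hKJ.trans (ArtKit.ker_le_maximalIdeal p)
  have hsub : ∀ v : ↥(RingHom.ker p.toAlgHom),
      Ideal.Quotient.mk K v.1 = Ideal.Quotient.mk K (ℓ v • v₀.1) := fun v => by
    rw [Ideal.Quotient.eq]
    refine ⟨(v - ℓ v • v₀).2, ?_⟩
    change ℓ (v - ℓ v • v₀) = 0
    rw [map_sub, map_smul, hv₀, smul_eq_mul, mul_one, sub_self]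
  refine ⟨quot B K hK, quotFactor hK p hKJ, quotMk B K hK, Ideal.Quotient.mk K v₀.1, quotMk_quotFactor hK p hKJ,
    ⟨fun a => ?_, fun b => ?_, fun b hb => ?_, fun h0 => ?_⟩, quotMk_surjective B K hK, fun v => ?_⟩
  · obtain ⟨b, rfl⟩ := hp.1 a
    exact ⟨Ideal.Quotient.mk K b, rfl⟩
  · obtain ⟨b, rfl⟩ := Ideal.Quotient.mk_surjective b
    change p b = 0 ↔ _
    refine ⟨fun hb => ⟨ℓ ⟨b, hb⟩, (hsub ⟨b, hb⟩).trans ?_⟩, fun ⟨c, hc⟩ => ?_⟩
    · exact map_smul (Ideal.Quotient.mkₐ k K) _ _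
    · change _ = c • Ideal.Quotient.mkₐ k K v₀.1 at hc
      rw [← map_smul] at hc
      have h1 : b - c • v₀.1 ∈ RingHom.ker p.toAlgHom := hKJ (Ideal.Quotient.eq.1 hc)
      have h2 : c • v₀.1 ∈ RingHom.ker p.toAlgHom := (c • v₀).2
      exact (sub_add_cancel b (c • v₀.1)) ▸ add_mem h1 h2
  · obtain ⟨b, rfl⟩ := Ideal.Quotient.mk_surjective b
    have hbm : b ∈ maximalIdeal B.carrier := by
      rw [Art.mem_maximalIdeal_iff] at hb ⊢
      exact hb
    have h1 := hp.2.le (Ideal.mul_mem_mul hbm v₀.2)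
    rw [Ideal.mem_bot] at h1
    exact (map_mul (Ideal.Quotient.mk K) b v₀.1).symm.trans ((congrArg _ h1).trans (map_zero _))
  · obtain ⟨_, h1⟩ := Ideal.Quotient.eq_zero_iff_mem.1 h0
    exact one_ne_zero (hv₀.symm.trans h1)
  · exact (hsub v).trans (map_smul (Ideal.Quotient.mkₐ k K) _ _)

/-- Functoriality of the kernel maps. -/
theorem exists_kernel_map {B' : Art k k} {p' : B' ⟶ A} {t' : B'.carrier} (E' : KerElt p' t')
    (g : B ⟶ B') (hg : g ≫ p' = p) (q' : shE x z E' ⟶ ClSub.idealMod I₀) (hq : IsQ x z E q)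
    (hq' : IsQ x z E' q') :
    ∃ π : shE x z E ⟶ shE x z E', π ≫ q' = q ∧
      (∀ (U : X.affineOpens) (w : obP p (secI x z.1 U)),
        π.app U.1 (cls x z E U w) = cls x z E' U ⟨_, mapT_mem_obP g hg w.2⟩) ∧
      kernel.ι ((pb I₀).map q) ≫ (pb I₀).map π ≫ (pb I₀).map q' = 0 := by
  obtain ⟨π, h1, h2⟩ := exists_push x z E E' g hg q q' hq hq'
  exact ⟨π, h1, h2, by rw [← Functor.map_comp, h1, kernel.condition]⟩

theorem app_comp_pullSect {B' : Art k k} {p' : B' ⟶ A} {t' : B'.carrier} {E' : KerElt p' t'}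
    {g : B ⟶ B'} {hg : g ≫ p' = p} {π : shE x z E ⟶ shE x z E'}
    (hπ : ∀ (U : X.affineOpens) (w : obP p (secI x z.1 U)),
      π.app U.1 (cls x z E U w) = cls x z E' U ⟨_, mapT_mem_obP g hg w.2⟩)
    (U : X.affineOpens) (v : ↥(RingHom.ker p.toAlgHom)) (r : Sec x U.1)
    (τ : Γ(kernel ((pb I₀).map q), I₀.subschemeι ⁻¹ᵁ U.1))
    (hτ : (kernel.ι ((pb I₀).map q)).app (I₀.subschemeι ⁻¹ᵁ U.1) τ =
      OmegaSh.pullSect I₀.subschemeι (shE x z E) U.1 (cls x z E U ⟨_, tmul_mem_obP_of_ker v _ r⟩)) :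
    ((pb I₀).map π).app (I₀.subschemeι ⁻¹ᵁ U.1)
      ((kernel.ι ((pb I₀).map q)).app (I₀.subschemeι ⁻¹ᵁ U.1) τ) =
      OmegaSh.pullSect I₀.subschemeι (shE x z E') U.1
        (cls x z E' U ⟨mapT (Sec x U.1) g ((v.1 : B) ⊗ₜ[k] r), mapT_mem_obP g hg (tmul_mem_obP_of_ker v _ r)⟩) := by
  rw [hτ, app_pullSect, hπ]

/-- A linear form is evaluated by a map `K → O`, whose class vanishes exactly when the family lifts to the line. -/
theorem exists_kappa (hI : IsH1Local I₀) (hp : IsSemismallExt p) (hq : IsQ x z E q)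
    (ℓ : ↥(RingHom.ker p.toAlgHom) →ₗ[k] k) :
    ∃ κ, IsKappa x z E q ℓ κ ∧ (ℓ ≠ 0 → ∃ (B' : Art k k) (p' : B' ⟶ A) (g : B ⟶ B') (t' : B'.carrier),
      g ≫ p' = p ∧ LineExt p' t' ∧ Function.Surjective g ∧ (∀ v : ↥(RingHom.ker p.toAlgHom), g v.1 = ℓ v • t') ∧
      ∀ [HasExt.{u} I₀.subscheme.Modules], ((kerSeq_shortExact x z E hq).extClass.comp (Ext.mk₀ κ) (add_zero 1) = 0 ↔
        ∃ z' : (localHilb X x I₀).obj B', (localHilb X x I₀).map p' z' = z)) := by
  by_cases hℓ : ℓ = 0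
  · exact ⟨0, hℓ ▸ IsKappa.zero x z E, fun h => absurd hℓ h⟩
  obtain ⟨B', p', g, t', hg, L, hgs, hgv⟩ := exists_line hp ℓ hℓ
  obtain ⟨i, hi⟩ := exists_i x z L.kerElt
  obtain ⟨q', hq'⟩ := exists_isQ x z L.kerElt
  obtain ⟨w, hw⟩ := exists_shortExact x z L.kerElt L i q' hi hq'
  have hS := shortExact_pullback x z L.kerElt i q' hI hq' hw
  obtain ⟨π, hπq, hπ, hπ0⟩ := exists_kernel_map x z E L.kerElt g hg q' hq hq'
  haveI := hS.mono_f
  let ψ : kernel ((pb I₀).map q) ⟶ (pb I₀).obj (ClSub.quotMod I₀) :=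
    hS.exact.lift (kernel.ι ((pb I₀).map q) ≫ (pb I₀).map π) (by rw [Category.assoc]; exact hπ0)
  have hψ : ψ ≫ (pb I₀).map i = kernel.ι ((pb I₀).map q) ≫ (pb I₀).map π := hS.exact.lift_f _ _
  refine ⟨ψ ≫ (quotIso I₀).hom, fun U v r τ hτ => ?_, fun _ =>
    ⟨B', p', g, t', hg, L, hgs, hgv, ?_⟩⟩
  · haveI : Mono ((pb I₀).map i) := hS.mono_f
    have h1 : ψ.app (I₀.subschemeι ⁻¹ᵁ U.1) τ = OmegaSh.pullSect I₀.subschemeι (ClSub.quotMod I₀) U.1
        (qEquiv x U (Ideal.Quotient.mk _ (ℓ v • r))) := by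
      refine app_injective_of_mono ((pb I₀).map i) _ ?_
      change (ψ ≫ (pb I₀).map i).app _ τ = _
      rw [hψ, app_pullSect, hi]
      refine (app_comp_pullSect x z E (hg := hg) hπ U v r τ hτ).trans ?_
      refine congrArg _ (congrArg _ (Subtype.ext ?_))
      change mapT (Sec x U.1) g ((v.1 : B) ⊗ₜ[k] r) = _
      rw [mapT_tmul, hgv, smul_tmul]
    change (quotIso I₀).hom.app _ (ψ.app _ τ) = _
    rw [h1]
    exact congr(($((Scheme.Modules.pullbackPushforwardAdjunction I₀.subschemeι).right_triangle_components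
      (Coh.structureModule I₀.subscheme))).app U.1 _)
  · intro _
    let φ : kerSeq x z E q ⟶ ShortComplex.mk ((pb I₀).map i) ((pb I₀).map q')
        (by rw [← Functor.map_comp, w, Functor.map_zero]) :=
      { τ₁ := ψ, τ₂ := (pb I₀).map π, τ₃ := 𝟙 _
        comm₁₂ := hψ
        comm₂₃ := by
          change (pb I₀).map π ≫ (pb I₀).map q' = (pb I₀).map q ≫ 𝟙 _
          rw [← Functor.map_comp, hπq, Category.comp_id] }
    have hnat := ShortComplex.ShortExact.extClass_naturality (kerSeq_shortExact x z E hq) hS φ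
    have key : (kerSeq_shortExact x z E hq).extClass.comp (Ext.mk₀ (ψ ≫ (quotIso I₀).hom)) (add_zero 1) =
        hS.extClass.comp (Ext.mk₀ (quotIso I₀).hom) (add_zero 1) := by
      rw [← Ext.mk₀_comp_mk₀, ← Ext.comp_assoc_of_third_deg_zero, hnat, Ext.mk₀_id_comp]
    rw [key]
    constructor
    · intro h0
      have h1 : hS.extClass.comp (Ext.mk₀ (𝟙 _)) (add_zero 1) = 0 := by
        have h2 := congrArg (fun e => Ext.comp e (Ext.mk₀ (quotIso I₀).inv) (add_zero 1)) h0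
        simp only [Ext.zero_comp, Ext.comp_assoc_of_third_deg_zero, Ext.mk₀_comp_mk₀, Iso.hom_inv_id] at h2
        exact h2
      obtain ⟨e, he⟩ := Ext.contravariant_sequence_exact₁ hS _ (Ext.mk₀ (𝟙 _)) (n₁ := 1) rfl h1
      obtain ⟨ρ, rfl⟩ := Ext.homEquiv₀.symm.surjective e
      rw [Ext.homEquiv₀_symm_apply, Ext.mk₀_comp_mk₀] at he
      have hρ : (pb I₀).map i ≫ ρ = 𝟙 _ := Ext.homEquiv₀.symm.injective (by
        rw [Ext.homEquiv₀_symm_apply, Ext.homEquiv₀_symm_apply]; exact he)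
      let adj := Scheme.Modules.pullbackPushforwardAdjunction I₀.subschemeι
      refine exists_lift_of_retraction x z L.kerElt L i hi
        (adj.homEquiv _ _ (ρ ≫ adj.counit.app (Coh.structureModule I₀.subscheme))) ?_
      rw [← Adjunction.homEquiv_naturality_left, ← Category.assoc]
      change adj.homEquiv _ _ (((pb I₀).map i ≫ ρ) ≫ _) = _
      rw [hρ, Category.id_comp, Adjunction.homEquiv_unit]
      exact adj.right_triangle_components _
    · rintro ⟨z', hz'⟩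
      obtain ⟨r, hr⟩ := exists_retraction_of_lift x z L.kerElt L i hi z' hz'
      have h1 : hS.extClass = 0 := by
        have h2 := hS.extClass_comp_assoc (Ext.mk₀ ((pb I₀).map r)) (n' := 1) (h := add_zero 1)
        rw [Ext.mk₀_comp_mk₀] at h2
        change hS.extClass.comp (Ext.mk₀ ((pb I₀).map i ≫ (pb I₀).map r)) (add_zero 1) = 0 at h2
        have h3 : (pb I₀).map i ≫ (pb I₀).map r = 𝟙 _ := by rw [← CategoryTheory.Functor.map_comp, hr, CategoryTheory.Functor.map_id]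
        exact (Ext.comp_mk₀_id _).symm.trans
          ((congrArg (fun f => hS.extClass.comp (Ext.mk₀ f) (add_zero 1)) h3.symm).trans h2)
      rw [h1, Ext.zero_comp]

end Groth.Agent.LHilb
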