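import Groth.Agent.LHilb.ObstrPull
import Mathlib

/-!
# Functoriality of the obstruction extension; retractions from lifts
-/

set_option autoImplicit false
set_option backward.isDefEq.respectTransparency false
universe u

open TensorProduct CategoryTheory CategoryTheory.Limits AlgebraicGeometry ArtFun ArtFun.Art IsLocalRing

namespace Groth.Agent.LHilb

open Groth.Agent.QC

section Algebra

variable {k : Type u} [Field k] {R : Type u} [CommRing R] [Algebra k R] {J : Ideal R}
variable {A B B' : Art k k} {p : B ⟶ A} {t : B.carrier} {I : Ideal (A ⊗[k] R)}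

theorem mapT_mem_obP {p' : B' ⟶ A} (g : B ⟶ B') (hg : g ≫ p' = p) {w : B ⊗[k] R} (hw : w ∈ obP p I) :
    mapT R g w ∈ obP p' I := by
  rw [obP, Ideal.mem_comap] at hw ⊢
  subst hg
  convert hw using 1
  clear hw
  induction w using TensorProduct.induction_on with
  | zero => simp
  | tmul b r => rw [mapT_tmul, mapT_tmul, mapT_tmul]; rfl
  | add a b ha hb => simp only [map_add, ha, hb]

theorem mapT_mem_obK {p' : B' ⟶ A} {t' : B'.carrier} (g : B ⟶ B') (hg : g ≫ p' = p) {w : B ⊗[k] R}
    (hw : w ∈ obK p (0 : B) J I) : mapT R g w ∈ obK p' t' J I := by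
  have h : obK p (0 : B) J I ≤ (obK p' t' J I).comap (mapT R g) := by
    refine sup_le ?_ ?_
    · refine Ideal.mul_le.2 fun a ha b hb => ?_
      rw [Ideal.mem_comap, map_mul]
      refine Submodule.mem_sup_left (Ideal.mul_mem_mul ?_ (mapT_mem_obP g hg hb))
      rw [← Ideal.mem_comap]
      refine SetLike.le_def.1 (Ideal.map_le_iff_le_comap.2 fun c hc => ?_) ha
      rw [Ideal.mem_comap, Ideal.mem_comap, Algebra.TensorProduct.algebraMap_apply, Algebra.algebraMap_self_apply,
        mapT_tmul]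
      refine Ideal.mem_map_of_mem _ ?_
      rw [Art.mem_maximalIdeal_iff] at hc ⊢
      exact (Art.res_app g c).trans hc
    · rw [zero_tmul, Ideal.span_singleton_zero, Ideal.bot_mul]
      exact bot_le
  exact h hw

/-- An element of the kernel of `P → J` is a combination of kernel elements modulo `m P`. -/
theorem exists_sum_mem_obK (hs : Function.Surjective p) (h : Good R J A I) {z : B ⊗[k] R} (hz : z ∈ obP p I)
    (h0 : resT R B z = 0) :
    ∃ v ∈ AddSubmonoid.closure {y : B ⊗[k] R | ∃ (b : B) (r : R), p b = 0 ∧ y = b ⊗ₜ r},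
      z - v ∈ obK p (0 : B) J I := by
  have hw := sub_one_tmul_mem R A (mapT R p z)
  rw [resT_mapT, h0, tmul_zero, sub_zero] at hw
  choose π hπ using h.exists_repr
  have hdec : ∀ w ∈ maximalIdeal A.carrier • (⊤ : Submodule A (A ⊗[k] R)),
      ∃ (c : _) (y : B ⊗[k] R), y ∈ obK p (0 : B) J I ∧ w = mapT R p y + cmb R J A c := by
    intro w hw
    refine Submodule.smul_induction_on hw (fun a ha y _ => ?_) ?_
    · obtain ⟨a', rfl⟩ := hs a
      obtain ⟨v, hv⟩ := mapT_surjective R p hs (y - cmb R J A (π y))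
      refine ⟨p a' • π y, a' • v, mem_obK_smul ?_ ?_, ?_⟩
      · rw [Art.mem_maximalIdeal_iff] at ha ⊢
        rwa [← Art.res_app p a']
      · rw [obP, Ideal.mem_comap, hv]; exact hπ y
      · rw [mapT_smul, hv, map_smul, smul_sub, sub_add_cancel]
    · rintro a b ⟨c, y, hy, rfl⟩ ⟨d, v, hv, rfl⟩
      exact ⟨c + d, y + v, add_mem hy hv, by rw [map_add, map_add]; abel⟩
  obtain ⟨c, y, hy, he⟩ := hdec _ hw
  have hc : cmb R J A c ∈ I := by
    have : mapT R p (z - y) ∈ I := I.sub_mem hz (obK_le (⟨hs, map_zero p.toAlgHom⟩ : KerElt p (0 : B)) hy) |>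
      fun h' => by rwa [map_sub]
    rwa [map_sub, he, add_sub_cancel_left] at this
  rw [h.eq_zero hc, map_zero, add_zero] at he
  have hk : mapT R p (z - y) = 0 := by rw [map_sub, he, sub_self]
  let N : Submodule k B.carrier := LinearMap.ker p.toAlgHom.toLinearMap
  have hex : Function.Exact N.subtype p.toAlgHom.toLinearMap := fun b =>
    ⟨fun hb => ⟨⟨b, hb⟩, rfl⟩, fun ⟨⟨c, hc⟩, e⟩ => e ▸ hc⟩
  obtain ⟨v, hv⟩ := (rTensor_exact (R := k) R hex hs (z - y)).1 hk
  refine ⟨z - y, ?_, by rwa [sub_sub_cancel]⟩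
  rw [← hv]
  clear hv
  induction v using TensorProduct.induction_on with
  | zero => rw [map_zero]; exact zero_mem _
  | tmul b r => exact AddSubmonoid.subset_closure ⟨b.1, r, b.2, rfl⟩
  | add a b ha hb => rw [map_add]; exact add_mem ha hb

theorem LineExt.mem_of_t_tmul_mem (L : LineExt p t) {I' : Ideal (B ⊗[k] R)} (h' : Good R J B I') {r : R}
    (hr : (t : B) ⊗ₜ[k] r ∈ I') : r ∈ J := by
  obtain ⟨c, hc⟩ := h'.exists_repr ((1 : B) ⊗ₜ[k] r)
  have h1 : t • c = 0 := h'.eq_zero (by
    rw [map_smul, show t • cmb R J B c = (t : B) ⊗ₜ[k] r - t • ((1 : B) ⊗ₜ[k] r - cmb R J B c) by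
      rw [smul_sub, smul_tmul', smul_eq_mul, mul_one, sub_sub_cancel]]
    refine I'.sub_mem hr ?_
    rw [Algebra.smul_def]
    exact I'.mul_mem_left _ hc)
  have h2 : resT R B (cmb R J B c) = 0 := by
    rw [cmb_apply, map_finsuppSum]
    refine Finset.sum_eq_zero fun i _ => ?_
    have h3 : B.res (c i) • t = 0 := by
      rw [← L.mul_t, mul_comm]
      exact DFunLike.congr_fun h1 i
    change resT R B (c i ⊗ₜ[k] rep (k := k) R J i) = 0
    rw [resT_tmul, (smul_eq_zero.1 h3).resolve_right L.ne_zero, zero_smul]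
  have h4 := h'.resT_mem hc
  rwa [map_sub, h2, sub_zero, resT_tmul, map_one, one_smul] at h4

/-- The decomposition of an element of `P` along a lift. -/
theorem LineExt.exists_dec (L : LineExt p t) {I' : Ideal (B ⊗[k] R)} (hI : I'.map (mapT R p) = I)
    {w : B ⊗[k] R} (hw : w ∈ obP p I) : ∃ r : R, w - (t : B) ⊗ₜ[k] r ∈ I' := by
  rw [obP, Ideal.mem_comap, ← hI] at hw
  obtain ⟨w', hw', e⟩ := (Ideal.mem_map_iff_of_surjective _ (mapT_surjective R p L.surj)).1 hw
  obtain ⟨r, hr⟩ := L.ker_mapT R (w - w') (by rw [map_sub, e, sub_self])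
  exact ⟨r, by rwa [← hr, sub_sub_cancel]⟩

theorem LineExt.obK_le_lift (L : LineExt p t) {I' : Ideal (B ⊗[k] R)} (h' : Good R J B I')
    (hI : I'.map (mapT R p) = I) : obK p t J I ≤ I' := by
  refine sup_le (Ideal.mul_le.2 fun a ha b hb => ?_) (Ideal.mul_le.2 fun a ha b hb => ?_)
  · obtain ⟨r, hr⟩ := L.exists_dec hI hb
    have h0 : a * ((t : B) ⊗ₜ[k] r) = 0 := by
      rw [L.mul_t_tmul]
      suffices resT R B a = 0 by rw [this, zero_mul, tmul_zero]
      rw [← RingHom.mem_ker (f := resT R B)]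
      refine SetLike.le_def.1 (Ideal.map_le_iff_le_comap.2 fun c hc => ?_) ha
      rw [Ideal.mem_comap, RingHom.mem_ker, Algebra.TensorProduct.algebraMap_apply, Algebra.algebraMap_self_apply,
        resT_tmul, (Art.mem_maximalIdeal_iff B c).1 hc, zero_smul]
    have := I'.mul_mem_left a hr
    rwa [mul_sub, h0, sub_zero] at this
  · obtain ⟨c, rfl⟩ := Ideal.mem_span_singleton'.1 ha
    rw [mul_assoc]
    refine I'.mul_mem_left c ?_
    obtain ⟨w', hw', e⟩ := h'.exists_mem (Ideal.mem_comap.1 hb)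
    have h1 := I'.mul_mem_right ((t : B) ⊗ₜ[k] (1 : R)) hw'
    rw [L.mul_t_tmul, e, mul_one] at h1
    rwa [mul_comm, L.mul_t_tmul, mul_one]

end Algebra

section Sheaf

variable {k : Type u} [Field k] {X : Scheme.{u}} (x : X ⟶ specPt k) {I₀ : X.IdealSheafData}
  {A B B' : Art k k} {p : B ⟶ A} {p' : B' ⟶ A} {t' : B'.carrier} (z : (localHilb X x I₀).obj A)

theorem mapT_secRes (g : B ⟶ B') {U U' : X.affineOpens} (h : U'.1 ≤ U.1) (w : B ⊗[k] Sec x U.1) :
    mapT (Sec x U'.1) g (Algebra.TensorProduct.map (AlgHom.id k B) (secRes x h) w) =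
      Algebra.TensorProduct.map (AlgHom.id k B') (secRes x h) (mapT (Sec x U.1) g w) := by
  induction w using TensorProduct.induction_on with
  | zero => simp
  | tmul b r => simp
  | add a b ha hb => simp [ha, hb]

/-- Functoriality of the obstruction extension. -/
theorem exists_push (E : KerElt p (0 : B)) (E' : KerElt p' t') (g : B ⟶ B') (hg : g ≫ p' = p)
    (q : shE x z E ⟶ ClSub.idealMod I₀) (q' : shE x z E' ⟶ ClSub.idealMod I₀)
    (hq : ∀ (U : X.affineOpens) (w : obP p (secI x z.1 U)),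
      q.app U.1 (cls x z E U w) = jsec x (rfl : I₀ = I₀) U ⟨_, resT_mem_of_mem_obP (good x z U) w.2⟩)
    (hq' : ∀ (U : X.affineOpens) (w : obP p' (secI x z.1 U)),
      q'.app U.1 (cls x z E' U w) = jsec x (rfl : I₀ = I₀) U ⟨_, resT_mem_of_mem_obP (good x z U) w.2⟩) :
    ∃ π : shE x z E ⟶ shE x z E', π ≫ q' = q ∧ ∀ (U : X.affineOpens) (w : obP p (secI x z.1 U)),
      π.app U.1 (cls x z E U w) = cls x z E' U ⟨_, mapT_mem_obP g hg w.2⟩ := by
  let rep : ∀ (U : X.affineOpens), Γ(shE x z E, U.1) → obP p (secI x z.1 U) := fun U e =>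
    (cls_surjective x z E U e).choose
  have hrep : ∀ U e, cls x z E U (rep U e) = e := fun U e => (cls_surjective x z E U e).choose_spec
  let f : ∀ (U : X.affineOpens), obP p (secI x z.1 U) → Γ(shE x z E', U.1) := fun U w =>
    cls x z E' U ⟨_, mapT_mem_obP g hg w.2⟩
  have hwd : ∀ U (a b : obP p (secI x z.1 U)), cls x z E U a = cls x z E U b → f U a = f U b := fun U a b h => by
    rw [← sub_eq_zero, ← map_sub, cls_eq_zero_iff] at h
    simp only [f]
    rw [← sub_eq_zero, ← map_sub, cls_eq_zero_iff]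
    have h1 := mapT_mem_obK (t' := t') g hg h
    rw [AddSubgroupClass.coe_sub, map_sub] at h1
    exact h1
  obtain ⟨π, hπ⟩ := KosExt.exists_hom_affine (shE x z E) (shE x z E') (fun U =>
    { toFun := fun e => f U (rep U e)
      map_add' := fun a b => by
        rw [hwd U _ (rep U a + rep U b) (by rw [hrep, map_add, hrep, hrep])]
        simp only [f]
        rw [← map_add]
        exact congrArg _ (Subtype.ext (map_add (mapT (Sec x U.1) g) _ _))
      map_smul' := fun r e => by
        rw [hwd U _ ((TensorProduct.tmul k (N := Sec x U.1) (1 : B) r) • rep U e) (by rw [hrep, cls_mul, hrep])]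
        simp only [f]
        refine Eq.trans ?_ (cls_mul x z E' U r ⟨_, mapT_mem_obP g hg (rep U e).2⟩)
        refine congrArg (cls x z E' U) (Subtype.ext ?_)
        change mapT (Sec x U.1) g ((TensorProduct.tmul k (N := Sec x U.1) (1 : B) r) * (rep U e : B ⊗[k] Sec x U.1)) =
          (TensorProduct.tmul k (N := Sec x U.1) (1 : B') r) * mapT (Sec x U.1) g (rep U e : B ⊗[k] Sec x U.1)
        rw [map_mul, mapT_tmul, show g.toAlgHom 1 = 1 from map_one _] })
    (fun U V h e => by
      change res (shE x z E') h (f U (rep U e)) = f V (rep V (res (shE x z E) h e))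
      rw [hwd V (rep V (res (shE x z E) h e)) ⟨_, secRes_mem_obP x z h (rep U e).2⟩
        (by rw [hrep, ← cls_res x z E h, hrep])]
      simp only [f]
      rw [cls_res x z E' h _ (secRes_mem_obP x z h (mapT_mem_obP g hg (rep U e).2))]
      exact congrArg _ (Subtype.ext (mapT_secRes x g h _).symm))
  have hπ' : ∀ (U : X.affineOpens) (w : obP p (secI x z.1 U)),
      π.app U.1 (cls x z E U w) = f U w := fun U w => by rw [hπ]; exact hwd U _ _ (hrep U _)
  refine ⟨π, KosExt.hom_ext_affine fun U e => ?_, hπ'⟩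
  obtain ⟨w, rfl⟩ := cls_surjective x z E U e
  change q'.app U.1 (π.app U.1 (cls x z E U w)) = _
  rw [hπ', hq', hq]
  exact congrArg (jsec x (rfl : I₀ = I₀) U) (Subtype.ext (resT_mapT _ g _))

/-- A lift splits the obstruction extension. -/
theorem exists_retraction_of_lift {t : B.carrier} (E : KerElt p t) (L : LineExt p t)
    (i : ClSub.quotMod I₀ ⟶ shE x z E)
    (hi : ∀ (U : X.affineOpens) (r : Sec x U.1),
      i.app U.1 (qEquiv x U (Ideal.Quotient.mk _ r)) = cls x z E U ⟨_, t_tmul_mem_obP E r⟩)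
    (z' : (localHilb X x I₀).obj B) (hz' : (localHilb X x I₀).map p z' = z) :
    ∃ r : shE x z E ⟶ ClSub.quotMod I₀, i ≫ r = 𝟙 _ := by
  have hI : ∀ U, (secI x z'.1 U).map (mapT (Sec x U.1) p) = secI x z.1 U := fun U => by
    rw [← secI_map, hz']
  let dec : ∀ (U : X.affineOpens), Γ(shE x z E, U.1) → Sec x U.1 := fun U e =>
    (L.exists_dec (hI U) (cls_surjective x z E U e).choose.2).choose
  let f : ∀ (U : X.affineOpens), Γ(shE x z E, U.1) → Γ(ClSub.quotMod I₀, U.1) := fun U e =>
    qEquiv x U (Ideal.Quotient.mk _ (dec U e))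
  have hf : ∀ U (w : obP p (secI x z.1 U)) (r : Sec x U.1),
      (w : B ⊗[k] Sec x U.1) - (t : B) ⊗ₜ[k] r ∈ secI x z'.1 U →
      f U (cls x z E U w) = qEquiv x U (Ideal.Quotient.mk _ r) := fun U w r hr => by
    simp only [f]
    congr 1
    rw [Ideal.Quotient.eq]
    refine L.mem_of_t_tmul_mem (good x z' U) ?_
    have h1 := (L.exists_dec (hI U) (cls_surjective x z E U (cls x z E U w)).choose.2).choose_spec
    have h2 : ((cls_surjective x z E U (cls x z E U w)).choose : B ⊗[k] Sec x U.1) - (w : B ⊗[k] Sec x U.1) ∈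
        secI x z'.1 U := by
      refine L.obK_le_lift (good x z' U) (hI U) ?_
      have h3 := (cls_surjective x z E U (cls x z E U w)).choose_spec
      rw [← sub_eq_zero, ← map_sub, cls_eq_zero_iff] at h3
      exact h3
    have h4 := (secI x z'.1 U).sub_mem ((secI x z'.1 U).sub_mem h2 h1) (neg_mem hr)
    rw [tmul_sub]
    convert h4 using 1
    simp only [dec]
    abel
  have key : ∀ U e, ∃ (w : obP p (secI x z.1 U)) (r : Sec x U.1), cls x z E U w = e ∧
      (w : B ⊗[k] Sec x U.1) - (t : B) ⊗ₜ[k] r ∈ secI x z'.1 U := fun U e => by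
    obtain ⟨w, rfl⟩ := cls_surjective x z E U e
    obtain ⟨r, hr⟩ := L.exists_dec (hI U) w.2
    exact ⟨w, r, rfl, hr⟩
  obtain ⟨ρ, hρ⟩ := KosExt.exists_hom_affine (shE x z E) (ClSub.quotMod I₀) (fun U =>
    { toFun := f U
      map_add' := fun a b => by
        obtain ⟨v, r, rfl, hr⟩ := key U a
        obtain ⟨v', r', rfl, hr'⟩ := key U b
        rw [← map_add, hf U (v + v') (r + r') (by
          rw [Submodule.coe_add, tmul_add, add_sub_add_comm]; exact add_mem hr hr'),
          hf U v r hr, hf U v' r' hr', map_add (Ideal.Quotient.mk _)]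
        exact map_add (qEquiv x U) _ _
      map_smul' := fun a e => by
        obtain ⟨v, r, rfl, hr⟩ := key U e
        rw [← cls_mul, hf U _ (HMul.hMul (α := Sec x U.1) a r) (by
          rw [Submodule.coe_smul, smul_eq_mul]
          have h1 := (secI x z'.1 U).mul_mem_left (TensorProduct.tmul k (N := Sec x U.1) (1 : B) a) hr
          rw [mul_sub, Algebra.TensorProduct.tmul_mul_tmul, one_mul] at h1
          exact h1), hf U v r hr, RingHom.id_apply]
        rw [qEquiv_mk, qEquiv_mk]
        exact map_mul (I₀.subschemeι.app U.1).hom a r })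
    (fun U V h e => by
      obtain ⟨v, r, rfl, hr⟩ := key U e
      change res (ClSub.quotMod I₀) h (f U (cls x z E U v)) = f V (res (shE x z E) h (cls x z E U v))
      rw [hf U v r hr, cls_res x z E h v (secRes_mem_obP x z h v.2), hf V _ (secRes x h r) (by
        have h1 := secI_secRes x z'.1 h hr
        rwa [map_sub, Algebra.TensorProduct.map_tmul, AlgHom.id_apply] at h1), ← qEquiv_qRes, qRes_mk])
  refine ⟨ρ, KosExt.hom_ext_affine fun U s => ?_⟩
  obtain ⟨s, rfl⟩ := (qEquiv x U).surjective s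
  obtain ⟨r, rfl⟩ := Ideal.Quotient.mk_surjective s
  change ρ.app U.1 (i.app U.1 _) = _
  rw [hi, hρ]
  refine (hf U ⟨_, t_tmul_mem_obP E r⟩ r ?_).trans rfl
  rw [sub_self]
  exact zero_mem _

end Sheaf

end Groth.Agent.LHilb
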