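import Groth.Agent.LHilb.Smooth
import Groth.Agent.ConormalH1.Seq
import Groth.Agent.SyntLib.Koszul
import Groth.Agent.DQCoh.Serre
import Mathlib

/-!
# The obstruction extension pulled back to a local complete intersection
-/

set_option autoImplicit false
set_option backward.isDefEq.respectTransparency false
set_option linter.style.haveILetI false
universe u

open TensorProduct CategoryTheory CategoryTheory.Limits AlgebraicGeometry ArtFun ArtFun.Art Abelian

namespace Groth.Agent.LHilb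

open Groth.Agent.QC Groth.Agent.ModDesc

variable {X : Scheme.{u}} (I₀ : X.IdealSheafData)

theorem isChart_subschemeι (U : X.affineOpens) : Conormal.IsChart I₀.subschemeι U.1 :=
  ⟨U.2, MorphismProperty.of_isPullback (isPullback_morphismRestrict I₀.subschemeι U.1).flip inferInstance⟩

/-- The closed subscheme is locally cut out by `H₁`-regular sequences. -/
def IsH1Local : Prop :=
  ∀ y : I₀.subscheme, ∃ U : X.Opens, I₀.subschemeι y ∈ U ∧ ConormalH1.IsH1Chart I₀.subschemeι U

theorem isH1Chart_of_gens {U : X.affineOpens} {c : ℕ} (f : Fin c → Γ(X, U.1)) (hf : CAlgX.IsH1Regular f)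
    (hI : I₀.ideal U = Ideal.span (Set.range f)) : ConormalH1.IsH1Chart I₀.subschemeι U.1 :=
  ⟨isChart_subschemeι I₀ U, c, f, hf, (I₀.ker_subschemeι_app U).trans hI⟩

theorem isH1Local_of_isRegularClosedImmersion (h : Mor2.IsRegularClosedImmersion I₀.subschemeι) :
    IsH1Local I₀ := fun y => by
  obtain ⟨U, hU, hy, rs, hrs, hker⟩ := h.2 y
  rw [Scheme.IdealSheafData.ker_subschemeι] at hker
  refine ⟨U, hy, isH1Chart_of_gens I₀ (U := ⟨U, hU⟩) rs.get ?_ (by rw [hker, Set.range_list_get, Ideal.ofList])⟩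
  refine KoszulLib.isH1Regular_of_acyclic (KoszulLib.acyclic_of_isWeaklyRegular' ?_)
  rw [List.ofFn_get]
  exact hrs.toIsWeaklyRegular

theorem isH1Local_of_isRegularIdeal (h : RegImm.IsRegularIdeal RegImm.Kind.koszul I₀) : IsH1Local I₀ := fun y => by
  obtain ⟨U, hy, rs, hrs, hI⟩ := h (I₀.subschemeι y) (by
    rw [← SetLike.mem_coe, ← Scheme.IdealSheafData.range_subschemeι]; exact Set.mem_range_self y)
  exact ⟨U.1, hy, isH1Chart_of_gens I₀ rs.get (SyntLib.h1_of_koszul hrs) (by rw [hI, Set.range_list_get, Ideal.ofList])⟩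

theorem isRegularImmersion_h1 (h : IsH1Local I₀) :
    RegImm.IsRegularImmersion RegImm.Kind.h1 I₀.subschemeι :=
  ⟨inferInstance, fun y => by
    obtain ⟨U, hy, hc, n, g, hg, hker⟩ := h y
    refine ⟨⟨U, hc.affine⟩, hy, hc.closed, List.ofFn g, ?_, by rw [hker]; congr 1; ext; simp⟩
    have key : ∀ (m : ℕ) (e : m = n), CAlgX.IsH1Regular (fun j : Fin m => g (Fin.cast e j)) := by
      rintro m rfl; exact hg
    change CAlgX.IsH1Regular (List.ofFn g).get
    rw [show (List.ofFn g).get = fun j => g (Fin.cast List.length_ofFn j) from funext (List.get_ofFn g)]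
    exact key _ _⟩

theorem isFinLocFree_conormal_of_h1 (h : IsH1Local I₀) :
    FlatMod.IsFinLocFree (Omega.conormal I₀.subschemeι) :=
  ConormalH1.isFinLocFree_conormal _ (isRegularImmersion_h1 I₀ h)

theorem exists_h1Chart_le (h : IsH1Local I₀) (O : I₀.subscheme.Opens) (y : I₀.subscheme) (hy : y ∈ O) :
    ∃ U : X.affineOpens, ConormalH1.IsH1Chart I₀.subschemeι U.1 ∧ I₀.subschemeι ⁻¹ᵁ U.1 ≤ O ∧
      y ∈ I₀.subschemeι ⁻¹ᵁ U.1 := by
  obtain ⟨U₀, hy₀, hU₀⟩ := h y
  obtain ⟨O', hO', hOO⟩ := (I₀.subschemeι.isEmbedding.isInducing.isOpen_iff).1 O.2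
  obtain ⟨U, hyU, hU⟩ := KosExt.exists_affine_le (O := U₀ ⊓ ⟨O', hO'⟩) (x := I₀.subschemeι y)
    ⟨hy₀, (hOO.symm ▸ hy : y ∈ I₀.subschemeι ⁻¹' O')⟩
  exact ⟨U, hU₀.of_le U.2 (hU.trans inf_le_left), fun w hw => ((Set.ext_iff.1 hOO w).1 (hU hw).2 :), hyU⟩

variable {I₀}

theorem pullSect_surjective_and_eq_zero_iff {M : X.Modules} (hM : Coh.IsQCoh M) (U : X.affineOpens) :
    Function.Surjective (OmegaSh.pullSect I₀.subschemeι M U.1) ∧
    ∀ s, OmegaSh.pullSect I₀.subschemeι M U.1 s = 0 ↔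
      s ∈ I₀.ideal U • (⊤ : Submodule Γ(X, U.1) Γ(M, U.1)) := by
  let i := I₀.subschemeι
  have h := isChart_subschemeι I₀ U
  haveI : Coh.IsQCoh M := hM
  letI : Algebra Γ(X, U.1) Γ(I₀.subscheme, i ⁻¹ᵁ U.1) := (i.appLE U.1 (i ⁻¹ᵁ U.1) le_rfl).hom.toAlgebra
  obtain ⟨Φ, hΦ⟩ := exists_bijective_liftBaseChange i M h.affine h.preimage le_rfl
  have hcl : ∀ s, Φ (1 ⊗ₜ s) = OmegaSh.pullSect i M U.1 s := fun s => by
    rw [hΦ, pullSectLE_apply, res_self]
  have halg : algebraMap Γ(X, U.1) Γ(I₀.subscheme, i ⁻¹ᵁ U.1) = (i.app U.1).hom := by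
    rw [RingHom.algebraMap_toAlgebra, Scheme.Hom.app_eq_appLE]
  have hsurj : Function.Surjective (algebraMap Γ(X, U.1) Γ(I₀.subscheme, i ⁻¹ᵁ U.1)) := by
    rw [halg]; exact h.surjective
  constructor
  · intro c
    obtain ⟨v, rfl⟩ := Φ.surjective c
    induction v with
    | zero => exact ⟨0, by simp⟩
    | add a b ha hb =>
      obtain ⟨sa, hsa⟩ := ha
      obtain ⟨sb, hsb⟩ := hb
      exact ⟨sa + sb, by rw [map_add, map_add, hsa, hsb]⟩
    | tmul r s =>
      obtain ⟨a, rfl⟩ := hsurj r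
      refine ⟨a • s, ?_⟩
      rw [← hcl, TensorProduct.tmul_smul, TensorProduct.smul_tmul', Algebra.smul_def, mul_one]
  · intro s
    rw [← hcl]
    refine Iff.trans (map_eq_zero_iff Φ Φ.injective) ?_
    let J := RingHom.ker (algebraMap Γ(X, U.1) Γ(I₀.subscheme, i ⁻¹ᵁ U.1))
    let e : (Γ(X, U.1) ⧸ J) ≃ₐ[Γ(X, U.1)] Γ(I₀.subscheme, i ⁻¹ᵁ U.1) :=
      Ideal.quotientKerAlgEquivOfSurjective (f := Algebra.ofId Γ(X, U.1) Γ(I₀.subscheme, i ⁻¹ᵁ U.1)) hsurj
    let E := (TensorProduct.congr e.toLinearEquiv (LinearEquiv.refl Γ(X, U.1) Γ(M, U.1))).symm ≪≫ₗ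
      TensorProduct.quotTensorEquivQuotSMul Γ(M, U.1) J
    have hE : E (1 ⊗ₜ s) = Submodule.Quotient.mk s := by
      simp only [E, LinearEquiv.trans_apply, TensorProduct.congr_symm_tmul]
      rw [show e.toLinearEquiv.symm 1 = Ideal.Quotient.mk J 1 from (map_one e.symm)]
      simp [TensorProduct.quotTensorEquivQuotSMul_mk_tmul]
    rw [← EmbeddingLike.map_eq_zero_iff (f := E), hE, Submodule.Quotient.mk_eq_zero]
    simp only [J, halg, i, Scheme.IdealSheafData.ker_subschemeι_app]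

theorem smul_mem_top_eq_zero (U : X.affineOpens) {s : Γ(ClSub.quotMod I₀, U.1)}
    (hs : s ∈ I₀.ideal U • (⊤ : Submodule Γ(X, U.1) Γ(ClSub.quotMod I₀, U.1))) : s = 0 := by
  refine Submodule.smul_induction_on hs (fun a ha v _ => ?_) (fun a b ha hb => by rw [ha, hb, add_zero])
  rw [← I₀.ker_subschemeι_app U, RingHom.mem_ker] at ha
  change HMul.hMul (α := Γ(I₀.subscheme, I₀.subschemeι ⁻¹ᵁ U.1)) (β := Γ(I₀.subscheme, I₀.subschemeι ⁻¹ᵁ U.1)) (I₀.subschemeι.app U.1 a) v = 0
  erw [ha, zero_mul]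

theorem isQCoh_quotMod : Coh.IsQCoh (ClSub.quotMod I₀) :=
  haveI : Coh.IsQCoh (Coh.structureModule I₀.subscheme) := isQCoh_unit _
  isQCoh_pushforward I₀.subschemeι

/-- The counit at the structure sheaf of a closed subscheme is an isomorphism. -/
theorem isIso_counit_unit :
    IsIso ((Scheme.Modules.pullbackPushforwardAdjunction I₀.subschemeι).counit.app
      (Coh.structureModule I₀.subscheme)) := by
  let i := I₀.subschemeι
  let c := (Scheme.Modules.pullbackPushforwardAdjunction i).counit.app (Coh.structureModule I₀.subscheme)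
  have hc : ∀ (U : X.Opens) (s : Γ(ClSub.quotMod I₀, U)),
      c.app (i ⁻¹ᵁ U) (OmegaSh.pullSect i (ClSub.quotMod I₀) U s) = s := fun U s =>
    congr(($((Scheme.Modules.pullbackPushforwardAdjunction i).right_triangle_components
      (Coh.structureModule I₀.subscheme))).app U s)
  refine Conormal.isIso_of_basis c (B := {V | ∃ U : X.affineOpens, i ⁻¹ᵁ U.1 = V}) ?_ ?_
  · intro O y hy
    obtain ⟨O', hO', hOO⟩ := (i.isEmbedding.isInducing.isOpen_iff).1 O.2
    obtain ⟨U, hyU, hU⟩ := KosExt.exists_affine_le (O := (⟨O', hO'⟩ : X.Opens)) (x := i y)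
      (hOO.symm ▸ hy : y ∈ i ⁻¹' O')
    exact ⟨_, ⟨U, rfl⟩, fun w hw => ((Set.ext_iff.1 hOO w).1 (hU hw) :), hyU⟩
  · rintro _ ⟨U, rfl⟩
    refine ⟨fun a b hab => ?_, fun s => ⟨_, hc U.1 s⟩⟩
    obtain ⟨a, rfl⟩ := (pullSect_surjective_and_eq_zero_iff isQCoh_quotMod U).1 a
    obtain ⟨b, rfl⟩ := (pullSect_surjective_and_eq_zero_iff isQCoh_quotMod U).1 b
    rw [show a = b from (hc U.1 a).symm.trans (hab.trans (hc U.1 b))]

section Extension

variable {k : Type u} [Field k] (x : X ⟶ specPt k) {A B : Art k k} {p : B ⟶ A} {t : B.carrier}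
  (z : (localHilb X x I₀).obj A) (E : KerElt p t)
  (i : ClSub.quotMod I₀ ⟶ shE x z E) (q : shE x z E ⟶ ClSub.idealMod I₀)

theorem app_i_smul (U : X.affineOpens) {a : Γ(X, U.1)} (ha : a ∈ I₀.ideal U) (m : Γ(ClSub.quotMod I₀, U.1)) :
    a • i.app U.1 m = 0 := by
  rw [← Scheme.Modules.Hom.app_smul, smul_mem_top_eq_zero U (Submodule.smul_mem_smul ha Submodule.mem_top),
    map_zero]

/-- Trivial relations lift to relations in the extension. -/
theorem meet_eq_zero
    (hq : ∀ (U : X.affineOpens) (w : obP p (secI x z.1 U)),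
      q.app U.1 (cls x z E U w) = jsec x (rfl : I₀ = I₀) U ⟨_, resT_mem_of_mem_obP (good x z U) w.2⟩)
    (hS : ∀ (U : X.affineOpens) (e : Γ(shE x z E, U.1)), q.app U.1 e = 0 → ∃ m, i.app U.1 m = e)
    {w : i ≫ q = 0} (hmono : Mono i) (U : X.affineOpens) (hU : ConormalH1.IsH1Chart I₀.subschemeι U.1)
    (m : Γ(ClSub.quotMod I₀, U.1))
    (hm : i.app U.1 m ∈ I₀.ideal U • (⊤ : Submodule Γ(X, U.1) Γ(shE x z E, U.1))) : m = 0 := by
  obtain ⟨hc, n, f, hf, hker⟩ := hU
  rw [I₀.ker_subschemeι_app U] at hker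
  let ι : Γ(shE x z E, U.1) → Γ(X, U.1) := fun e => (ClSub.idealModι I₀).app U.1 (q.app U.1 e)
  have hι_add : ∀ a b, ι (a + b) = ι a + ι b := fun a b => by simp only [ι, map_add]
  have hι_smul : ∀ (a : Γ(X, U.1)) e, ι (a • e) = a * ι e := fun a e => by
    simp only [ι, Scheme.Modules.Hom.app_smul]; rfl
  have hι_zero : ι 0 = 0 := by simp only [ι, map_zero]
  have hι_cls : ∀ v : obP p (secI x z.1 U), ι (cls x z E U v) = resT (Sec x U.1) B (v : B ⊗[k] Sec x U.1) :=
    fun v => by simp only [ι]; rw [hq, jsec_spec]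
  have hf_mem : ∀ j, f j ∈ J₀ x I₀ U := fun j => hker.ge (Ideal.subset_span (Set.mem_range_self j))
  choose W hW hWf using fun j => exists_resT_eq E (good x z U) (hf_mem j)
  let F : Fin n → Γ(shE x z E, U.1) := fun j => cls x z E U ⟨W j, hW j⟩
  have hswap : ∀ a b, f a • F b = f b • F a := fun a b => by
    have h1 := (cls_smul x z E U (W a) ⟨W b, hW b⟩).symm
    have h2 := (cls_smul x z E U (W b) ⟨W a, hW a⟩).symm
    rw [hWf] at h1 h2
    exact h1.trans ((congrArg (cls x z E U) (Subtype.ext (mul_comm (W a) (W b)))).trans h2.symm)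
  have key : ∀ g ∈ Submodule.span Γ(X, U.1)
      {v : Fin n → Γ(X, U.1) | ∃ a b : Fin n, v = Pi.single a (f b) - Pi.single b (f a)},
      ∃ e : Fin n → Γ(shE x z E, U.1), (∀ a, ι (e a) = g a) ∧ ∑ a, f a • e a = 0 := by
    intro g hg
    induction hg using Submodule.span_induction with
    | mem v hv =>
      obtain ⟨a, b, rfl⟩ := hv
      refine ⟨Pi.single a (F b) - Pi.single b (F a), fun c => ?_, ?_⟩
      · have hι_sub : ∀ u v, ι (u - v) = ι u - ι v := fun u v => by simp only [ι, map_sub]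
        rw [Pi.sub_apply, Pi.sub_apply, hι_sub, Pi.apply_single (fun _ => ι) (fun _ => hι_zero),
          Pi.apply_single (fun _ => ι) (fun _ => hι_zero)]
        simp only [F, hι_cls, hWf]
      · simp only [Pi.sub_apply, smul_sub, Finset.sum_sub_distrib, Pi.single_apply, smul_ite, smul_zero,
          Finset.sum_ite_eq', Finset.mem_univ, if_true]
        rw [hswap, sub_self]
    | zero => exact ⟨0, fun a => hι_zero, by simp⟩
    | add g g' _ _ hg hg' =>
      obtain ⟨e, he, he0⟩ := hg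
      obtain ⟨e', he', he0'⟩ := hg'
      exact ⟨e + e', fun a => by rw [Pi.add_apply, hι_add, he, he']; rfl,
        by simp only [Pi.add_apply, smul_add, Finset.sum_add_distrib, he0, he0', add_zero]⟩
    | smul c g _ hg =>
      obtain ⟨e, he, he0⟩ := hg
      refine ⟨c • e, fun a => by rw [Pi.smul_apply, hι_smul, he]; rfl, ?_⟩
      simp only [Pi.smul_apply, smul_comm _ c, ← Finset.smul_sum, he0, smul_zero]
  obtain ⟨e, he⟩ : ∃ e : Fin n → Γ(shE x z E, U.1), ∑ a, f a • e a = i.app U.1 m := by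
    refine Submodule.smul_induction_on hm (fun a ha v _ => ?_) ?_
    · rw [hker, Ideal.mem_span_range_iff_exists_fun] at ha
      obtain ⟨c, rfl⟩ := ha
      exact ⟨fun j => c j • v, by simp only [Finset.sum_smul, smul_smul, mul_comm]⟩
    · rintro a b ⟨e, rfl⟩ ⟨e', rfl⟩
      exact ⟨e + e', by simp only [Pi.add_apply, smul_add, Finset.sum_add_distrib]⟩
  have hrel : ∑ a, ι (e a) * f a = 0 := by
    have h1 : ι (∑ a, f a • e a) = ∑ a, f a * ι (e a) := by
      rw [← AddMonoidHom.mk'_apply ι hι_add, map_sum]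
      exact Finset.sum_congr rfl fun a _ => hι_smul _ _
    rw [he] at h1
    have h2 : ι (i.app U.1 m) = 0 := by
      change (ClSub.idealModι I₀).app U.1 ((i ≫ q).app U.1 m) = 0
      rw [w]
      exact map_zero _
    rw [h2] at h1
    exact ((Finset.sum_congr rfl fun a _ => mul_comm _ _).trans h1.symm)
  obtain ⟨e', he', he0⟩ := key _ (hf _ hrel)
  have hdiff : ∀ a, ∃ r, i.app U.1 r = e a - e' a := fun a => hS U _ (by
    refine app_injective_of_mono (ClSub.idealModι I₀) U.1 ?_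
    rw [map_sub, map_sub, map_zero]
    exact sub_eq_zero.2 (he' a).symm)
  choose r hr using hdiff
  refine app_injective_of_mono i U.1 ?_
  rw [map_zero, ← he]
  calc ∑ a, f a • e a = ∑ a, f a • e' a + ∑ a, f a • i.app U.1 (r a) := by
        rw [← Finset.sum_add_distrib]
        exact Finset.sum_congr rfl fun a _ => by rw [← smul_add, hr, add_sub_cancel]
    _ = 0 := by rw [he0, zero_add, Finset.sum_eq_zero fun a _ => app_i_smul x z E i U (hker.ge
          (Ideal.subset_span (Set.mem_range_self a))) (r a)]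

variable {w : i ≫ q = 0}

theorem isQCoh_shE (hw : (ShortComplex.mk i q w).ShortExact) : Coh.IsQCoh (shE x z E) :=
  DQCoh.isQCoh_of_shortExact hw isQCoh_quotMod (isQCoh_idealMod _)

/-- On a local complete intersection the obstruction extension stays exact after restricting to the subscheme. -/
theorem shortExact_pullback (h : IsH1Local I₀)
    (hq : ∀ (U : X.affineOpens) (w : obP p (secI x z.1 U)),
      q.app U.1 (cls x z E U w) = jsec x (rfl : I₀ = I₀) U ⟨_, resT_mem_of_mem_obP (good x z U) w.2⟩)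
    (hw : (ShortComplex.mk i q w).ShortExact) :
    (ShortComplex.mk ((Scheme.Modules.pullback I₀.subschemeι).map i)
      ((Scheme.Modules.pullback I₀.subschemeι).map q) (by rw [← Functor.map_comp, w, Functor.map_zero])).ShortExact := by
  let ι := I₀.subschemeι
  haveI : Epi q := hw.epi_g
  have hE := isQCoh_shE x z E i q hw
  have hqs : ∀ U : X.affineOpens, Function.Surjective (q.app U.1) := fun U =>
    app_surjective_of_epi U.2 hE (isQCoh_idealMod _) q
  refine Conormal.shortExact_of_basis _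
    (B := {V | ∃ U : X.affineOpens, ConormalH1.IsH1Chart ι U.1 ∧ ι ⁻¹ᵁ U.1 = V}) ?_ ?_ ?_ ?_
  · intro O y hy
    obtain ⟨U, hU, hUO, hyU⟩ := exists_h1Chart_le I₀ h O y hy
    exact ⟨_, ⟨U, hU, rfl⟩, hUO, hyU⟩
  · rintro _ ⟨U, hU, rfl⟩
    rw [injective_iff_map_eq_zero]
    intro c hc
    obtain ⟨m, rfl⟩ := (pullSect_surjective_and_eq_zero_iff isQCoh_quotMod U).1 c
    change ((Scheme.Modules.pullback ι).map i).app (ι ⁻¹ᵁ U.1) (OmegaSh.pullSect ι _ U.1 m) = 0 at hc
    rw [app_pullSect, (pullSect_surjective_and_eq_zero_iff hE U).2] at hc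
    rw [meet_eq_zero x z E i q hq (fun U e he => DQCoh.exists_app_eq hw U.1 e he) (w := w) hw.mono_f U hU m hc,
      map_zero]
  · rintro _ ⟨U, hU, rfl⟩ c hc
    obtain ⟨e, rfl⟩ := (pullSect_surjective_and_eq_zero_iff hE U).1 c
    change ((Scheme.Modules.pullback ι).map q).app (ι ⁻¹ᵁ U.1) (OmegaSh.pullSect ι _ U.1 e) = 0 at hc
    rw [app_pullSect, (pullSect_surjective_and_eq_zero_iff (isQCoh_idealMod _) U).2] at hc
    obtain ⟨e', he', hqe⟩ : ∃ e' ∈ I₀.ideal U • (⊤ : Submodule Γ(X, U.1) Γ(shE x z E, U.1)),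
        q.app U.1 e' = q.app U.1 e := by
      refine Submodule.smul_induction_on hc (fun a ha v _ => ?_) ?_
      · obtain ⟨v, rfl⟩ := hqs U v
        exact ⟨a • v, Submodule.smul_mem_smul ha Submodule.mem_top, Scheme.Modules.Hom.app_smul ..⟩
      · rintro a b ⟨u, hu, rfl⟩ ⟨v, hv, rfl⟩
        exact ⟨u + v, add_mem hu hv, map_add _ _ _⟩
    obtain ⟨m, hm⟩ := DQCoh.exists_app_eq hw U.1 (e - e') (by
      change q.app U.1 (e - e') = 0
      rw [map_sub, hqe, sub_self])
    refine ⟨OmegaSh.pullSect ι _ U.1 m, ?_⟩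
    change ((Scheme.Modules.pullback ι).map i).app (ι ⁻¹ᵁ U.1) _ = _
    rw [app_pullSect]
    change OmegaSh.pullSect ι _ U.1 (i.app U.1 m) = _
    rw [show i.app U.1 m = e - e' from hm, map_sub,
      (((pullSect_surjective_and_eq_zero_iff hE U).2 e').2 he'), sub_zero]
  · rintro _ ⟨U, hU, rfl⟩ c
    obtain ⟨v, rfl⟩ := (pullSect_surjective_and_eq_zero_iff (isQCoh_idealMod I₀) U).1 c
    obtain ⟨e, rfl⟩ := hqs U v
    exact ⟨OmegaSh.pullSect ι _ U.1 e, app_pullSect ι q U.1 e⟩

end Extension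

/-- The conormal sheaf as the restriction of the ideal. -/
noncomputable def conormalIso (I₀ : X.IdealSheafData) :
    (Scheme.Modules.pullback I₀.subschemeι).obj (ClSub.idealMod I₀) ≅ Omega.conormal I₀.subschemeι :=
  (Scheme.Modules.pullback I₀.subschemeι).mapIso (eqToIso (by rw [Scheme.IdealSheafData.ker_subschemeι]))

/-- The structure sheaf as the restriction of `O/I₀`. -/
noncomputable def quotIso (I₀ : X.IdealSheafData) :
    (Scheme.Modules.pullback I₀.subschemeι).obj (ClSub.quotMod I₀) ≅ Coh.structureModule I₀.subscheme :=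
  haveI := isIso_counit_unit (I₀ := I₀)
  asIso ((Scheme.Modules.pullbackPushforwardAdjunction I₀.subschemeι).counit.app _)

theorem subsingleton_ext_pullback (I₀ : X.IdealSheafData) [HasExt.{u} I₀.subscheme.Modules]
    (h : Subsingleton (Ext.{u} (Omega.conormal I₀.subschemeι) (Coh.structureModule I₀.subscheme) 1)) :
    Subsingleton (Ext.{u} ((Scheme.Modules.pullback I₀.subschemeι).obj (ClSub.idealMod I₀))
      ((Scheme.Modules.pullback I₀.subschemeι).obj (ClSub.quotMod I₀)) 1) := by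
  have key : ∀ e : Ext.{u} ((Scheme.Modules.pullback I₀.subschemeι).obj (ClSub.idealMod I₀))
      ((Scheme.Modules.pullback I₀.subschemeι).obj (ClSub.quotMod I₀)) 1,
      e = (Ext.mk₀ (conormalIso I₀).hom).comp (((Ext.mk₀ (conormalIso I₀).inv).comp (e.comp (Ext.mk₀ (quotIso I₀).hom)
        (add_zero 1)) (zero_add 1)).comp (Ext.mk₀ (quotIso I₀).inv) (add_zero 1)) (zero_add 1) := fun e => by
    simp [Ext.mk₀_comp_mk₀_assoc]
  refine ⟨fun a b => ?_⟩
  rw [key a, key b, Subsingleton.elim ((Ext.mk₀ (conormalIso I₀).inv).comp (a.comp _ _) _) ((Ext.mk₀ (conormalIso I₀).inv).comp (b.comp (Ext.mk₀ (quotIso I₀).hom) (add_zero 1)) (zero_add 1))]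

/-- **Unobstructedness of local complete intersections** with `Ext¹(I/I², O) = 0`. -/
theorem isSmoothFunctor_of_h1Local {k : Type u} [Field k] (x : X ⟶ specPt k) (I₀ : X.IdealSheafData)
    (hI : IsH1Local I₀) [HasExt.{u} I₀.subscheme.Modules]
    (h : Subsingleton (Ext.{u} (Omega.conormal I₀.subschemeι) (Coh.structureModule I₀.subscheme) 1)) :
    IsSmoothFunctor (localHilb X x I₀) := isSmoothFunctor_of_small x fun B A p t L z => by
  obtain ⟨i, hi⟩ := exists_i x z L.kerElt
  obtain ⟨q, hq⟩ := exists_q x z L.kerElt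
  obtain ⟨w, hw⟩ := exists_shortExact x z L.kerElt L i q hi hq
  obtain ⟨ρ, hρ⟩ := exists_retraction (shortExact_pullback x z L.kerElt i q hI hq hw)
    (subsingleton_ext_pullback I₀ h)
  let adj := Scheme.Modules.pullbackPushforwardAdjunction I₀.subschemeι
  refine exists_lift_of_retraction x z L.kerElt L i hi
    (adj.homEquiv _ _ (ρ ≫ adj.counit.app (Coh.structureModule I₀.subscheme))) ?_
  rw [← Adjunction.homEquiv_naturality_left, ← Category.assoc]
  change adj.homEquiv _ _ (((Scheme.Modules.pullback I₀.subschemeι).map i ≫ ρ) ≫ _) = _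
  rw [show (Scheme.Modules.pullback I₀.subschemeι).map i ≫ ρ = 𝟙 _ from hρ, Category.id_comp,
    Adjunction.homEquiv_unit]
  exact adj.right_triangle_components _

end Groth.Agent.LHilb
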