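import Groth.Agent.LHilb.ObstrAlg
import Groth.Agent.LHilb.Homog
import Groth.Agent.LHilb.NormalHom
import Groth.Agent.Conormal.Maps
import Mathlib

/-!
# The obstruction extension `0 → O/I₀ → E → I₀ → 0` of a family along a small extension
-/

set_option autoImplicit false
set_option backward.isDefEq.respectTransparency false
universe u

open TensorProduct CategoryTheory CategoryTheory.Limits AlgebraicGeometry ArtFun ArtFun.Art Opposite IsLocalRing

namespace Groth.Agent.LHilb

open Groth.Agent.QC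

variable {k : Type u} [Field k] {X : Scheme.{u}} (x : X ⟶ specPt k) {A B : Art k k} {I₀ : X.IdealSheafData}

theorem secI_mul (I I' : (XA x B).IdealSheafData) (U : X.affineOpens) :
    secI x (I * I') U = secI x I U * secI x I' U := by
  refine (Ideal.comap_map_of_bijective _ (chart_bijective x B U) (I := secI x I U * secI x I' U)).symm.trans ?_ |>.symm
  rw [Ideal.map_mul, map_chart_secI, map_chart_secI]
  rfl

theorem secI_sup (I I' : (XA x B).IdealSheafData) (U : X.affineOpens) :
    secI x (I ⊔ I') U = secI x I U ⊔ secI x I' U := by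
  refine (Ideal.comap_map_of_bijective _ (chart_bijective x B U) (I := secI x I U ⊔ secI x I' U)).symm.trans ?_ |>.symm
  rw [Ideal.map_sup, map_chart_secI, map_chart_secI]
  rfl

/-- The ideal sheaf of the closed fibre inside `X_B` of a closed subscheme of `X`. -/
noncomputable def fibI (B : Art k k) (I : X.IdealSheafData) : (XA x B).IdealSheafData :=
  (I.subschemeι ≫ XAincl x B).ker

theorem secI_fibI (I : X.IdealSheafData) (U : X.affineOpens) :
    secI x (fibI x B I) U = (J₀ x I U).comap (resT (Sec x U.1) B) := by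
  haveI : IsClosedImmersion (XAincl x B) := by
    refine MorphismProperty.of_isPullback (P := @IsClosedImmersion) (isPullback_XAincl x B).flip ?_
    exact IsClosedImmersion.spec_of_surjective _ B.res_surjective
  have hpre : XAincl x B ⁻¹ᵁ (preU x B U).1 = U.1 := by simp [preU, ← Scheme.Hom.comp_preimage]
  refine Ideal.ext fun z => ?_
  rw [secI, fibI, Ideal.mem_comap, Scheme.Hom.ker_apply, RingHom.mem_ker, Ideal.mem_comap, ← chart_XAincl x B U z]
  have h1 : ∀ (W : X.affineOpens) (e : W.1 ≤ XAincl x B ⁻¹ᵁ (preU x B U).1)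
      (_ : XAincl x B ⁻¹ᵁ (preU x B U).1 ≤ W.1) (y : Γ(XA x B, (preU x B U).1)),
      (I.subschemeι ≫ XAincl x B).app (preU x B U).1 y = 0 ↔
        (XAincl x B).appLE _ W.1 e y ∈ I.ideal W := by
    intro W e e' y
    have hW : W = ⟨XAincl x B ⁻¹ᵁ (preU x B U).1, (preU x B U).2.preimage _⟩ := Subtype.ext (le_antisymm e e')
    subst hW
    rw [← Scheme.Hom.app_eq_appLE, ← Scheme.IdealSheafData.ker_subschemeι_app, RingHom.mem_ker,
      Scheme.Hom.comp_app]
    rfl
  exact h1 U (le_XAincl x B U) hpre.le _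

/-- The ideal sheaf generated by an element of `B`. -/
noncomputable def elemI (t : B.carrier) : (XA x B).IdealSheafData :=
  (FSch.idealSpec B.carrier (Ideal.span {t})).comap (XApr x B)

theorem secI_elemI (t : B.carrier) (U : X.affineOpens) :
    secI x (elemI x t) U = Ideal.span {(t : B.carrier) ⊗ₜ[k] (1 : Sec x U.1)} := by
  have hc : (elemI x t).ideal (preU x B U) = ((FSch.idealSpec B.carrier (Ideal.span {t})).ideal
      ⟨⊤, isAffineOpen_top _⟩).map ((XApr x B).appLE ⊤ (preU x B U).1 le_top).hom :=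
    FittLib.comap_ideal (XApr x B) _ (isAffineOpen_top _) (preU x B U).2 le_top
  have hb := ConcreteCategory.bijective_of_isIso (Scheme.ΓSpecIso (CommRingCat.of B.carrier)).inv
  have htop : (FSch.idealSpec B.carrier (Ideal.span {t})).ideal ⟨⊤, isAffineOpen_top _⟩ =
      Ideal.span {(Scheme.ΓSpecIso (CommRingCat.of B.carrier)).inv.hom t} := by
    have h1 := Ideal.map_span (Scheme.ΓSpecIso (CommRingCat.of B.carrier)).inv.hom {t}
    rw [Set.image_singleton] at h1
    rw [FittLib.idealSpec_ideal_top, ← h1]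
    exact (Ideal.map_symm (I := Ideal.span {t}) (Scheme.ΓSpecIso (CommRingCat.of B.carrier)).commRingCatIsoToRingEquiv).symm
  refine (Ideal.comap_map_of_bijective _ (chart_bijective x B U)
    (I := Ideal.span {(t : B.carrier) ⊗ₜ[k] (1 : Sec x U.1)})).symm.trans ?_ |>.symm
  rw [secI, hc, htop, Ideal.map_span, Set.image_singleton, Ideal.map_span, Set.image_singleton]
  refine congrArg (fun s => (Ideal.span {s}).comap (chart x B U)) ?_
  rw [chart_tmul, map_one, mul_one]
  rfl

variable (p : B ⟶ A) (t : B.carrier) (z : (localHilb X x I₀).obj A)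

/-- `P`. -/
noncomputable def shP : (XA x B).IdealSheafData := pushI x p z.1

/-- `K = m P + t J`. -/
noncomputable def shK : (XA x B).IdealSheafData :=
  fibI x B ⊥ * shP x p z ⊔ elemI x t * fibI x B I₀

theorem secI_shP (U : X.affineOpens) : secI x (shP x p z) U = obP p (secI x z.1 U) := secI_pushI x p z.1 U

theorem map_max_eq_ker (U : X.affineOpens) :
    (maximalIdeal B.carrier).map (algebraMap B.carrier (B ⊗[k] Sec x U.1)) =
      (⊥ : Ideal (Sec x U.1)).comap (resT (Sec x U.1) B) := by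
  refine le_antisymm (Ideal.map_le_iff_le_comap.2 fun a ha => ?_) fun w hw => ?_
  · rw [Ideal.mem_comap, Ideal.mem_comap, Algebra.TensorProduct.algebraMap_apply, Algebra.algebraMap_self_apply,
      resT_tmul, (mem_maximalIdeal_iff B a).1 ha, zero_smul]
    exact zero_mem _
  · rw [Ideal.mem_comap, Ideal.mem_bot] at hw
    have h := sub_one_tmul_mem (Sec x U.1) B w
    rw [hw, tmul_zero, sub_zero] at h
    refine Submodule.smul_induction_on h (fun a ha y _ => ?_) fun a b ha hb => add_mem ha hb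
    rw [Algebra.smul_def]
    exact Ideal.mul_mem_right _ _ (Ideal.mem_map_of_mem _ ha)

theorem secI_shK (U : X.affineOpens) :
    secI x (shK x p t z) U = obK p t (J₀ x I₀ U) (secI x z.1 U) := by
  rw [shK, secI_sup, secI_mul, secI_mul, secI_fibI, secI_fibI, secI_elemI, secI_shP, obK, map_max_eq_ker]
  rfl

variable {p t} (E : KerElt p t)

include E in
theorem shK_le : shK x p t z ≤ shP x p z := by
  intro V
  obtain ⟨U, rfl⟩ := exists_preU_eq x B V
  rw [← map_chart_secI, ← map_chart_secI, secI_shK, secI_shP]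
  exact Ideal.map_mono (obK_le E)

/-- The inclusion of ideal modules. -/
noncomputable def shU : ClSub.idealMod (shK x p t z) ⟶ ClSub.idealMod (shP x p z) :=
  kernel.lift (ClSub.toSubscheme (shP x p z)) (ClSub.idealModι (shK x p t z)) (by
    refine KosExt.hom_ext_affine fun V s => ?_
    change (shP x p z).subschemeι.app V.1 ((ClSub.idealModι (shK x p t z)).app V.1 s) = 0
    have h := shK_le x z E V ((mem_range_idealModι_affine (shK x p t z) V _).1 ⟨s, rfl⟩)
    rw [← Scheme.IdealSheafData.ker_subschemeι_app] at h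
    exact h)

theorem shU_ι : shU x z E ≫ ClSub.idealModι (shP x p z) = ClSub.idealModι (shK x p t z) :=
  kernel.lift_ι ..

/-- The extension module. -/
noncomputable def shE : X.Modules :=
  (Scheme.Modules.pushforward (pullback.fst x (specOver B))).obj (cokernel (shU x z E))

theorem isQCoh_cok : Coh.IsQCoh (cokernel (shU x z E)) :=
  isQCoh_cokernel (isQCoh_idealMod _) (isQCoh_idealMod _) _

theorem cok_app_eq_zero_iff (V : (XA x B).affineOpens) (s : Γ(ClSub.idealMod (shP x p z), V.1)) :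
    (cokernel.π (shU x z E)).app V.1 s = 0 ↔
      (ClSub.idealModι (shP x p z)).app V.1 s ∈ (shK x p t z).ideal V := by
  constructor
  · intro hs
    obtain ⟨a, ha⟩ := (mem_range_kernel_app (cokernel.π (shU x z E)) V.1 s).2 hs
    obtain ⟨b, hb⟩ := app_surjective_of_epi V.2 (isQCoh_idealMod _)
      (isQCoh_image (isQCoh_idealMod _) (isQCoh_idealMod _) (shU x z E)) (Abelian.factorThruImage (shU x z E)) a
    refine (mem_range_idealModι_affine (shK x p t z) V _).1 ⟨b, ?_⟩
    rw [← shU_ι x z E]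
    refine congrArg ((ClSub.idealModι (shP x p z)).app V.1) ?_
    have h1 := congr($(congr($(Abelian.image.fac (shU x z E)).app V.1)) b)
    rw [← ha, ← hb]
    exact h1.symm
  · intro hs
    obtain ⟨b, hb⟩ := (mem_range_idealModι_affine (shK x p t z) V _).2 hs
    have h1 : s = (shU x z E).app V.1 b := app_injective_of_mono (ClSub.idealModι (shP x p z)) V.1 (by
      rw [← hb, ← shU_ι x z E]; rfl)
    rw [h1]
    exact congr($(congr($(cokernel.condition (shU x z E)).app V.1)) b)

theorem exists_psec (U : X.affineOpens) (w : obP p (secI x z.1 U)) :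
    ∃ s : Γ(ClSub.idealMod (shP x p z), (preU x B U).1),
      (ClSub.idealModι (shP x p z)).app (preU x B U).1 s = chart x B U w := by
  refine (mem_range_idealModι_affine (shP x p z) (preU x B U) _).2 ?_
  rw [← map_chart_secI, secI_shP]
  exact Ideal.mem_map_of_mem _ w.2

/-- The class of an element of `P`. -/
noncomputable def cls (U : X.affineOpens) : obP p (secI x z.1 U) →+ Γ(shE x z E, U.1) :=
  AddMonoidHom.mk' (fun w => (cokernel.π (shU x z E)).app (preU x B U).1 (exists_psec x z U w).choose) fun a b => by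
    refine Eq.trans ?_ (map_add ((cokernel.π (shU x z E)).app (preU x B U).1).hom _ _)
    refine congrArg _ (app_injective_of_mono (ClSub.idealModι (shP x p z)) (preU x B U).1 ?_)
    rw [map_add, (exists_psec x z U (a + b)).choose_spec, (exists_psec x z U a).choose_spec,
      (exists_psec x z U b).choose_spec]
    exact map_add (chart x B U) _ _

theorem cls_eq (U : X.affineOpens) (w : obP p (secI x z.1 U)) {s : Γ(ClSub.idealMod (shP x p z), (preU x B U).1)}
    (hs : (ClSub.idealModι (shP x p z)).app (preU x B U).1 s = chart x B U w) :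
    cls x z E U w = (cokernel.π (shU x z E)).app (preU x B U).1 s :=
  congrArg ((cokernel.π (shU x z E)).app (preU x B U).1)
    (app_injective_of_mono (ClSub.idealModι (shP x p z)) (preU x B U).1
      ((exists_psec x z U w).choose_spec.trans hs.symm))

theorem cls_eq_zero_iff (U : X.affineOpens) (w : obP p (secI x z.1 U)) :
    cls x z E U w = 0 ↔ (w : B ⊗[k] Sec x U.1) ∈ obK p t (J₀ x I₀ U) (secI x z.1 U) := by
  obtain ⟨s, hs⟩ := exists_psec x z U w
  rw [cls_eq x z E U w hs, ← secI_shK x p t z U, secI, Ideal.mem_comap, ← hs]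
  exact cok_app_eq_zero_iff x z E (preU x B U) s

theorem cls_surjective (U : X.affineOpens) : Function.Surjective (cls x z E U) := by
  intro e
  obtain ⟨s, hs⟩ := app_surjective_of_epi (preU x B U).2 (isQCoh_idealMod _) (isQCoh_cok x z E)
    (cokernel.π (shU x z E)) e
  obtain ⟨w, hw⟩ := (chart_bijective x B U).2 ((ClSub.idealModι (shP x p z)).app (preU x B U).1 s)
  have hm : w ∈ obP p (secI x z.1 U) := by
    rw [← secI_shP, secI, Ideal.mem_comap, hw]
    exact (mem_range_idealModι_affine (shP x p z) (preU x B U) _).1 ⟨s, rfl⟩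
  exact ⟨⟨w, hm⟩, (cls_eq x z E U ⟨w, hm⟩ hw.symm).trans hs⟩

theorem cls_mul (U : X.affineOpens) (r : Sec x U.1) (w : obP p (secI x z.1 U)) :
    cls x z E U (((1 : B) ⊗ₜ[k] r) • w) = HSMul.hSMul (α := Γ(X, U.1)) r (cls x z E U w) := by
  obtain ⟨s, hs⟩ := exists_psec x z U w
  let a : Γ(XA x B, (preU x B U).1) := (pullback.fst x (specOver B)).app U.1 r
  have h1 : (ClSub.idealModι (shP x p z)).app (preU x B U).1 (a • s) =
      chart x B U ((((1 : B) ⊗ₜ[k] r) • w : obP p (secI x z.1 U)) : B ⊗[k] Sec x U.1) := by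
    rw [Scheme.Modules.Hom.app_smul, hs, Submodule.coe_smul, smul_eq_mul (a := (1 : B) ⊗ₜ[k] r), map_mul,
      chart_tmul, map_one, one_mul]
    refine congrArg (fun c : Γ(XA x B, (preU x B U).1) => c * chart x B U (w : B ⊗[k] Sec x U.1)) ?_
    exact congr($(Scheme.Hom.app_eq_appLE (f := pullback.fst x (specOver B)) (U := U.1)) r)
  rw [cls_eq x z E U _ h1, cls_eq x z E U _ hs, Scheme.Modules.Hom.app_smul]
  rfl

theorem cls_res {U U' : X.affineOpens} (h : U'.1 ≤ U.1) (w : obP p (secI x z.1 U))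
    (hw : Algebra.TensorProduct.map (AlgHom.id k B) (secRes x h) (w : B ⊗[k] Sec x U.1) ∈ obP p (secI x z.1 U')) :
    res (shE x z E) h (cls x z E U w) = cls x z E U' ⟨_, hw⟩ := by
  obtain ⟨s, hs⟩ := exists_psec x z U w
  have h1 : (ClSub.idealModι (shP x p z)).app (preU x B U').1 (res (ClSub.idealMod (shP x p z)) (preU_mono x B h) s) =
      chart x B U' (Algebra.TensorProduct.map (AlgHom.id k B) (secRes x h) (w : B ⊗[k] Sec x U.1)) := by
    rw [← app_res, hs]
    exact chart_secRes x B h w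
  rw [cls_eq x z E U' _ h1, cls_eq x z E U w hs]
  exact app_res (cokernel.π (shU x z E)) (preU_mono x B h) s

theorem secRes_mem_obP {U U' : X.affineOpens} (h : U'.1 ≤ U.1) {w : B ⊗[k] Sec x U.1}
    (hw : w ∈ obP p (secI x z.1 U)) :
    Algebra.TensorProduct.map (AlgHom.id k B) (secRes x h) w ∈ obP p (secI x z.1 U') := by
  rw [obP, Ideal.mem_comap] at hw ⊢
  have hcomm : mapT (Sec x U'.1) p (Algebra.TensorProduct.map (AlgHom.id k B) (secRes x h) w) =
      Algebra.TensorProduct.map (AlgHom.id k A) (secRes x h) (mapT (Sec x U.1) p w) := by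
    clear hw
    induction w using TensorProduct.induction_on with
    | zero => simp
    | tmul b r => simp
    | add a b ha hb => simp [ha, hb]
  rw [hcomm]
  exact secI_secRes x z.1 h hw

theorem cls_t_eq (U : X.affineOpens) {r r' : Sec x U.1}
    (h : Ideal.Quotient.mk (J₀ x I₀ U) r = Ideal.Quotient.mk (J₀ x I₀ U) r') :
    cls x z E U ⟨_, t_tmul_mem_obP E r⟩ = cls x z E U ⟨_, t_tmul_mem_obP E r'⟩ := by
  rw [← sub_eq_zero, ← map_sub, cls_eq_zero_iff]
  change (t : B) ⊗ₜ[k] r - (t : B) ⊗ₜ[k] r' ∈ _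
  rw [← tmul_sub]
  exact t_tmul_mem_obK E (Ideal.Quotient.eq.1 h)

theorem exists_i : ∃ i : ClSub.quotMod I₀ ⟶ shE x z E, ∀ (U : X.affineOpens) (r : Sec x U.1),
    i.app U.1 (qEquiv x U (Ideal.Quotient.mk _ r)) = cls x z E U ⟨_, t_tmul_mem_obP E r⟩ := by
  let rep : ∀ (U : X.affineOpens), Γ(ClSub.quotMod I₀, U.1) → Sec x U.1 := fun U q =>
    (Ideal.Quotient.mk_surjective ((qEquiv x U).symm q)).choose
  have hrep : ∀ U q, Ideal.Quotient.mk _ (rep U q) = (qEquiv x U).symm q := fun U q =>
    (Ideal.Quotient.mk_surjective ((qEquiv x U).symm q)).choose_spec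
  obtain ⟨i, hi⟩ := KosExt.exists_hom_affine (ClSub.quotMod I₀) (shE x z E) (fun U =>
    { toFun := fun q => cls x z E U ⟨_, t_tmul_mem_obP E (rep U q)⟩
      map_add' := fun a b => by
        rw [cls_t_eq x z E U (r' := rep U a + rep U b) (by
          rw [map_add (Ideal.Quotient.mk _), hrep, hrep, hrep]; exact map_add (qEquiv x U).symm a b), ← map_add]
        exact congrArg _ (Subtype.ext (tmul_add ..))
      map_smul' := fun r q => by
        rw [cls_t_eq x z E U (r' := HMul.hMul (α := Sec x U.1) r (rep U q)) (by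
          rw [hrep, map_mul, hrep]
          refine (qEquiv x U).injective ?_
          rw [RingEquiv.apply_symm_apply]
          exact ((qEquiv_smul x U r _).trans (congrArg _ (RingEquiv.apply_symm_apply ..))).symm)]
        refine (congrArg (cls x z E U) (Subtype.ext ?_)).trans (cls_mul x z E U r ⟨_, t_tmul_mem_obP E (rep U q)⟩)
        change (t : B) ⊗ₜ[k] (HMul.hMul (α := Sec x U.1) r (rep U q)) = (TensorProduct.tmul k (N := Sec x U.1) (1 : B) r) * ((t : B) ⊗ₜ[k] rep U q)
        rw [Algebra.TensorProduct.tmul_mul_tmul, one_mul] })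
    (fun U V h q => by
      change res (shE x z E) h (cls x z E U ⟨_, t_tmul_mem_obP E (rep U q)⟩) =
        cls x z E V ⟨_, t_tmul_mem_obP E (rep V (res (ClSub.quotMod I₀) h q))⟩
      rw [cls_res x z E h _ (secRes_mem_obP x z h (t_tmul_mem_obP E _))]
      refine Eq.trans ?_ (cls_t_eq x z E V (r := secRes x h (rep U q)) ?_)
      · exact congrArg _ (Subtype.ext (Algebra.TensorProduct.map_tmul ..))
      · rw [hrep, ← qRes_mk x I₀ h, hrep]
        refine (qEquiv x V).injective ?_
        rw [RingEquiv.apply_symm_apply, qEquiv_qRes, RingEquiv.apply_symm_apply])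
  refine ⟨i, fun U r => ?_⟩
  rw [hi]
  exact cls_t_eq x z E U (by rw [hrep, RingEquiv.symm_apply_apply])

theorem exists_q : ∃ q : shE x z E ⟶ ClSub.idealMod I₀, ∀ (U : X.affineOpens) (w : obP p (secI x z.1 U)),
    q.app U.1 (cls x z E U w) = jsec x (rfl : I₀ = I₀) U ⟨_, resT_mem_of_mem_obP (good x z U) w.2⟩ := by
  let rep : ∀ (U : X.affineOpens), Γ(shE x z E, U.1) → obP p (secI x z.1 U) := fun U e =>
    (cls_surjective x z E U e).choose
  have hrep : ∀ U e, cls x z E U (rep U e) = e := fun U e => (cls_surjective x z E U e).choose_spec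
  let f : ∀ (U : X.affineOpens), obP p (secI x z.1 U) → Γ(ClSub.idealMod I₀, U.1) := fun U w =>
    jsec x (rfl : I₀ = I₀) U ⟨_, resT_mem_of_mem_obP (good x z U) w.2⟩
  have hf : ∀ U (w : obP p (secI x z.1 U)),
      (ClSub.idealModι I₀).app U.1 (f U w) = resT (Sec x U.1) B (w : B ⊗[k] Sec x U.1) := fun U w =>
    jsec_spec x rfl U _
  have hwd : ∀ U (a b : obP p (secI x z.1 U)), cls x z E U a = cls x z E U b → f U a = f U b := fun U a b h => by
    rw [← sub_eq_zero, ← map_sub, cls_eq_zero_iff] at h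
    have h1 := resT_eq_zero_of_mem_obK E (good x z U) h
    refine app_injective_of_mono (ClSub.idealModι I₀) U.1 ?_
    rw [hf, hf]
    exact sub_eq_zero.1 ((map_sub (resT (Sec x U.1) B) _ _).symm.trans h1)
  obtain ⟨q, hq⟩ := KosExt.exists_hom_affine (shE x z E) (ClSub.idealMod I₀) (fun U =>
    { toFun := fun e => f U (rep U e)
      map_add' := fun a b => by
        rw [hwd U _ (rep U a + rep U b) (by rw [hrep, map_add, hrep, hrep])]
        refine app_injective_of_mono (ClSub.idealModι I₀) U.1 ?_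
        rw [hf, map_add ((ClSub.idealModι I₀).app U.1).hom, hf, hf]
        exact map_add (resT (Sec x U.1) B) _ _
      map_smul' := fun r e => by
        rw [hwd U _ ((TensorProduct.tmul k (N := Sec x U.1) (1 : B) r) • rep U e) (by rw [hrep, cls_mul, hrep])]
        refine app_injective_of_mono (ClSub.idealModι I₀) U.1 ?_
        rw [hf, RingHom.id_apply, Scheme.Modules.Hom.app_smul, hf, Submodule.coe_smul, smul_eq_mul, map_mul, resT_tmul,
          map_one, one_smul]
        rfl })
    (fun U V h e => by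
      change res (ClSub.idealMod I₀) h (f U (rep U e)) = f V (rep V (res (shE x z E) h e))
      rw [hwd V (rep V (res (shE x z E) h e)) ⟨_, secRes_mem_obP x z h (rep U e).2⟩
        (by rw [hrep, ← cls_res x z E h, hrep])]
      refine app_injective_of_mono (ClSub.idealModι I₀) V.1 ?_
      rw [← app_res, hf, hf]
      exact (resT_secRes x B h _).symm)
  refine ⟨q, fun U w => ?_⟩
  rw [hq]
  exact hwd U _ _ (hrep U _)

/-- The obstruction extension. -/
theorem exists_shortExact (L : LineExt p t) (i : ClSub.quotMod I₀ ⟶ shE x z E) (q : shE x z E ⟶ ClSub.idealMod I₀)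
    (hi : ∀ (U : X.affineOpens) (r : Sec x U.1),
      i.app U.1 (qEquiv x U (Ideal.Quotient.mk _ r)) = cls x z E U ⟨_, t_tmul_mem_obP E r⟩)
    (hq : ∀ (U : X.affineOpens) (w : obP p (secI x z.1 U)),
      q.app U.1 (cls x z E U w) = jsec x (rfl : I₀ = I₀) U ⟨_, resT_mem_of_mem_obP (good x z U) w.2⟩) :
    ∃ w : i ≫ q = 0, (ShortComplex.mk i q w).ShortExact := by
  have hiq : i ≫ q = 0 := KosExt.hom_ext_affine fun U s => by
    obtain ⟨s, rfl⟩ := (qEquiv x U).surjective s
    obtain ⟨r, rfl⟩ := Ideal.Quotient.mk_surjective s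
    change q.app U.1 (i.app U.1 _) = 0
    rw [hi, hq]
    refine app_injective_of_mono (ClSub.idealModι I₀) U.1 ?_
    rw [jsec_spec, map_zero]
    change resT (Sec x U.1) B ((t : B) ⊗ₜ[k] r) = 0
    rw [resT_tmul, E.res_t, zero_smul]
  refine ⟨hiq, Conormal.shortExact_of_basis _ (B := {V : X.Opens | IsAffineOpen V}) ?_ ?_ ?_ ?_⟩
  · intro O y hy
    obtain ⟨V, hyV, hle⟩ := KosExt.exists_affine_le hy
    exact ⟨V.1, V.2, hle, hyV⟩
  · intro V hV
    rw [injective_iff_map_eq_zero]
    intro s hs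
    obtain ⟨s', rfl⟩ := (qEquiv x (⟨V, hV⟩ : X.affineOpens)).surjective s
    obtain ⟨r, rfl⟩ := Ideal.Quotient.mk_surjective s'
    have h1 := (hi ⟨V, hV⟩ r).symm.trans hs
    rw [cls_eq_zero_iff] at h1
    rw [show Ideal.Quotient.mk _ r = 0 from
      Ideal.Quotient.eq_zero_iff_mem.2 (mem_of_t_tmul_mem_obK L (good x z ⟨V, hV⟩) h1)]
    exact map_zero (qEquiv x (⟨V, hV⟩ : X.affineOpens))
  · intro V hV e he
    obtain ⟨w, rfl⟩ := cls_surjective x z E ⟨V, hV⟩ e
    have h1 := congrArg ((ClSub.idealModι I₀).app V) ((hq ⟨V, hV⟩ w).symm.trans he)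
    rw [map_zero] at h1
    have h2 : resT (Sec x V) B (w : B ⊗[k] Sec x V) = 0 := (jsec_spec x rfl ⟨V, hV⟩ _).symm.trans h1
    obtain ⟨r, hr⟩ := exists_sub_mem_obK L (good x z ⟨V, hV⟩) w.2 h2
    refine ⟨qEquiv x (⟨V, hV⟩ : X.affineOpens) (Ideal.Quotient.mk _ r), (hi ⟨V, hV⟩ r).trans ?_⟩
    refine (sub_eq_zero.1 ?_).symm
    rw [← map_sub, cls_eq_zero_iff]
    exact hr
  · intro V hV s
    obtain ⟨w, hw, hwj⟩ := exists_resT_eq E (good x z ⟨V, hV⟩) (app_mem x (rfl : I₀ = I₀) ⟨V, hV⟩ s)
    exact ⟨cls x z E ⟨V, hV⟩ ⟨w, hw⟩, (hq ⟨V, hV⟩ ⟨w, hw⟩).trans (jsec_eq x rfl ⟨V, hV⟩ _ (s := s) hwj.symm)⟩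

theorem cls_smul (U : X.affineOpens) (w : B ⊗[k] Sec x U.1) (v : obP p (secI x z.1 U)) :
    cls x z E U (w • v) = HSMul.hSMul (α := Γ(X, U.1)) (resT (Sec x U.1) B w) (cls x z E U v) := by
  refine Eq.trans ?_ (cls_mul x z E U (resT (Sec x U.1) B w) v)
  rw [← sub_eq_zero, ← map_sub, cls_eq_zero_iff, AddSubgroupClass.coe_sub, Submodule.coe_smul, Submodule.coe_smul,
    smul_eq_mul, smul_eq_mul, ← sub_mul]
  refine Submodule.mem_sup_left (Ideal.mul_mem_mul ?_ v.2)
  rw [map_max_eq_ker, Ideal.mem_comap, map_sub, resT_tmul, map_one, one_smul, sub_self]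
  exact zero_mem _

theorem retr_smul (r : shE x z E ⟶ ClSub.quotMod I₀) (U : X.affineOpens) (a : Sec x U.1)
    (e : Γ(shE x z E, U.1)) :
    (qEquiv x U).symm (r.app U.1 (HSMul.hSMul (α := Γ(X, U.1)) a e)) =
      Ideal.Quotient.mk (J₀ x I₀ U) a * (qEquiv x U).symm (r.app U.1 e) := by
  refine (qEquiv x U).injective ?_
  rw [RingEquiv.apply_symm_apply, Scheme.Modules.Hom.app_smul]
  exact ((qEquiv_smul x U a _).trans (congrArg _ (RingEquiv.apply_symm_apply ..))).symm

/-- The functional of a retraction. -/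
noncomputable def retrF (r : shE x z E ⟶ ClSub.quotMod I₀) (U : X.affineOpens) :
    obP p (secI x z.1 U) →+ Sec x U.1 ⧸ J₀ x I₀ U :=
  AddMonoidHom.mk' (fun v => (qEquiv x U).symm (r.app U.1 (cls x z E U v))) fun a b => by
    rw [map_add]
    exact (congrArg (qEquiv x U).symm (map_add (r.app U.1).hom _ _)).trans (map_add (qEquiv x U).symm _ _)

theorem retrF_apply (r : shE x z E ⟶ ClSub.quotMod I₀) (U : X.affineOpens) (v : obP p (secI x z.1 U)) :
    qEquiv x U (retrF x z E r U v) = r.app U.1 (cls x z E U v) :=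
  (qEquiv x U).apply_symm_apply _

theorem retrF_smul (r : shE x z E ⟶ ClSub.quotMod I₀) (U : X.affineOpens) (w : B ⊗[k] Sec x U.1)
    (v : obP p (secI x z.1 U)) :
    retrF x z E r U (w • v) = Ideal.Quotient.mk _ (resT (Sec x U.1) B w) * retrF x z E r U v := by
  refine (qEquiv x U).injective ?_
  rw [retrF_apply, cls_smul x z E U w v, map_mul (qEquiv x U), qEquiv_mk, retrF_apply,
    Scheme.Modules.Hom.app_smul]
  rfl

theorem retrF_t (i : ClSub.quotMod I₀ ⟶ shE x z E)
    (hi : ∀ (U : X.affineOpens) (r : Sec x U.1),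
      i.app U.1 (qEquiv x U (Ideal.Quotient.mk _ r)) = cls x z E U ⟨_, t_tmul_mem_obP E r⟩)
    (r : shE x z E ⟶ ClSub.quotMod I₀) (hr : i ≫ r = 𝟙 _) (U : X.affineOpens) (s : Sec x U.1) :
    retrF x z E r U ⟨_, t_tmul_mem_obP E s⟩ = Ideal.Quotient.mk _ s := by
  refine (qEquiv x U).injective ?_
  rw [retrF_apply, ← hi]
  change (i ≫ r).app U.1 _ = _
  rw [hr]
  rfl

theorem retrF_res (r : shE x z E ⟶ ClSub.quotMod I₀) {U U' : X.affineOpens} (h : U'.1 ≤ U.1)
    (v : obP p (secI x z.1 U)) :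
    retrF x z E r U' ⟨_, secRes_mem_obP x z h v.2⟩ = qRes x I₀ h (retrF x z E r U v) := by
  refine (qEquiv x U').injective ?_
  rw [retrF_apply, qEquiv_qRes, retrF_apply, app_res, cls_res x z E h v (secRes_mem_obP x z h v.2)]

/-- A retraction of the obstruction extension gives a lift. -/
theorem exists_lift_of_retraction (L : LineExt p t) (i : ClSub.quotMod I₀ ⟶ shE x z E)
    (hi : ∀ (U : X.affineOpens) (r : Sec x U.1),
      i.app U.1 (qEquiv x U (Ideal.Quotient.mk _ r)) = cls x z E U ⟨_, t_tmul_mem_obP E r⟩)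
    (r : shE x z E ⟶ ClSub.quotMod I₀) (hr : i ≫ r = 𝟙 _) :
    ∃ z' : (localHilb X x I₀).obj B, (localHilb X x I₀).map p z' = z := by
  obtain ⟨z', hz'⟩ := exists_obj x (fun U => lftIdeal (retrF x z E r U) (retrF_smul x z E r U))
    (fun U => (good_lftIdeal L (good x z U) (retrF x z E r U) (retrF_smul x z E r U) (retrF_t x z E i hi r hr U)).1)
    (fun U U' h w hw => by
      obtain ⟨hw1, hw2⟩ := hw
      exact ⟨secRes_mem_obP x z h hw1, (retrF_res x z E r h ⟨w, hw1⟩).trans (by rw [hw2, map_zero])⟩)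
  exact ⟨z', obj_ext x fun U => by rw [secI_map, hz',
    (good_lftIdeal L (good x z U) (retrF x z E r U) (retrF_smul x z E r U) (retrF_t x z E i hi r hr U)).2]⟩

end Groth.Agent.LHilb
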