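import Groth.Agent.LHilb.Sections
import Mathlib

/-!
# Gluing flat ideals on the charts to an element of the local Hilbert functor
-/

set_option autoImplicit false
universe u

open TensorProduct CategoryTheory CategoryTheory.Limits AlgebraicGeometry ArtFun ArtFun.Art IsLocalRing

namespace Groth.Agent.LHilb

section alg

variable {k : Type u} [Field k] {R : Type u} [CommRing R] [Algebra k R] {J : Ideal R} {A : Art k k}
  {I : Ideal (A ⊗[k] R)}

theorem resT_eq_zero_of_mem_smul {z : A ⊗[k] R} (hz : z ∈ maximalIdeal A • (⊤ : Submodule A (A ⊗[k] R))) :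
    resT R A z = 0 := by
  refine Submodule.smul_induction_on hz (fun a ha y _ => ?_) fun a b ha hb => by rw [map_add, ha, hb, add_zero]
  induction y using TensorProduct.induction_on with
  | zero => simp
  | tmul b r => rw [smul_tmul', smul_eq_mul, resT_tmul, map_mul, (Art.mem_maximalIdeal_iff A a).1 ha, zero_mul, zero_smul]
  | add y z hy hz => rw [smul_add, map_add, hy trivial, hz trivial, add_zero]

/-- An ideal inside a good one with the same closed fibre is equal to it. -/
theorem Good.eq_of_le_of_map (h : Good R J A I) {K : Ideal (A ⊗[k] R)} (hle : K ≤ I)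
    (hmap : J ≤ K.map (resT R A)) : K = I := by
  let N := I.restrictScalars A
  let K' := K.restrictScalars A
  have step : N ≤ K' ⊔ maximalIdeal A • N := by
    intro z hz
    obtain ⟨w, hw, hwz⟩ := (Ideal.mem_map_iff_of_surjective _ (resT_surjective R A)).1 (hmap (h.resT_mem hz))
    have hd := sub_one_tmul_mem R A (z - w)
    rw [map_sub, hwz, sub_self, tmul_zero, sub_zero] at hd
    choose π hπ using h.exists_repr
    have hdec : ∀ t ∈ maximalIdeal A • (⊤ : Submodule A (A ⊗[k] R)),
        ∃ c, t - cmb R J A c ∈ maximalIdeal A • N := by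
      intro t ht
      refine Submodule.smul_induction_on ht (fun a ha y _ => ⟨a • π y, ?_⟩) fun a b ⟨c, hc⟩ ⟨d, hd⟩ => ⟨c + d, ?_⟩
      · rw [map_smul, ← smul_sub]
        exact Submodule.smul_mem_smul ha (hπ y)
      · rw [map_add, add_sub_add_comm]
        exact add_mem hc hd
    obtain ⟨c, hc⟩ := hdec _ hd
    have hc' : cmb R J A c ∈ I := by
      have h1 : z - w - cmb R J A c ∈ I := (Submodule.smul_le_right : maximalIdeal A • N ≤ N) hc
      have h2 := I.sub_mem (I.sub_mem hz (hle hw)) h1
      rwa [sub_sub_cancel] at h2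
    rw [h.eq_zero hc', map_zero, sub_zero] at hc
    exact Submodule.mem_sup.2 ⟨w, hw, _, hc, add_sub_cancel w z⟩
  refine le_antisymm hle ?_
  obtain ⟨n, hn⟩ := ArtFlat.isNilpotent_maximalIdeal (A := A)
  have key : ∀ j, N ≤ K' ⊔ maximalIdeal A ^ j • N := by
    intro j
    induction j with
    | zero => rw [pow_zero, Ideal.one_eq_top, Submodule.top_smul]; exact le_sup_right
    | succ j ih =>
      refine ih.trans (sup_le le_sup_left ((Submodule.smul_mono le_rfl step).trans ?_))
      rw [Submodule.smul_sup, ← Submodule.smul_assoc, smul_eq_mul, ← pow_succ]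
      exact sup_le_sup_right Submodule.smul_le_right _
  have := key n
  rw [hn, Ideal.zero_eq_bot, Submodule.bot_smul, sup_bot_eq] at this
  exact this

end alg

variable {k : Type u} [Field k] {X : Scheme.{u}} (x : X ⟶ specPt k) {A : Art k k} {I₀ : X.IdealSheafData}

theorem le_of_preU_le {U U' : X.affineOpens} (h : (preU x A U').1 ≤ (preU x A U).1) : U'.1 ≤ U.1 := by
  intro p hp
  have hp' : (XAincl x A).base p ∈ (preU x A U').1 := le_XAincl x A U' hp
  have h2 := h hp'
  change (pullback.fst x (specOver A)).base ((XAincl x A).base p) ∈ U.1 at h2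
  rwa [← Scheme.Hom.comp_apply (XAincl x A) (pullback.fst x (specOver A)), XAincl_fst] at h2

theorem secI_secRes (I : (XA x A).IdealSheafData) {U U' : X.affineOpens} (h : U'.1 ≤ U.1)
    {z : A ⊗[k] Sec x U.1} (hz : z ∈ secI x I U) :
    Algebra.TensorProduct.map (AlgHom.id k A) (secRes x h) z ∈ secI x I U' := by
  rw [secI, Ideal.mem_comap] at hz ⊢
  rw [← chart_secRes x A h]
  exact I.ideal_le_comap_ideal (U := preU x A U') (V := preU x A U) (preU_mono x A h) hz

/-- Compatible flat ideals on the charts come from an element of the local Hilbert functor. -/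
theorem exists_obj (F : ∀ U : X.affineOpens, Ideal (A ⊗[k] Sec x U.1))
    (hgood : ∀ U, Good (Sec x U.1) (J₀ x I₀ U) A (F U))
    (hres : ∀ (U U' : X.affineOpens) (h : U'.1 ≤ U.1), ∀ z ∈ F U,
      Algebra.TensorProduct.map (AlgHom.id k A) (secRes x h) z ∈ F U') :
    ∃ z : (localHilb X x I₀).obj A, ∀ U, secI x z.1 U = F U := by
  classical
  choose σ hσ using exists_preU_eq x A
  have hinj : ∀ U, σ (preU x A U) = U := fun U => Subtype.ext (le_antisymm
    (le_of_preU_le x (congrArg Subtype.val (hσ (preU x A U))).le)
    (le_of_preU_le x (congrArg Subtype.val (hσ (preU x A U))).ge))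
  have hcompat : ∀ (U U' : X.affineOpens) (h : U'.1 ≤ U.1),
      (F U).map (Algebra.TensorProduct.map (AlgHom.id k A) (secRes x h)) = F U' := by
    intro U U' h
    refine (hgood U').eq_of_le_of_map (Ideal.map_le_iff_le_comap.2 fun z hz => hres U U' h z hz) ?_
    have hJ : J₀ x I₀ U' = (J₀ x I₀ U).map (secRes x h) := (I₀.map_ideal (U := U') (V := U) h).symm
    rw [hJ, ← (hgood U).2]
    change ((F U).map (resT (Sec x U.1) A).toRingHom).map (secRes x h).toRingHom ≤
      ((F U).map (Algebra.TensorProduct.map (AlgHom.id k A) (secRes x h)).toRingHom).map (resT (Sec x U'.1) A).toRingHom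
    rw [Ideal.map_map, Ideal.map_map]
    refine le_of_eq (congrArg (fun f => Ideal.map f (F U)) (RingHom.ext fun z => ?_))
    induction z using TensorProduct.induction_on with
    | zero => simp
    | tmul a r => simp
    | add y z hy hz => rw [map_add, map_add, hy, hz]
  let fam : ∀ U : X.affineOpens, Ideal Γ(XA x A, (preU x A U).1) := fun U => (F U).map (chart x A U)
  let ideal : ∀ V : (XA x A).affineOpens, Ideal Γ(XA x A, V.1) := fun V => (hσ V) ▸ fam (σ V)
  have hideal : ∀ U, ideal (preU x A U) = fam U := by
    intro U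
    have key : ∀ (U₁ : X.affineOpens) (e : preU x A U₁ = preU x A U), U₁ = U →
        (e ▸ fam U₁ : Ideal Γ(XA x A, (preU x A U).1)) = fam U := by
      rintro U₁ e rfl
      rfl
    exact key _ (hσ _) (hinj U)
  let I : (XA x A).IdealSheafData :=
    { ideal := ideal
      map_ideal_basicOpen := fun V f => by
        obtain ⟨U, rfl⟩ := exists_preU_eq x A V
        obtain ⟨U', hU'⟩ := exists_preU_eq x A ((XA x A).affineBasicOpen f)
        have hle : (preU x A U').1 ≤ (preU x A U).1 := hU' ▸ (XA x A).basicOpen_le f
        have h : U'.1 ≤ U.1 := le_of_preU_le x hle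
        have h2 : (ideal (preU x A U)).map ((XA x A).presheaf.map (homOfLE hle).op).hom = ideal (preU x A U') := by
          rw [hideal, hideal, Ideal.map_map]
          simp only [fam]
          rw [← hcompat U U' h]
          change _ = ((F U).map (Algebra.TensorProduct.map (AlgHom.id k A) (secRes x h)).toRingHom).map (chart x A U')
          rw [Ideal.map_map]
          exact congrArg (fun f => Ideal.map f (F U)) (RingHom.ext (chart_secRes x A h))
        have key : ∀ (W : (XA x A).affineOpens) (hW : W.1 ≤ (preU x A U).1), W = preU x A U' →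
            (ideal (preU x A U)).map ((XA x A).presheaf.map (homOfLE hW).op).hom = ideal W := by
          rintro W hW rfl
          exact h2
        exact key _ _ hU'.symm }
  have hI : ∀ U, secI x I U = F U := fun U => by
    change (ideal (preU x A U)).comap (chart x A U) = F U
    rw [hideal, Ideal.comap_map_of_bijective _ (chart_bijective x A U)]
  exact ⟨⟨I, (good_iff x I).2 fun U => (hI U).symm ▸ hgood U⟩, hI⟩

end Groth.Agent.LHilb
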