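import Groth.Agent.LHilb.Affine
import Groth.Agent.FittLib.Comap
import Mathlib

/-!
# Elements of the local Hilbert functor on affine charts
-/

set_option autoImplicit false
universe u

open TensorProduct CategoryTheory CategoryTheory.Limits AlgebraicGeometry ArtFun ArtFun.Art

namespace Groth.Agent.LHilb

variable {k : Type u} [Field k] {X : Scheme.{u}} (x : X ⟶ specPt k) {A : Art k k}

/-- The ideal of `I` in `A ⊗ Γ(X, U)`. -/
noncomputable def secI (I : (XA x A).IdealSheafData) (U : X.affineOpens) : Ideal (A ⊗[k] Sec x U.1) :=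
  (I.ideal (preU x A U)).comap (chart x A U)

theorem map_chart_secI (I : (XA x A).IdealSheafData) (U : X.affineOpens) :
    (secI x I U).map (chart x A U) = I.ideal (preU x A U) :=
  Ideal.map_comap_of_surjective _ (chart_bijective x A U).2 _

theorem secI_ext {I I' : (XA x A).IdealSheafData} (h : ∀ U, secI x I U = secI x I' U) : I = I' := by
  refine Scheme.IdealSheafData.ext (funext fun V => ?_)
  obtain ⟨U, rfl⟩ := exists_preU_eq x A V
  rw [← map_chart_secI, ← map_chart_secI, h]

theorem secI_comap_XAmap {B : Art k k} (g : A ⟶ B) (I : (XA x A).IdealSheafData) (U : X.affineOpens) :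
    secI x (I.comap (XAmap x g)) U = (secI x I U).map (mapT (Sec x U.1) g) := by
  have hcomp : ((XAmap x g).appLE _ _ (preU_le_XAmap x A g U)).hom.comp (chart x A U) =
      (chart x B U).comp (mapT (Sec x U.1) g).toRingHom := RingHom.ext (chart_XAmap x A g U)
  have hc : (I.comap (XAmap x g)).ideal (preU x B U) =
      (I.ideal (preU x A U)).map ((XAmap x g).appLE _ _ (preU_le_XAmap x A g U)).hom :=
    FittLib.comap_ideal (XAmap x g) I (preU x A U).2 (preU x B U).2 (preU_le_XAmap x A g U)
  rw [secI, hc, ← map_chart_secI, Ideal.map_map, hcomp, ← Ideal.map_map,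
    Ideal.comap_map_of_bijective _ (chart_bijective x B U)]
  rfl

theorem ideal_comap_XAincl (I : (XA x A).IdealSheafData) (U : X.affineOpens) :
    (I.comap (XAincl x A)).ideal U = (secI x I U).map (resT (Sec x U.1) A) := by
  have hc : (I.comap (XAincl x A)).ideal U =
      (I.ideal (preU x A U)).map ((XAincl x A).appLE _ _ (le_XAincl x A U)).hom :=
    FittLib.comap_ideal (XAincl x A) I (preU x A U).2 U.2 (le_XAincl x A U)
  refine hc.trans ?_
  rw [← map_chart_secI, Ideal.map_map]
  exact congrArg (fun f => Ideal.map f (secI x I U)) (RingHom.ext (chart_XAincl x A U))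

/-- flatness of the closed subscheme, tested on the charts. -/
theorem flatOver_iff (I : (XA x A).IdealSheafData) :
    FlatOver X x A I ↔ ∀ U : X.affineOpens, Module.Flat A ((A ⊗[k] Sec x U.1) ⧸ secI x I U) := by
  have hcov : ⨆ U : X.affineOpens, (I.subschemeι ⁻¹ᵁ (preU x A U).1) = ⊤ := by
    refine eq_top_iff.2 fun p _ => ?_
    obtain ⟨U, hU, hpU, -⟩ := exists_isAffineOpen_mem_and_subset
      (x := (pullback.fst x (specOver A)).base (I.subschemeι.base p)) (U := ⊤) trivial
    exact TopologicalSpace.Opens.mem_iSup.2 ⟨⟨U, hU⟩, hpU⟩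
  unfold FlatOver
  rw [HasRingHomProperty.iff_of_iSup_eq_top (P := @Flat) (Y := spec A)
    (fun U : X.affineOpens => (⟨I.subschemeι ⁻¹ᵁ (preU x A U).1, (preU x A U).2.preimage _⟩ :
      I.subscheme.affineOpens)) hcov]
  refine forall_congr' fun U => ?_
  let g : A ⊗[k] Sec x U.1 →+* Γ(I.subscheme, I.subschemeι ⁻¹ᵁ (preU x A U).1) :=
    (I.subschemeι.app (preU x A U).1).hom.comp (chart x A U)
  have hg : Function.Surjective g := (I.subschemeι_app_surjective (preU x A U)).comp (chart_bijective x A U).2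
  have hker : RingHom.ker g = secI x I U := by
    rw [← RingHom.comap_ker, Scheme.IdealSheafData.ker_subschemeι_app]
    rfl
  letI : Algebra A Γ(I.subscheme, I.subschemeι ⁻¹ᵁ (preU x A U).1) :=
    (g.comp (algebraMap A (A ⊗[k] Sec x U.1))).toAlgebra
  let ga : A ⊗[k] Sec x U.1 →ₐ[A] Γ(I.subscheme, I.subschemeι ⁻¹ᵁ (preU x A U).1) := ⟨g, fun _ => rfl⟩
  let e : ((A ⊗[k] Sec x U.1) ⧸ secI x I U) ≃ₗ[A] Γ(I.subscheme, I.subschemeι ⁻¹ᵁ (preU x A U).1) :=
    ((Ideal.quotientEquivAlgOfEq A (hker.symm.trans (rfl : RingHom.ker g = RingHom.ker ga))).trans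
      (Ideal.quotientKerAlgEquivOfSurjective (f := ga) hg)).toLinearEquiv
  have hmap : (g.comp (algebraMap A (A ⊗[k] Sec x U.1))) =
      (((I.subschemeι ≫ XApr x A).appLE ⊤ (I.subschemeι ⁻¹ᵁ (preU x A U).1) le_top).hom).comp
        (Scheme.ΓSpecIso (CommRingCat.of A)).inv.hom := by
    ext a
    change I.subschemeι.app _ (chart x A U (a ⊗ₜ[k] 1)) = _
    rw [chart_tmul, map_one, mul_one]
    change (sndMap x A (preU x A U).1 ≫ I.subschemeι.app _) a =
      ((Scheme.ΓSpecIso (CommRingCat.of A)).inv ≫ (I.subschemeι ≫ XApr x A).appLE ⊤ _ le_top) a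
    rw [sndMap, Category.assoc, Scheme.Hom.app_eq_appLE, Scheme.Hom.appLE_comp_appLE]
  trans (g.comp (algebraMap A (A ⊗[k] Sec x U.1))).Flat
  · rw [hmap, ← CommRingCat.hom_comp]
    exact (RingHom.Flat.respectsIso.cancel_left_isIso (Scheme.ΓSpecIso (CommRingCat.of A)).inv _).symm
  · refine ⟨fun h => ?_, fun h => ?_⟩
    · haveI : Module.Flat A Γ(I.subscheme, I.subschemeι ⁻¹ᵁ (preU x A U).1) := h
      exact Module.Flat.of_linearEquiv e
    · exact (Module.Flat.of_linearEquiv e.symm : Module.Flat A Γ(I.subscheme, I.subschemeι ⁻¹ᵁ (preU x A U).1))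

variable {I₀ : X.IdealSheafData}

/-- The ideal of the closed subscheme on an affine open. -/
noncomputable abbrev J₀ (I₀ : X.IdealSheafData) (U : X.affineOpens) : Ideal (Sec x U.1) := I₀.ideal U

theorem good_iff (I : (XA x A).IdealSheafData) :
    (FlatOver X x A I ∧ I.comap (XAincl x A) = I₀) ↔ ∀ U, Good (Sec x U.1) (J₀ x I₀ U) A (secI x I U) := by
  constructor
  · rintro ⟨h1, h2⟩ U
    exact ⟨(flatOver_iff x I).1 h1 U, (ideal_comap_XAincl x I U).symm.trans (by rw [h2])⟩
  · intro h
    refine ⟨(flatOver_iff x I).2 fun U => (h U).1, Scheme.IdealSheafData.ext (funext fun U => ?_)⟩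
    exact (ideal_comap_XAincl x I U).trans (h U).2

theorem good (z : (localHilb X x I₀).obj A) (U : X.affineOpens) :
    Good (Sec x U.1) (J₀ x I₀ U) A (secI x z.1 U) := (good_iff x z.1).1 z.2 U

theorem secI_map {B : Art k k} (g : A ⟶ B) (z : (localHilb X x I₀).obj A) (U : X.affineOpens) :
    secI x ((localHilb X x I₀).map g z).1 U = (secI x z.1 U).map (mapT (Sec x U.1) g) :=
  secI_comap_XAmap x g z.1 U

theorem obj_ext {z z' : (localHilb X x I₀).obj A} (h : ∀ U, secI x z.1 U = secI x z'.1 U) : z = z' :=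
  Subtype.ext (secI_ext x h)

end Groth.Agent.LHilb
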