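import Groth.Agent.LHilb.Alg
import Mathlib

/-!
# Good ideals over the dual numbers are homomorphisms `J → R ⧸ J`
-/

set_option autoImplicit false
universe u

open TensorProduct IsLocalRing CategoryTheory ArtFun

namespace Groth.Agent.LHilb

variable {k : Type u} [Field k] (R : Type u) [CommRing R] [Algebra k R]

/-- The coefficient of a linear functional. -/
noncomputable def cfT {A : Art k k} (l : A →ₗ[k] k) : A ⊗[k] R →ₗ[k] R :=
  (TensorProduct.lid k R).toLinearMap ∘ₗ TensorProduct.map l LinearMap.id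

@[simp] theorem cfT_tmul {A : Art k k} (l : A →ₗ[k] k) (a : A) (r : R) : cfT R l (a ⊗ₜ r) = l a • r := by
  simp [cfT]

theorem cfT_mapT {A B : Art k k} (g : A ⟶ B) (l : B →ₗ[k] k) (z : A ⊗[k] R) :
    cfT R l (mapT R g z) = cfT R (l ∘ₗ g.toAlgHom.toLinearMap) z := by
  induction z using TensorProduct.induction_on with
  | zero => simp
  | tmul a r => simp
  | add y z hy hz => simp [hy, hz]

/-- The `ε`-coefficient. -/
noncomputable def cfε : (Art.dual k k) ⊗[k] R →ₗ[k] R :=
  cfT R (TrivSqZeroExt.sndHom k k : DualNumber k →ₗ[k] k)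

/-- The element `ε`. -/
abbrev εA : (Art.dual k k).carrier := (DualNumber.eps : DualNumber k)

/-- `t ↦ t ε`. -/
def inrA (t : k) : (Art.dual k k).carrier := (TrivSqZeroExt.inr t : DualNumber k)

/-- The `ε`-part. -/
def sndA (t : (Art.dual k k).carrier) : k := TrivSqZeroExt.snd (t : DualNumber k)

theorem sndA_zero : sndA (0 : (Art.dual k k).carrier) = 0 := rfl

theorem snd_eps_mul (t : DualNumber k) : TrivSqZeroExt.snd (DualNumber.eps * t) = TrivSqZeroExt.fst t := by
  simp

theorem inrA_zero : inrA (0 : k) = 0 := TrivSqZeroExt.inr_zero ..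

theorem cfε_tmul (a : (Art.dual k k).carrier) (r : R) : cfε R (a ⊗ₜ r) = TrivSqZeroExt.snd a • r :=
  cfT_tmul ..

theorem dual_decomp (z : (Art.dual k k) ⊗[k] R) :
    z = 1 ⊗ₜ resT R (Art.dual k k) z + (εA (k := k)) ⊗ₜ cfε (k := k) R z := by
  induction z using TensorProduct.induction_on with
  | zero => simp
  | tmul a r =>
    rw [resT_tmul, cfε_tmul, tmul_smul, tmul_smul, smul_tmul', smul_tmul', ← add_tmul]
    congr 1
    refine TrivSqZeroExt.ext ?_ ?_
    · change TrivSqZeroExt.fst a = TrivSqZeroExt.fst a * 1 + TrivSqZeroExt.snd a * 0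
      rw [mul_one, mul_zero, add_zero]
    · change TrivSqZeroExt.snd a = TrivSqZeroExt.fst a * 0 + TrivSqZeroExt.snd a * 1
      rw [mul_one, mul_zero, zero_add]
  | add y z hy hz =>
    rw [map_add, map_add, tmul_add, tmul_add, add_add_add_comm, ← hy, ← hz]

theorem cfε_mul (a z : (Art.dual k k) ⊗[k] R) :
    cfε (k := k) R (a * z) = resT R (Art.dual k k) a * cfε (k := k) R z + cfε (k := k) R a * resT R (Art.dual k k) z := by
  induction a using TensorProduct.induction_on with
  | zero => simp
  | tmul a r =>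
    induction z using TensorProduct.induction_on with
    | zero => simp
    | tmul b s =>
      simp only [Algebra.TensorProduct.tmul_mul_tmul, cfε_tmul, resT_tmul, smul_mul_smul_comm]
      rw [← add_smul]
      refine congrArg (· • (r * s)) ?_
      exact TrivSqZeroExt.snd_mul a b
    | add y z hy hz => simp only [mul_add, map_add, hy, hz]; abel
  | add a b ha hb => simp only [add_mul, map_add, ha, hb]; abel

theorem ε_smul (z : (Art.dual k k) ⊗[k] R) : (εA (k := k)) • z = (εA (k := k)) ⊗ₜ resT R (Art.dual k k) z := by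
  conv_lhs => rw [dual_decomp R z]
  rw [smul_add, smul_tmul', smul_tmul', smul_eq_mul, smul_eq_mul, mul_one,
    show (εA (k := k)) * (εA (k := k)) = (0 : (Art.dual k k).carrier) from DualNumber.eps_mul_eps, zero_tmul, add_zero]

variable {R} {J : Ideal R} {I : Ideal ((Art.dual k k) ⊗[k] R)}

/-- An element of a good ideal with zero closed fibre has coefficient in `J`. -/
theorem Good.cfε_mem (h : Good R J _ I) {w : (Art.dual k k) ⊗[k] R} (hw : w ∈ I)
    (h0 : resT R (Art.dual k k) w = 0) : cfε (k := k) R w ∈ J := by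
  obtain ⟨c, hc⟩ := h.exists_repr (1 ⊗ₜ cfε (k := k) R w)
  have h1 : (εA (k := k)) • cmb R J (Art.dual k k) c ∈ I := by
    have h2 := I.sub_mem hw (Submodule.smul_of_tower_mem _ (εA (k := k)) hc)
    have h3 : w = (εA (k := k)) • ((1 : (Art.dual k k).carrier) ⊗ₜ[k] cfε (k := k) R w) := by
      conv_lhs => rw [dual_decomp R w, h0, tmul_zero, zero_add]
      rw [smul_tmul', smul_eq_mul, mul_one]
    rwa [smul_sub, ← h3, sub_sub_cancel] at h2
  rw [← map_smul] at h1
  have hz : resT R (Art.dual k k) (cmb R J (Art.dual k k) c) = 0 := by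
    rw [cmb_apply, Finsupp.sum, map_sum]
    refine Finset.sum_eq_zero fun i _ => ?_
    have h2 : (εA (k := k)) * c i = (0 : (Art.dual k k).carrier) := DFunLike.congr_fun (h.eq_zero h1) i
    have h3 : TrivSqZeroExt.snd ((εA (k := k)) * c i : DualNumber k) = 0 := by rw [h2]; rfl
    rw [resT_tmul]
    have : (Art.dual k k).res (c i) = 0 := by
      exact (snd_eps_mul _).symm.trans h3
    rw [this, zero_smul]
  have := h.resT_mem hc
  rwa [map_sub, resT_tmul, map_one, one_smul, hz, sub_zero] at this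

/-- The homomorphism attached to a good ideal over the dual numbers. -/
noncomputable def Good.phi (h : Good R J _ I) : J →ₗ[R] R ⧸ J :=
  have key : ∀ {w : (Art.dual k k) ⊗[k] R}, w ∈ I → ∀ (j : J), resT R (Art.dual k k) w = j →
      Ideal.Quotient.mk J (cfε (k := k) R (h.exists_mem j.2).choose) = Ideal.Quotient.mk J (cfε (k := k) R w) := fun {w} hw j hj => by
    obtain ⟨hm, he⟩ := (h.exists_mem j.2).choose_spec
    rw [Ideal.Quotient.eq, ← map_sub]
    exact h.cfε_mem (I.sub_mem hm hw) (by rw [map_sub, he, hj, sub_self])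
  { toFun := fun j => Ideal.Quotient.mk J (cfε (k := k) R (h.exists_mem j.2).choose)
    map_add' := fun a b => by
      rw [key (I.add_mem (h.exists_mem a.2).choose_spec.1 (h.exists_mem b.2).choose_spec.1) (a + b) (by
        rw [map_add, (h.exists_mem a.2).choose_spec.2, (h.exists_mem b.2).choose_spec.2]; rfl), map_add, map_add]
    map_smul' := fun r a => by
      rw [key (I.mul_mem_left ((1 : (Art.dual k k).carrier) ⊗ₜ[k] r) (h.exists_mem a.2).choose_spec.1) (r • a) (by
        rw [map_mul, (h.exists_mem a.2).choose_spec.2, resT_tmul, map_one, one_smul]; rfl), cfε_mul, resT_tmul, map_one,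
        one_smul, cfε_tmul, show TrivSqZeroExt.snd (1 : (Art.dual k k).carrier) = 0 from rfl, zero_smul, zero_mul,
        add_zero, map_mul]
      rfl }

theorem Good.phi_spec (h : Good R J _ I) {w : (Art.dual k k) ⊗[k] R} (hw : w ∈ I) {j : J}
    (hj : resT R (Art.dual k k) w = j) : h.phi j = Ideal.Quotient.mk J (cfε (k := k) R w) := by
  obtain ⟨hm, he⟩ := (h.exists_mem j.2).choose_spec
  change Ideal.Quotient.mk J (cfε (k := k) R (h.exists_mem j.2).choose) = _
  rw [Ideal.Quotient.eq, ← map_sub]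
  exact h.cfε_mem (I.sub_mem hm hw) (by rw [map_sub, he, hj, sub_self])

variable (R J) in
/-- The good ideal attached to a homomorphism. -/
noncomputable def phiIdeal (φ : J →ₗ[R] R ⧸ J) : Ideal ((Art.dual k k) ⊗[k] R) where
  carrier := {z | ∃ h : resT R (Art.dual k k) z ∈ J, φ ⟨_, h⟩ = Ideal.Quotient.mk J (cfε (k := k) R z)}
  add_mem' := by
    rintro a b ⟨ha, ha'⟩ ⟨hb, hb'⟩
    refine ⟨by rw [map_add]; exact add_mem ha hb, ?_⟩
    rw [map_add (cfε (k := k) R), map_add (Ideal.Quotient.mk J), ← ha', ← hb', ← map_add φ]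
    exact congrArg φ (Subtype.ext (map_add (resT R (Art.dual k k)) a b))
  zero_mem' := ⟨by rw [map_zero]; exact zero_mem _, by
    rw [map_zero (cfε (k := k) R), map_zero (Ideal.Quotient.mk J), ← map_zero φ]
    exact congrArg φ (Subtype.ext (map_zero (resT R (Art.dual k k))))⟩
  smul_mem' := by
    rintro a z ⟨hz, hz'⟩
    refine ⟨by rw [smul_eq_mul, map_mul]; exact J.mul_mem_left _ hz, ?_⟩
    change _ = Ideal.Quotient.mk J (cfε (k := k) R (a * z))
    rw [cfε_mul, map_add (Ideal.Quotient.mk J), map_mul (Ideal.Quotient.mk J), ← hz',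
      Ideal.Quotient.eq_zero_iff_mem.2 (J.mul_mem_left (cfε (k := k) R a) hz), add_zero]
    exact (congrArg φ (Subtype.ext (map_mul (resT R (Art.dual k k)) a z))).trans
      (φ.map_smul (resT R (Art.dual k k) a) ⟨_, hz⟩)

theorem good_phiIdeal (φ : J →ₗ[R] R ⧸ J) : Good (k := k) R J (Art.dual k k) (phiIdeal (k := k) R J φ) := by
  let b := bas (k := k) R J
  refine good_of_repr (fun z => ?_) (fun c hc => ?_) (le_antisymm ?_ fun j hj => ?_)
  · let d₀ := b.repr (Ideal.Quotient.mk J (resT R (Art.dual k k) z))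
    have hres : ∀ c : Idx (k := k) R J →₀ (Art.dual k k).carrier, c.mapRange (Art.dual k k).res (map_zero _) = d₀ →
        resT R (Art.dual k k) (z - cmb R J _ c) ∈ J := fun c hc => by
      rw [← Ideal.Quotient.eq_zero_iff_mem, map_sub, map_sub, mk_resT_cmb, hc, sub_eq_zero]
      exact (b.linearCombination_repr _).symm
    let c₀ : Idx (k := k) R J →₀ (Art.dual k k).carrier := d₀.mapRange (TrivSqZeroExt.inl) (TrivSqZeroExt.inl_zero ..)
    have hc₀ : c₀.mapRange (Art.dual k k).res (map_zero _) = d₀ := Finsupp.ext fun i => rfl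
    let d₁ := b.repr (Ideal.Quotient.mk J (cfε (k := k) R (z - cmb R J _ c₀)) - φ ⟨_, hres c₀ hc₀⟩)
    refine ⟨c₀ + d₁.mapRange inrA inrA_zero, ?_⟩
    have e0 : resT R (Art.dual k k) (cmb R J _ (d₁.mapRange inrA
        inrA_zero)) = 0 := by
      rw [cmb_apply, Finsupp.sum, map_sum]
      refine Finset.sum_eq_zero fun i _ => ?_
      rw [resT_tmul, Finsupp.mapRange_apply]
      exact zero_smul k _
    have e1 : Ideal.Quotient.mk J (cfε (k := k) R (cmb R J _ (d₁.mapRange inrA
        inrA_zero))) = Finsupp.linearCombination k b d₁ := by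
      rw [cmb_apply, Finsupp.sum_mapRange_index (fun i => by simp), Finsupp.linearCombination_apply, Finsupp.sum,
        map_sum, map_sum]
      refine Finset.sum_congr rfl fun i _ => ?_
      change _ = d₁ i • bas (k := k) R J i
      rw [cfε_tmul, ← mk_rep]
      exact map_smul (Ideal.Quotient.mkₐ k J) _ _
    rw [map_add (cmb R J (Art.dual k k)), ← sub_sub]
    refine ⟨by rw [map_sub, e0, sub_zero]; exact hres c₀ hc₀, ?_⟩
    rw [map_sub (cfε (k := k) R), map_sub (Ideal.Quotient.mk J), e1, b.linearCombination_repr, sub_sub_cancel]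
    exact congrArg φ (Subtype.ext ((map_sub (resT R (Art.dual k k)) (z - cmb R J _ c₀) _).trans ((congrArg (_ - ·) e0).trans (sub_zero _))))
  · obtain ⟨h1, h2⟩ := hc
    have h0 : c.mapRange (Art.dual k k).res (map_zero _) = 0 := by
      refine linearIndependent_iff.1 b.linearIndependent _ ?_
      rw [← mk_resT_cmb]
      exact Ideal.Quotient.eq_zero_iff_mem.2 h1
    have hr : resT R (Art.dual k k) (cmb R J _ c) = 0 := by
      rw [cmb_apply, Finsupp.sum, map_sum]
      refine Finset.sum_eq_zero fun i _ => ?_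
      rw [resT_tmul, show (Art.dual k k).res (c i) = 0 from DFunLike.congr_fun h0 i, zero_smul]
    have h3 : Finsupp.linearCombination k b (c.mapRange sndA sndA_zero) = 0 := by
      rw [Finsupp.linearCombination_apply, Finsupp.sum_mapRange_index (fun i => by simp)]
      have h4 : Ideal.Quotient.mk J (cfε (k := k) R (cmb R J (Art.dual k k) c)) = 0 := by
        rw [← h2, ← map_zero φ]
        exact congrArg φ (Subtype.ext hr)
      rw [cmb_apply, Finsupp.sum, map_sum, map_sum] at h4
      refine Eq.trans (Finset.sum_congr rfl fun i _ => ?_) h4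
      change TrivSqZeroExt.snd (c i : DualNumber k) • bas (k := k) R J i = _
      rw [cfε_tmul, ← mk_rep]
      exact (map_smul (Ideal.Quotient.mkₐ k J) _ _).symm
    have h5 := linearIndependent_iff.1 b.linearIndependent _ h3
    exact Finsupp.ext fun i => TrivSqZeroExt.ext (DFunLike.congr_fun h0 i) (DFunLike.congr_fun h5 i)
  · rw [Ideal.map_le_iff_le_comap]
    exact fun z hz => hz.1
  · obtain ⟨y, hy⟩ := Ideal.Quotient.mk_surjective (φ ⟨j, hj⟩)
    have h1 : resT R (Art.dual k k) ((1 : (Art.dual k k).carrier) ⊗ₜ[k] j + (εA (k := k)) ⊗ₜ[k] y) = j := by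
      rw [map_add, resT_tmul, resT_tmul, map_one, one_smul,
        show (Art.dual k k).res (εA (k := k)) = 0 from rfl, zero_smul, add_zero]
    have hmem : (1 : (Art.dual k k).carrier) ⊗ₜ[k] j + (εA (k := k)) ⊗ₜ[k] y ∈ phiIdeal R J φ := by
      refine ⟨h1.symm ▸ hj, ?_⟩
      rw [map_add (cfε (k := k) R), cfε_tmul, cfε_tmul, show TrivSqZeroExt.snd (1 : (Art.dual k k).carrier) = 0 from rfl,
        zero_smul, zero_add, show TrivSqZeroExt.snd ((εA (k := k)) : (Art.dual k k).carrier) = (1 : k) from rfl, one_smul, hy]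
      exact congrArg φ (Subtype.ext h1)
    exact h1 ▸ Ideal.mem_map_of_mem _ hmem

theorem phi_phiIdeal (φ : J →ₗ[R] R ⧸ J) : (good_phiIdeal (k := k) φ).phi = φ := by
  refine LinearMap.ext fun j => ?_
  obtain ⟨w, hw, hwj⟩ := (good_phiIdeal (k := k) φ).exists_mem j.2
  rw [(good_phiIdeal (k := k) φ).phi_spec hw hwj]
  obtain ⟨h, h'⟩ := hw
  rw [← h']
  exact congrArg φ (Subtype.ext hwj)

theorem Good.eq_phiIdeal (h : Good R J _ I) : I = phiIdeal R J h.phi := by
  refine h.eq_of_le (good_phiIdeal _) fun z hz => ⟨h.resT_mem hz, h.phi_spec hz rfl⟩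

end Groth.Agent.LHilb
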