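import Groth.Agent.LHilb.Homog
import Groth.Agent.LHilb.OfFam
import Groth.Agent.LHilb.TangentAlg
import Mathlib

/-!
# The tangent space of the local Hilbert functor as compatible families `J_U → R_U ⧸ J_U`
-/

set_option autoImplicit false
universe u

open TensorProduct CategoryTheory CategoryTheory.Limits AlgebraicGeometry ArtFun ArtFun.Art

namespace Groth.Agent.LHilb

variable {k : Type u} [Field k] {X : Scheme.{u}} (x : X ⟶ specPt k) (I₀ : X.IdealSheafData)

theorem secRes_mem {U U' : X.affineOpens} (h : U'.1 ≤ U.1) {j : Sec x U.1} (hj : j ∈ J₀ x I₀ U) :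
    secRes x h j ∈ J₀ x I₀ U' :=
  I₀.ideal_le_comap_ideal (U := U') (V := U) h hj

/-- Restriction of residue classes. -/
noncomputable def qRes {U U' : X.affineOpens} (h : U'.1 ≤ U.1) :
    (Sec x U.1 ⧸ J₀ x I₀ U) →ₐ[k] (Sec x U'.1 ⧸ J₀ x I₀ U') :=
  Ideal.quotientMapₐ (J₀ x I₀ U') (secRes x h) fun _ hj => secRes_mem x I₀ h hj

theorem qRes_mk {U U' : X.affineOpens} (h : U'.1 ≤ U.1) (r : Sec x U.1) :
    qRes x I₀ h (Ideal.Quotient.mk _ r) = Ideal.Quotient.mk _ (secRes x h r) :=
  Ideal.quotient_map_mkₐ ..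

/-- Families of homomorphisms on affine opens. -/
abbrev Fam : Type u := ∀ U : X.affineOpens, J₀ x I₀ U →ₗ[Sec x U.1] Sec x U.1 ⧸ J₀ x I₀ U

/-- Compatible families: sections of the normal sheaf. -/
noncomputable def NSec : Submodule k (Fam x I₀) where
  carrier := {φ | ∀ (U U' : X.affineOpens) (h : U'.1 ≤ U.1) (j : J₀ x I₀ U),
    φ U' ⟨secRes x h j, secRes_mem x I₀ h j.2⟩ = qRes x I₀ h (φ U j)}
  add_mem' {φ ψ} hφ hψ U U' h j := by
    simp only [Pi.add_apply, LinearMap.add_apply, map_add, hφ U U' h j, hψ U U' h j]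
  zero_mem' U U' h j := by simp
  smul_mem' c φ hφ U U' h j := by
    simp only [Pi.smul_apply, LinearMap.smul_apply, map_smul, hφ U U' h j]

theorem map_id_secRes_apply (A : Art k k) {U U' : X.affineOpens} (h : U'.1 ≤ U.1) (l : A →ₗ[k] k)
    (z : A ⊗[k] Sec x U.1) :
    cfT (Sec x U'.1) l (Algebra.TensorProduct.map (AlgHom.id k A) (secRes x h) z) = secRes x h (cfT (Sec x U.1) l z) := by
  induction z using TensorProduct.induction_on with
  | zero => simp
  | tmul a r => simp
  | add y z hy hz => simp [hy, hz]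

theorem resT_secRes (A : Art k k) {U U' : X.affineOpens} (h : U'.1 ≤ U.1) (z : A ⊗[k] Sec x U.1) :
    resT (Sec x U'.1) A (Algebra.TensorProduct.map (AlgHom.id k A) (secRes x h) z) =
      secRes x h (resT (Sec x U.1) A z) := by
  induction z using TensorProduct.induction_on with
  | zero => simp
  | tmul a r => simp
  | add y z hy hz => simp [hy, hz]

variable {I₀}

/-- The family attached to a tangent vector. -/
noncomputable def tFam (z : (localHilb X x I₀).obj (dual k k)) : NSec x I₀ :=
  ⟨fun U => (good x z U).phi, fun U U' h j => by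
    obtain ⟨w, hw, hwj⟩ := (good x z U).exists_mem j.2
    rw [(good x z U).phi_spec hw hwj, qRes_mk,
      (good x z U').phi_spec (secI_secRes x z.1 h hw) (j := ⟨secRes x h j, secRes_mem x I₀ h j.2⟩)
        (by rw [resT_secRes, hwj])]
    exact congrArg _ (map_id_secRes_apply x (dual k k) h _ w)⟩

theorem tFam_apply (z : (localHilb X x I₀).obj (dual k k)) (U : X.affineOpens) :
    (tFam x z).1 U = (good x z U).phi := rfl

theorem tFam_bijective : Function.Bijective (tFam x (I₀ := I₀)) := by
  constructor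
  · intro z z' h
    refine obj_ext x fun U => ?_
    rw [(good x z U).eq_phiIdeal, (good x z' U).eq_phiIdeal, ← tFam_apply, ← tFam_apply, h]
  · intro φ
    obtain ⟨z, hz⟩ := exists_obj x (fun U => phiIdeal (k := k) _ _ (φ.1 U)) (fun U => good_phiIdeal (k := k) (φ.1 U))
      (fun U U' h w hw => by
        obtain ⟨hw1, hw2⟩ := hw
        refine ⟨by rw [resT_secRes]; exact secRes_mem x I₀ h hw1, ?_⟩
        refine (congrArg (φ.1 U') (Subtype.ext (resT_secRes x (dual k k) h w))).trans ((φ.2 U U' h ⟨_, hw1⟩).trans ?_)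
        rw [hw2, qRes_mk]
        exact congrArg _ (map_id_secRes_apply x (dual k k) h _ w).symm)
    refine ⟨z, Subtype.ext (funext fun U => ?_)⟩
    rw [tFam_apply]
    have key : ∀ (I : Ideal ((dual k k) ⊗[k] Sec x U.1)) (g : Good (Sec x U.1) (J₀ x I₀ U) (dual k k) I),
        I = phiIdeal (k := k) _ _ (φ.1 U) → g.phi = φ.1 U := by
      rintro I g rfl
      exact phi_phiIdeal (k := k) (φ.1 U)
    exact key _ _ (hz U)

theorem tFam_scale (c : k) (z : (localHilb X x I₀).obj (dual k k)) :
    tFam x ((localHilb X x I₀).map (scale c) z) = c • tFam x z := by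
  refine Subtype.ext (funext fun U => LinearMap.ext fun j => ?_)
  obtain ⟨w, hw, hwj⟩ := (good x z U).exists_mem j.2
  have hw' : mapT (Sec x U.1) (scale c) w ∈ secI x ((localHilb X x I₀).map (scale c) z).1 U :=
    (secI_map x (scale c) z U).symm ▸ Ideal.mem_map_of_mem _ hw
  change (good x _ U).phi j = c • (good x z U).phi j
  rw [(good x _ U).phi_spec hw' ((resT_mapT ..).trans hwj), (good x z U).phi_spec hw hwj, cfε, cfT_mapT]
  refine Eq.trans ?_ (map_smul (Ideal.Quotient.mkₐ k (J₀ x I₀ U)) c _)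
  refine congrArg (Ideal.Quotient.mk _) ?_
  rw [← LinearMap.smul_apply]
  refine congrArg (fun f : (dual k k) ⊗[k] Sec x U.1 →ₗ[k] Sec x U.1 => f w) (TensorProduct.ext' fun a r => ?_)
  rw [LinearMap.smul_apply, cfT_tmul, cfT_tmul]
  exact mul_smul c (TrivSqZeroExt.snd (a : DualNumber k)) r

theorem tFam_plus (z : (localHilb X x I₀).obj (dual2 k k)) :
    tFam x ((localHilb X x I₀).map plus z) =
      tFam x ((localHilb X x I₀).map pr₁ z) + tFam x ((localHilb X x I₀).map pr₂ z) := by
  refine Subtype.ext (funext fun U => LinearMap.ext fun j => ?_)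
  obtain ⟨w, hw, hwj⟩ := (good x z U).exists_mem j.2
  have hm : ∀ g : dual2 k k ⟶ dual k k, mapT (Sec x U.1) g w ∈ secI x ((localHilb X x I₀).map g z).1 U :=
    fun g => (secI_map x g z U).symm ▸ Ideal.mem_map_of_mem _ hw
  change (good x _ U).phi j = (good x _ U).phi j + (good x _ U).phi j
  rw [(good x _ U).phi_spec (hm plus) ((resT_mapT ..).trans hwj), (good x _ U).phi_spec (hm pr₁) ((resT_mapT ..).trans hwj),
    (good x _ U).phi_spec (hm pr₂) ((resT_mapT ..).trans hwj), cfε, cfT_mapT, cfT_mapT, cfT_mapT, ← map_add,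
    ← LinearMap.add_apply]
  refine congrArg _ (congrArg (fun f : (dual2 k k) ⊗[k] Sec x U.1 →ₗ[k] Sec x U.1 => f w)
    (TensorProduct.ext' fun a r => ?_))
  rw [LinearMap.add_apply, cfT_tmul, cfT_tmul, cfT_tmul, ← add_smul]
  rfl

/-- The tangent space is the space of compatible families. -/
theorem nonempty_tangent_linearEquiv [TangentStr (localHilb X x I₀)] :
    Nonempty (TangentSpace (localHilb X x I₀) ≃ₗ[k] NSec x I₀) := by
  letI := (‹TangentStr (localHilb X x I₀)›).addCommGroup
  letI := (‹TangentStr (localHilb X x I₀)›).module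
  let e : TangentSpace (localHilb X x I₀) →ₗ[k] NSec x I₀ :=
    { toFun := fun z => tFam x z
      map_add' := fun a b => by
        obtain ⟨w, hw⟩ := (isLeftExact x (I₀ := I₀) pr₁ pr₂ _ _ isFibreProd_dual2).2
          ⟨(a, b), (h0 x).2.elim _ _⟩
        have h1 : (localHilb X x I₀).map pr₁ w = a := congrArg (fun p => p.1.1) hw
        have h2 : (localHilb X x I₀).map pr₂ w = b := congrArg (fun p => p.1.2) hw
        rw [← h1, ← h2]
        exact (congrArg (tFam x) (TangentStr.add_eq w)).trans (tFam_plus x w)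
      map_smul' := fun c a => (congrArg (tFam x) (TangentStr.smul_eq c a)).trans (tFam_scale x c a) }
  exact ⟨LinearEquiv.ofBijective e (tFam_bijective x)⟩

end Groth.Agent.LHilb
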