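import Groth.Agent.ArtKit.Basic
import Groth.Agent.ArtFib.Basic
import Groth.Prelude.Def_ArtFun2
import Mathlib

/-!
# Fibres of a homogeneous functor along semismall extensions
-/

set_option autoImplicit false
universe u v

open CategoryTheory ArtFun ArtFun.Art

namespace Groth.Agent.LHilb

variable {k : Type u} [Field k] {F : Art k k ⥤ Type v}

/-- `k ⊕ kⁿ`. -/
noncomputable def splitN (n : ℕ) : Art k k :=
  { carrier := TrivSqZeroExt k (Fin n → k)
    isLocalRing := isLocalRing_tsze k (Fin n → k)
    isArtinianRing := isArtinianRing_tsze k (Fin n → k)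
    res := TrivSqZeroExt.fstHom k k (Fin n → k)
    res_surjective := fun a => ⟨TrivSqZeroExt.inl a, rfl⟩ }

/-- The first `n` coordinates. -/
noncomputable def prInit (n : ℕ) : splitN (k := k) (n + 1) ⟶ splitN n :=
  ⟨tszeMap (LinearMap.pi fun i => LinearMap.proj i.castSucc), AlgHom.ext fun _ => rfl⟩

/-- The last coordinate. -/
noncomputable def prLast (n : ℕ) : splitN (k := k) (n + 1) ⟶ dual k k :=
  ⟨tszeMap (LinearMap.proj (Fin.last n)), AlgHom.ext fun _ => rfl⟩

theorem isFibreProd_splitN (n : ℕ) :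
    IsFibreProd (prInit (k := k) n) (prLast n) (toBase _) (toBase _) where
  w := by rw [eq_toBase (prInit n ≫ toBase _), eq_toBase (prLast n ≫ toBase _)]
  inj b₁ b₂ h₁ h₂ := by
    refine TrivSqZeroExt.ext (congrArg TrivSqZeroExt.fst h₂ :) (funext fun i => ?_)
    refine Fin.lastCases ?_ (fun j => ?_) i
    · exact (congrArg TrivSqZeroExt.snd h₂ :)
    · exact (congrFun (congrArg TrivSqZeroExt.snd h₁) j :)
  surj a' a'' h := by
    have h' : TrivSqZeroExt.fst (a' : TrivSqZeroExt k (Fin n → k)) = TrivSqZeroExt.fst (a'' : DualNumber k) := h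
    refine ⟨((TrivSqZeroExt.fst (a' : TrivSqZeroExt k (Fin n → k)),
      Fin.snoc (TrivSqZeroExt.snd (a' : TrivSqZeroExt k (Fin n → k))) (TrivSqZeroExt.snd (a'' : DualNumber k))) :
      TrivSqZeroExt k (Fin (n + 1) → k)), ?_, ?_⟩
    · exact TrivSqZeroExt.ext rfl (funext fun i => Fin.snoc_castSucc (α := fun _ => k) _ _ i)
    · exact TrivSqZeroExt.ext h' (Fin.snoc_last (α := fun _ => k) _ _)

/-- `F(k ⊕ kⁿ) = tⁿ`. -/
theorem nonempty_splitN_equiv (h0 : H0 F) (h2 : Heps F) (n : ℕ) :
    Nonempty (F.obj (splitN n) ≃ (Fin n → F.obj (dual k k))) := by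
  induction n with
  | zero =>
    haveI : IsIso (toBase (splitN (k := k) 0)) := by
      refine ArtKit.isIso_of_bijective _ ⟨fun a b h => ?_, fun c => ⟨TrivSqZeroExt.inl c, rfl⟩⟩
      exact TrivSqZeroExt.ext h (Subsingleton.elim _ _)
    haveI : Subsingleton (F.obj (base k k)) := h0.2
    obtain ⟨c⟩ := h0.1
    exact ⟨
      { toFun := fun _ => Fin.elim0
        invFun := fun _ => F.map (inv (toBase _)) c
        left_inv := fun a => (congrArg (F.map (inv (toBase _))) (Subsingleton.elim _ _)).trans
          (ArtKit.map_inv_app F (toBase _) a)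
        right_inv := fun _ => funext fun i => i.elim0 }⟩
  | succ n ih =>
    obtain ⟨e⟩ := ih
    haveI : Subsingleton (F.obj (base k k)) := h0.2
    exact ⟨(Equiv.ofBijective _ (h2 _ _ (isFibreProd_splitN n))).trans <|
      (Equiv.subtypeUnivEquiv fun p => Subsingleton.elim _ _).trans <|
      ((Equiv.prodCongr e (Equiv.refl _)).trans (Equiv.prodComm _ _)).trans (Fin.snocEquiv fun _ => F.obj (dual k k))⟩

/-- A non-empty fibre along a semismall extension is `tⁿ`, `n` the dimension of the kernel. -/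
theorem exists_fibre_equiv (h0 : H0 F) (h2 : Heps F)
    (hsur : ∀ ⦃B A A' A'' : Art k k⦄ (p' : B ⟶ A') (p'' : B ⟶ A'') (f' : A' ⟶ A) (f'' : A'' ⟶ A)
      (h : IsFibreProd p' p'' f' f''), Function.Surjective f'' → Function.Bijective (cmp F h))
    {B A : Art k k} (p : B ⟶ A) (hp : IsSemismallExt p) (x : F.obj A) (y : F.obj B) (hy : F.map p y = x) :
    ∃ n : ℕ, Nonempty ({y' : F.obj B // F.map p y' = x} ≃ (Fin n → F.obj (dual k k))) ∧
      Module.finrank k (RingHom.ker p.toAlgHom) = n ∧ Module.Finite k (RingHom.ker p.toAlgHom) := by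
  haveI : Module.Finite k B := ArtFib.module_finite B
  haveI hfin : Module.Finite k (RingHom.ker p.toAlgHom) :=
    Module.Finite.of_injective (M := (RingHom.ker p.toAlgHom : Ideal B)) (N := B.carrier)
      ((Submodule.subtype (RingHom.ker p.toAlgHom)).restrictScalars k) Subtype.val_injective
  let n := Module.finrank k (RingHom.ker p.toAlgHom)
  let e : (Fin n → k) ≃ₗ[k] (RingHom.ker p.toAlgHom : Ideal B) :=
    (Module.finBasis k (RingHom.ker p.toAlgHom)).equivFun.symm
  obtain ⟨P, p₁, p₂, hP⟩ := ArtFib.exists_isFibreProd_of_surjective p p hp.1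
  have hd : ∀ z : P, p₂ z - p₁ z ∈ RingHom.ker p.toAlgHom := fun z => by
    rw [RingHom.mem_ker, map_sub, sub_eq_zero]
    exact (hP.w_apply z).symm
  have hkill : ∀ (b : B) (j : (RingHom.ker p.toAlgHom : Ideal B)), b * (j : B) = B.res b • (j : B) := fun b j => by
    rw [Algebra.smul_def, ← sub_eq_zero, ← sub_mul]
    have : b - algebraMap k B (B.res b) ∈ IsLocalRing.maximalIdeal B := by
      rw [mem_maximalIdeal_iff, map_sub, AlgHom.commutes, Algebra.algebraMap_self_apply, sub_self]
    exact (Ideal.mem_bot).1 (hp.2 ▸ Ideal.mul_mem_mul this j.2)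
  let d : P →ₗ[k] (Fin n → k) := e.symm.toLinearMap ∘ₗ
    ({ toFun := fun z => ⟨p₂ z - p₁ z, hd z⟩
       map_add' := fun a b => Subtype.ext (by
        change p₂.toAlgHom (a + b) - p₁.toAlgHom (a + b) = (p₂ a - p₁ a) + (p₂ b - p₁ b)
        rw [map_add, map_add]; abel)
       map_smul' := fun c a => Subtype.ext (by
        change p₂.toAlgHom (c • a) - p₁.toAlgHom (c • a) = c • (p₂ a - p₁ a)
        rw [map_smul, map_smul, smul_sub]) } : P →ₗ[k] (RingHom.ker p.toAlgHom : Ideal B))
  have hed : ∀ z, ((e (d z) : (RingHom.ker p.toAlgHom : Ideal B)) : B) = p₂ z - p₁ z := fun z => by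
    simp [d]
  have hdmul : ∀ z z', d (z * z') = P.res z • d z' + P.res z' • d z := fun z z' => by
    refine e.injective (Subtype.ext ?_)
    rw [map_add, map_smul, map_smul, Submodule.coe_add, Submodule.coe_smul_of_tower, Submodule.coe_smul_of_tower, hed,
      hed, hed]
    change p₂.toAlgHom (z * z') - p₁.toAlgHom (z * z') = _
    rw [map_mul, map_mul, ← res_app p₂ z, ← res_app p₁ z']
    have h1 := hkill (p₂ z) ⟨_, hd z'⟩
    have h2' := hkill (p₁ z') ⟨_, hd z⟩
    dsimp only at h1 h2'
    rw [← h1, ← h2']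
    ring
  have hd1 : d 1 = 0 := by
    refine e.injective (Subtype.ext ?_)
    rw [hed, map_zero, ZeroMemClass.coe_zero]
    change p₂.toAlgHom 1 - p₁.toAlgHom 1 = 0
    rw [map_one, map_one, sub_self]
  let g : P ⟶ splitN n :=
    ⟨AlgHom.mk'
      ({ toFun := fun z => ((P.res z, d z) : TrivSqZeroExt k (Fin n → k))
         map_one' := TrivSqZeroExt.ext (map_one P.res) hd1
         map_mul' := fun z z' => TrivSqZeroExt.ext (map_mul P.res z z') ((hdmul z z').trans (by
           change _ = P.res z • d z' + MulOpposite.op (P.res z') • d z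
           rw [op_smul_eq_smul]))
         map_zero' := TrivSqZeroExt.ext (map_zero P.res) (map_zero d)
         map_add' := fun z z' => TrivSqZeroExt.ext (map_add P.res z z') (map_add d z z') } :
        P →+* TrivSqZeroExt k (Fin n → k))
      (fun c z => TrivSqZeroExt.ext (map_smul P.res c z) (map_smul d c z)), AlgHom.ext fun _ => rfl⟩
  have hP' : IsFibreProd p₁ g (toBase B) (toBase (splitN n)) :=
    { w := by rw [eq_toBase (p₁ ≫ toBase _), eq_toBase (g ≫ toBase _)]
      inj := fun a b h₁ h₂ => hP.inj a b h₁ (by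
        have : d a = d b := (congrArg TrivSqZeroExt.snd h₂ :)
        have h3 := congrArg (fun v => ((e v : (RingHom.ker p.toAlgHom : Ideal B)) : B)) this
        simp only [hed, h₁] at h3
        exact sub_left_inj.1 h3)
      surj := fun b v hbv => by
        let w : Fin n → k := TrivSqZeroExt.snd (v : TrivSqZeroExt k (Fin n → k))
        have hb : p b = p (b + (e w : (RingHom.ker p.toAlgHom : Ideal B))) := by
          change p.toAlgHom b = p.toAlgHom (b + _)
          rw [map_add, RingHom.mem_ker.1 (e w).2, add_zero]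
        obtain ⟨z, hz₁, hz₂⟩ := hP.surj b _ hb
        refine ⟨z, hz₁, TrivSqZeroExt.ext ?_ ?_⟩
        · change P.res z = _
          rw [← res_app p₁ z, hz₁]
          exact hbv
        · change d z = w
          refine e.injective (Subtype.ext ?_)
          rw [hed, hz₁, hz₂, add_sub_cancel_left] }
  have hsur' : Function.Surjective (toBase (splitN (k := k) n)) := fun c => ⟨TrivSqZeroExt.inl c, rfl⟩
  haveI : Subsingleton (F.obj (base k k)) := h0.2
  let α := Equiv.ofBijective _ (hsur p₁ p₂ p p hP hp.1)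
  let β := (Equiv.ofBijective _ (hsur p₁ g _ _ hP' hsur')).trans (Equiv.subtypeUnivEquiv fun q => Subsingleton.elim _ _)
  obtain ⟨ε⟩ := nonempty_splitN_equiv h0 h2 n
  refine ⟨n, ⟨Equiv.trans
    { toFun := fun y' => (β (α.symm ⟨(y, y'.1), hy.trans y'.2.symm⟩)).2
      invFun := fun v => ⟨F.map p₂ (β.symm (y, v)), by
        have h1 : F.map p₁ (β.symm (y, v)) = y := congrArg Prod.fst (β.apply_symm_apply (y, v))
        exact ((α (β.symm (y, v))).2.symm.trans (congrArg (F.map p) h1)).trans hy⟩
      left_inv := fun y' => Subtype.ext (by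
        let z := α.symm ⟨(y, y'.1), hy.trans y'.2.symm⟩
        have hz : β z = (y, (β z).2) := Prod.ext (congrArg (fun q => q.1.1) (α.apply_symm_apply _) :) rfl
        change F.map p₂ (β.symm (y, (β z).2)) = y'.1
        rw [← hz, Equiv.symm_apply_apply]
        exact (congrArg (fun q => q.1.2) (α.apply_symm_apply _) :))
      right_inv := fun v => by
        have h1 : F.map p₁ (β.symm (y, v)) = y := congrArg Prod.fst (β.apply_symm_apply (y, v))
        refine Eq.trans ?_ (congrArg Prod.snd (β.apply_symm_apply (y, v)))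
        refine congrArg (fun z => (β z).2) (α.injective ?_)
        rw [Equiv.apply_symm_apply]
        exact Subtype.ext (Prod.ext h1.symm rfl) } ε⟩, rfl, hfin⟩

end Groth.Agent.LHilb
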